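import Cfsg.Agent.Lib.IIG.CaseII

/-!
# Case III: square roots of a central involution
-/

set_option autoImplicit false
set_option linter.unusedSectionVars false
set_option linter.unusedVariables false

namespace Cfsg.Agent.Lib.IIG

open Subgroup Cfsg

universe u

variable {G : Type u} [Group G] [Finite G]

theorem sq_comm_of_conj {r x : G} (h : r * x * r⁻¹ = x ∨ r * x * r⁻¹ = x⁻¹) :
    (r * r) * x = x * (r * r) := by
  have h1 : (r * r) * x * (r * r)⁻¹ = x := by
    have e : (r * r) * x * (r * r)⁻¹ = r * (r * x * r⁻¹) * r⁻¹ := by group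
    rcases h with h | h
    · rw [e, h, h]
    · have e2 : r * x⁻¹ * r⁻¹ = (r * x * r⁻¹)⁻¹ := by group
      rw [e, h, e2, h, inv_inv]
  calc (r * r) * x = (r * r) * x * (r * r)⁻¹ * (r * r) := by group
    _ = x * (r * r) := by rw [h1]

/-- Roots of two different commuting involutions, each commuting with the other involution,
commute. -/
theorem comm_of_roots (hII : II G) {v t a b : G} (hv : orderOf v = 2) (ht : orderOf t = 2)
    (hvt : v ≠ t) (ha : a * a = v) (hb : b * b = t) (hat : a * t = t * a) (hbv : b * v = v * b) :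
    a * b = b * a := by
  rcases conj_root hII ht hb hat with h1 | h1
  · calc a * b = a * b * a⁻¹ * a := by group
      _ = b * a := by rw [h1]
  rcases conj_root hII hv ha hbv with h2 | h2
  · have : b * a = a * b := by
      calc b * a = b * a * b⁻¹ * b := by group
        _ = a * b := by rw [h2]
    exact this.symm
  exfalso
  apply hvt
  have htinv := inv_eq_self_of_order ht
  have e1 : a * b * a⁻¹ * b⁻¹ = t := by
    rw [h1, ← htinv, ← hb]; group
  have e2 : a * b * a⁻¹ * b⁻¹ = v := by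
    have : b * a⁻¹ * b⁻¹ = a := by
      have e3 : b * a⁻¹ * b⁻¹ = (b * a * b⁻¹)⁻¹ := by group
      rw [e3, h2, inv_inv]
    calc a * b * a⁻¹ * b⁻¹ = a * (b * a⁻¹ * b⁻¹) := by group
      _ = a * a := by rw [this]
      _ = v := ha
  rw [← e2, e1]

/-- A root of `v` commuting with `t` forces every root of `t` to commute with `v`. -/
theorem comm_of_root_comm (hII : II G) {v t w b : G} (ht : orderOf t = 2) (hw : w * w = v)
    (hwt : w * t = t * w) (hb : b * b = t) : b * v = v * b := by
  have h1 := sq_comm_of_conj (conj_root hII ht hb hwt)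
  rw [hw] at h1
  exact h1.symm

/-- The context of branch E. -/
structure CE (S : Sylow 2 G) (v : G) : Prop where
  ii : II G
  hv : orderOf v = 2
  hvS : v ∈ (S : Subgroup G)
  hvZ : ∀ s ∈ (S : Subgroup G), s * v = v * s
  hCS : ∀ x, x * v = v * x → x ∈ (S : Subgroup G)
  hH3 : ∀ z ∈ (S : Subgroup G), orderOf z = 2 → (∀ s ∈ (S : Subgroup G), s * z = z * s) →
    ∀ x, x * z = z * x → x ∈ (S : Subgroup G)

variable {S : Sylow 2 G} {v : G}

namespace CE

theorem root_S (c : CE S v) {x : G} (hx : x * x = v) : x ∈ (S : Subgroup G) :=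
  c.hCS x (by rw [← hx]; group)

theorem conj_cases (c : CE S v) {x y : G} (hx : x * x = v) (hy : y ∈ (S : Subgroup G)) :
    y * x * y⁻¹ = x ∨ y * x * y⁻¹ = x⁻¹ :=
  conj_root c.ii c.hv hx (c.hvZ y hy)

theorem vv (c : CE S v) : v * v = 1 := sq_eq_one_of_order c.hv

theorem cases_y (c : CE S v) {B y : G} (hB : B * B = v) (hy : y ∈ (S : Subgroup G))
    (hyB : y * B * y⁻¹ = B⁻¹) : y * y = 1 ∨ v ∈ zpowers y := by
  by_cases hyy : y * y = 1
  · exact Or.inl hyy
  right
  obtain ⟨k, hk⟩ := orderOf_two_elt S hy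
  obtain ⟨r, hr, hro⟩ := exists_root hk hyy
  have hrS : r ∈ (S : Subgroup G) := (zpowers_le.mpr hy) hr
  have h1 := sq_comm_of_conj (c.conj_cases hB hrS)
  have hy₀ : r * r ∈ zpowers y := (zpowers y).mul_mem hr hr
  have h2 : B * y * B⁻¹ ∈ zpowers y := conj_mem_of_mem c.ii hro hy₀ h1.symm
  have h3 : y * B⁻¹ * y⁻¹ = B := by
    have e : y * B⁻¹ * y⁻¹ = (y * B * y⁻¹)⁻¹ := by group
    rw [e, hyB, inv_inv]
  have e : v = (B * y * B⁻¹) * y⁻¹ := by
    calc v = B * B := hB.symm
      _ = B * (y * B⁻¹ * y⁻¹) := by rw [h3]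
      _ = (B * y * B⁻¹) * y⁻¹ := by group
  rw [e]
  exact (zpowers y).mul_mem h2 ((zpowers y).inv_mem (mem_zpowers y))

/-- Type 1. -/
theorem type1 (c : CE S v) {t x c₀ : G} (ht : orderOf t = 2) (htS : t ∈ (S : Subgroup G))
    (htv : t ≠ v) (hx : x * x = v) (hxt : x * t = t * x) (hc₀ : c₀ * c₀ = t) {y : G}
    (hy : y ∈ (S : Subgroup G)) : y * t = t * y := by
  by_contra hyt
  have htt := sq_eq_one_of_order ht
  have htinv := inv_eq_self_of_order ht
  have hvinv := inv_eq_self_of_order c.hv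
  have htvc : t * v = v * t := c.hvZ t htS
  have hcv : c₀ * v = v * c₀ := comm_of_root_comm c.ii ht hx hxt hc₀
  have hL : ∀ r, r * r = v → r * t = t * r := fun r hr => comm_of_root_comm c.ii c.hv hc₀ hcv hr
  have hcS : c₀ ∈ (S : Subgroup G) := c.hCS c₀ hcv
  have htx : (t * x) * (t * x) = v := by
    calc (t * x) * (t * x) = t * (x * t) * x := by group
      _ = t * (t * x) * x := by rw [hxt]
      _ = (t * t) * (x * x) := by group
      _ = v := by rw [htt, one_mul, hx]
  have hxinv : x⁻¹ * t = t * x⁻¹ := by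
    calc x⁻¹ * t = x⁻¹ * (t * x) * x⁻¹ := by group
      _ = x⁻¹ * (x * t) * x⁻¹ := by rw [hxt]
      _ = t * x⁻¹ := by group
  have hxx : x⁻¹ * x⁻¹ = v := by
    have : (x * x) * (x⁻¹ * x⁻¹) = 1 := by group
    rw [hx] at this
    have h2 := eq_inv_of_mul_eq_one_right this
    rw [h2, hvinv]
  -- the structure of the action of `y`
  have key : ∃ A B : G, A * A = v ∧ B * B = v ∧ A * t = t * A ∧ y * A * y⁻¹ = A ∧
      y * B * y⁻¹ = B⁻¹ ∧ y * t * y⁻¹ = t * v := by
    have e0 : y * (t * x) * y⁻¹ = (y * t * y⁻¹) * (y * x * y⁻¹) := by group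
    have hne : y * t * y⁻¹ ≠ t := by
      intro h0
      apply hyt
      calc y * t = y * t * y⁻¹ * y := by group
        _ = t * y := by rw [h0]
    rcases c.conj_cases hx hy with h1 | h1 <;> rcases c.conj_cases htx hy with h2 | h2
    · exfalso
      rw [e0, h1] at h2
      exact hne (mul_right_cancel h2)
    · refine ⟨x, t * x, hx, htx, hxt, h1, h2, ?_⟩
      rw [e0, h1, mul_inv_rev, htinv] at h2
      calc y * t * y⁻¹ = y * t * y⁻¹ * x * x⁻¹ := by group
        _ = x⁻¹ * t * x⁻¹ := by rw [h2]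
        _ = t * x⁻¹ * x⁻¹ := by rw [hxinv]
        _ = t * (x⁻¹ * x⁻¹) := by group
        _ = t * v := by rw [hxx]
    · refine ⟨t * x, x, htx, hx, hL _ htx, h2, h1, ?_⟩
      rw [e0, h1] at h2
      calc y * t * y⁻¹ = y * t * y⁻¹ * x⁻¹ * x := by group
        _ = t * x * x := by rw [h2]
        _ = t * (x * x) := by group
        _ = t * v := by rw [hx]
    · exfalso
      rw [e0, h1, mul_inv_rev, htinv, hxinv] at h2
      exact hne (mul_right_cancel h2)
  obtain ⟨A, B, hA, hB, hAt, hyA, hyB, hyt'⟩ := key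
  have hyAc : y * A = A * y := by
    calc y * A = y * A * y⁻¹ * y := by group
      _ = A * y := by rw [hyA]
  rcases c.cases_y hB hy hyB with hyy | hvy
  · apply hyt
    have hr : (y * A) * (y * A) = v := by
      calc (y * A) * (y * A) = y * (A * y) * A := by group
        _ = y * (y * A) * A := by rw [hyAc]
        _ = (y * y) * (A * A) := by group
        _ = v := by rw [hyy, one_mul, hA]
    have h1 := hL _ hr
    have h2 : y * t * A = t * y * A := by
      calc y * t * A = y * (t * A) := by group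
        _ = y * (A * t) := by rw [hAt]
        _ = t * (y * A) := by rw [← mul_assoc, h1]
        _ = t * y * A := by group
    exact mul_right_cancel h2
  · -- `v ∈ ⟨y⟩`
    have hc1 : c₀ * y * c₀⁻¹ ∈ zpowers y := conj_mem_of_mem c.ii c.hv hvy hcv
    set c₁ := y * c₀ * y⁻¹ with hc₁
    have hc₁c₁ : c₁ * c₁ = t * v := by
      have : c₁ * c₁ = y * (c₀ * c₀) * y⁻¹ := by rw [hc₁]; group
      rw [this, hc₀, hyt']
    have hc₁S : c₁ ∈ (S : Subgroup G) :=
      (S : Subgroup G).mul_mem ((S : Subgroup G).mul_mem hy hcS) ((S : Subgroup G).inv_mem hy)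
    have hc₁v : c₁ * v = v * c₁ := c.hvZ c₁ hc₁S
    have htvo : orderOf (t * v) = 2 := by
      refine order_two_of ?_ ?_
      · calc t * v * (t * v) = t * (v * t) * v := by group
          _ = t * (t * v) * v := by rw [htvc]
          _ = (t * t) * (v * v) := by group
          _ = 1 := by rw [htt, c.vv, one_mul]
      · intro h0
        apply htv
        have h1 : t = v⁻¹ := eq_inv_of_mul_eq_one_left h0
        rw [h1, hvinv]
    have hne' : t ≠ t * v := by
      intro h0
      exact ne_one_of_order_two c.hv (by simpa using h0.symm)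
    have hc₀tv : c₀ * (t * v) = (t * v) * c₀ := by
      have h1 : c₀ * t = t * c₀ := by rw [← hc₀]; group
      calc c₀ * (t * v) = (c₀ * t) * v := by group
        _ = t * c₀ * v := by rw [h1]
        _ = t * (c₀ * v) := by group
        _ = t * (v * c₀) := by rw [hcv]
        _ = (t * v) * c₀ := by group
    have hc₁t : c₁ * t = t * c₁ := by
      have h1 : c₁ * (t * v) = (t * v) * c₁ := by rw [← hc₁c₁]; group
      have h2 : c₁ * t * v = t * c₁ * v := by
        calc c₁ * t * v = c₁ * (t * v) := by group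
          _ = (t * v) * c₁ := h1
          _ = t * (v * c₁) := by group
          _ = t * (c₁ * v) := by rw [hc₁v]
          _ = t * c₁ * v := by group
      exact mul_right_cancel h2
    have hcomm : c₀ * c₁ = c₁ * c₀ := comm_of_roots c.ii ht htvo hne' hc₀ hc₁c₁ hc₀tv hc₁t
    set r := c₁ * c₀⁻¹ with hr
    have hrmem : r ∈ zpowers y := by
      have e : r = y * (c₀ * y * c₀⁻¹)⁻¹ := by rw [hr, hc₁]; group
      rw [e]
      exact (zpowers y).mul_mem (mem_zpowers y) ((zpowers y).inv_mem hc1)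
    have hry : y * r = r * y := comm_of_mem_zpowers hrmem (by group)
    have hrr : r * r = v := by
      have hc₀inv : c₀⁻¹ * c₀⁻¹ = t := by
        have : (c₀ * c₀) * (c₀⁻¹ * c₀⁻¹) = 1 := by group
        rw [hc₀] at this
        have h2 := eq_inv_of_mul_eq_one_right this
        rw [h2, htinv]
      have hcc : c₀⁻¹ * c₁ = c₁ * c₀⁻¹ := by
        calc c₀⁻¹ * c₁ = c₀⁻¹ * (c₁ * c₀) * c₀⁻¹ := by group
          _ = c₀⁻¹ * (c₀ * c₁) * c₀⁻¹ := by rw [hcomm]
          _ = c₁ * c₀⁻¹ := by group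
      calc r * r = c₁ * (c₀⁻¹ * c₁) * c₀⁻¹ := by rw [hr]; group
        _ = c₁ * (c₁ * c₀⁻¹) * c₀⁻¹ := by rw [hcc]
        _ = (c₁ * c₁) * (c₀⁻¹ * c₀⁻¹) := by group
        _ = t * v * t := by rw [hc₁c₁, hc₀inv]
        _ = (v * t) * t := by rw [htvc]
        _ = v * (t * t) := by group
        _ = v := by rw [htt, mul_one]
    have h1 : y * c₀ * y⁻¹ = r * c₀ := by rw [hr, hc₁]; group
    have h2 : (y * y) * c₀ * (y * y)⁻¹ = v * c₀ := by
      have e : (y * y) * c₀ * (y * y)⁻¹ = y * (y * c₀ * y⁻¹) * y⁻¹ := by group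
      rw [e, h1]
      have e2 : y * (r * c₀) * y⁻¹ = (y * r) * c₀ * y⁻¹ := by group
      rw [e2, hry]
      have e3 : r * y * c₀ * y⁻¹ = r * (y * c₀ * y⁻¹) := by group
      rw [e3, h1, ← mul_assoc, hrr]
    have h3 : (y * y) * t = t * (y * y) := by
      have e : (y * y) * t * (y * y)⁻¹ = t := by
        have e1 : (y * y) * t * (y * y)⁻¹ = y * (y * t * y⁻¹) * y⁻¹ := by group
        have hyv : y * v * y⁻¹ = v := by rw [c.hvZ y hy]; group
        rw [e1, hyt']
        calc y * (t * v) * y⁻¹ = (y * t * y⁻¹) * (y * v * y⁻¹) := by group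
          _ = t * v * v := by rw [hyt', hyv]
          _ = t * (v * v) := by group
          _ = t := by rw [c.vv, mul_one]
      calc (y * y) * t = (y * y) * t * (y * y)⁻¹ * (y * y) := by group
        _ = t * (y * y) := by rw [e]
    rcases conj_root c.ii ht hc₀ h3 with h4 | h4
    · rw [h2] at h4
      exact ne_one_of_order_two c.hv (by simpa using h4)
    · rw [h2] at h4
      apply htv
      have h5 : v = c₀⁻¹ * c₀⁻¹ := by
        have : v * c₀ * c₀⁻¹ = c₀⁻¹ * c₀⁻¹ := by rw [h4]
        simpa using this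
      have hc₀inv : c₀⁻¹ * c₀⁻¹ = t := by
        have : (c₀ * c₀) * (c₀⁻¹ * c₀⁻¹) = 1 := by group
        rw [hc₀] at this
        have h2 := eq_inv_of_mul_eq_one_right this
        rw [h2, htinv]
      rw [h5, hc₀inv]

end CE

end Cfsg.Agent.Lib.IIG
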