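import Cfsg.Agent.Lib.IIG.CaseE

/-!
# Case III: conjugates of a central involution with several square roots are central
-/

set_option autoImplicit false
set_option linter.unusedSectionVars false
set_option linter.unusedVariables false

namespace Cfsg.Agent.Lib.IIG

open Subgroup Cfsg

universe u

variable {G : Type u} [Group G] [Finite G] {S : Sylow 2 G} {v : G}

namespace CE

/-- Type 2 does not occur. -/
theorem type2 (c : CE S v) {t a a' c₀ : G} (ht : orderOf t = 2) (htS : t ∈ (S : Subgroup G))
    (htv : t ≠ v) (hno : ∀ x, x * x = v → x * t ≠ t * x) (ha : a * a = v) (ha' : a' * a' = v)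
    (hne : a' ≠ a) (hne' : a' ≠ a⁻¹) (hc₀ : c₀ * c₀ = t) : False := by
  have htt := sq_eq_one_of_order ht
  have htinv := inv_eq_self_of_order ht
  have hvinv := inv_eq_self_of_order c.hv
  have htvc : t * v = v * t := c.hvZ t htS
  have tinv : ∀ x, x * x = v → t * x * t⁻¹ = x⁻¹ := by
    intro x hx
    rcases c.conj_cases hx htS with h | h
    · exfalso
      apply hno x hx
      calc x * t = t * x * t⁻¹ * t := by rw [h]
        _ = t * x := by group
    · exact h
  have hcv : c₀ * v ≠ v * c₀ := by
    intro h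
    exact hno a ha (comm_of_root_comm c.ii c.hv hc₀ h ha)
  have vinv : v * c₀ * v⁻¹ = c₀⁻¹ := by
    rcases conj_root c.ii ht hc₀ htvc.symm with h | h
    · exfalso
      apply hcv
      calc c₀ * v = v * c₀ * v⁻¹ * v := by rw [h]
        _ = v * c₀ := by group
    · exact h
  have rc : ∀ x x', x * x = v → x' * x' = v → x * x' = x' * x := by
    intro x x' hx hx'
    rcases c.conj_cases hx (c.root_S hx') with h | h
    · have : x' * x = x * x' := by
        calc x' * x = x' * x * x'⁻¹ * x' := by group
          _ = x * x' := by rw [h]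
      exact this.symm
    · have hp : (x * x') * (x * x') = v := by
        have e1 : x' * x = x⁻¹ * x' := by
          calc x' * x = x' * x * x'⁻¹ * x' := by group
            _ = x⁻¹ * x' := by rw [h]
        calc (x * x') * (x * x') = x * (x' * x) * x' := by group
          _ = x * (x⁻¹ * x') * x' := by rw [e1]
          _ = x' * x' := by group
          _ = v := hx'
      have h1 := tinv _ hp
      have e2 : t * (x * x') * t⁻¹ = (t * x * t⁻¹) * (t * x' * t⁻¹) := by group
      rw [e2, tinv _ hx, tinv _ hx', mul_inv_rev] at h1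
      have h2 := congrArg (fun w => w⁻¹) h1
      simp only [mul_inv_rev, inv_inv] at h2
      exact h2.symm
  have hinvv : ∀ x, x * x = v → x⁻¹ = x * v := by
    intro x hx
    apply inv_eq_of_mul_eq_one_left
    have e : x * v * x = (x * x) * (x * x) := by rw [← hx]; group
    rw [e, hx, c.vv]
  have hxS : ∀ x, x * x = v → x * v = v * x := fun x hx => c.hvZ x (c.root_S hx)
  -- products of roots
  have hpf : ∀ x x', x * x = v → x' * x' = v → (x * x'⁻¹) * (x * x'⁻¹) = 1 := by
    intro x x' hx hx'
    have h1 : x'⁻¹ * x = x * x'⁻¹ := by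
      calc x'⁻¹ * x = x'⁻¹ * (x * x') * x'⁻¹ := by group
        _ = x'⁻¹ * (x' * x) * x'⁻¹ := by rw [rc x x' hx hx']
        _ = x * x'⁻¹ := by group
    calc (x * x'⁻¹) * (x * x'⁻¹) = x * (x'⁻¹ * x) * x'⁻¹ := by group
      _ = x * (x * x'⁻¹) * x'⁻¹ := by rw [h1]
      _ = (x * x) * (x' * x')⁻¹ := by group
      _ = 1 := by rw [hx, hx']; group
  have ftc : ∀ x x', x * x = v → x' * x' = v → t * (x * x'⁻¹) = (x * x'⁻¹) * t := by
    intro x x' hx hx'
    have h1 : t * (x * x'⁻¹) * t⁻¹ = x * x'⁻¹ := by
      have e1 : t * (x * x'⁻¹) * t⁻¹ = (t * x * t⁻¹) * (t * x' * t⁻¹)⁻¹ := by group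
      rw [e1, tinv _ hx, tinv _ hx', inv_inv, hinvv x hx]
      have e2 : x' = x'⁻¹ * v := by
        rw [← hx']; group
      nth_rw 1 [e2]
      calc x * v * (x'⁻¹ * v) = x * (v * x'⁻¹) * v := by group
        _ = x * (x'⁻¹ * v) * v := by
          have : v * x'⁻¹ = x'⁻¹ * v := by
            have h3 := hxS x' hx'
            calc v * x'⁻¹ = x'⁻¹ * (x' * v) * x'⁻¹ := by group
              _ = x'⁻¹ * (v * x') * x'⁻¹ := by rw [h3]
              _ = x'⁻¹ * v := by group
          rw [this]
        _ = x * x'⁻¹ * (v * v) := by group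
        _ = x * x'⁻¹ := by rw [c.vv, mul_one]
    calc t * (x * x'⁻¹) = t * (x * x'⁻¹) * t⁻¹ * t := by group
      _ = (x * x'⁻¹) * t := by rw [h1]
  set f := a * a'⁻¹ with hf
  have hff : f * f = 1 := hpf a a' ha ha'
  have f1 : f ≠ 1 := by
    intro h0
    apply hne
    have : a = a' := by
      have h1 : a * a'⁻¹ * a' = a' := by rw [← hf, h0, one_mul]
      simpa using h1
    exact this.symm
  have fv : f ≠ v := by
    intro h0
    apply hne'
    have h1 : a * a'⁻¹ = a * a := by rw [← hf, h0, ha]
    have h2 : a'⁻¹ = a := mul_left_cancel h1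
    rw [← h2, inv_inv]
  have hfinv : f⁻¹ = f := inv_eq_of_mul_eq_one_left hff
  have fao : orderOf f = 2 := order_two_of hff f1
  have haS := c.root_S ha
  have ha'S := c.root_S ha'
  have fS : f ∈ (S : Subgroup G) := (S : Subgroup G).mul_mem haS ((S : Subgroup G).inv_mem ha'S)
  have froot : ∀ x, x * x = v → f * x = x * f := by
    intro x hx
    have h1 : a * x = x * a := rc a x ha hx
    have h2 : a'⁻¹ * x = x * a'⁻¹ := by
      have h3 := rc a' x ha' hx
      calc a'⁻¹ * x = a'⁻¹ * (x * a') * a'⁻¹ := by group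
        _ = a'⁻¹ * (a' * x) * a'⁻¹ := by rw [h3]
        _ = x * a'⁻¹ := by group
    calc f * x = a * (a'⁻¹ * x) := by rw [hf]; group
      _ = a * (x * a'⁻¹) := by rw [h2]
      _ = (a * x) * a'⁻¹ := by group
      _ = (x * a) * a'⁻¹ := by rw [h1]
      _ = x * f := by rw [hf]; group
  have fa' : a' = f * a := by
    have h1 : a'⁻¹ * a = a * a'⁻¹ := by
      calc a'⁻¹ * a = a'⁻¹ * (a * a') * a'⁻¹ := by group
        _ = a'⁻¹ * (a' * a) * a'⁻¹ := by rw [rc a a' ha ha']
        _ = a * a'⁻¹ := by group
    calc a' = a'⁻¹ * (a' * a') := by group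
      _ = a'⁻¹ * (a * a) := by rw [ha', ha]
      _ = (a'⁻¹ * a) * a := by group
      _ = (a * a'⁻¹) * a := by rw [h1]
      _ = f * a := by rw [hf]
  -- the key step
  have hmove : ∀ y ∈ (S : Subgroup G), y * a * y⁻¹ = a → y * f = f * y := by
    intro y hy hya
    by_contra hyf
    have hyac : y * a = a * y := by
      calc y * a = y * a * y⁻¹ * y := by group
        _ = a * y := by rw [hya]
    have hya' : y * a' * y⁻¹ = a'⁻¹ := by
      rcases c.conj_cases ha' hy with h | h
      · exfalso
        apply hyf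
        have h1 : y * f * y⁻¹ = f := by
          have e : y * f * y⁻¹ = (y * a * y⁻¹) * (y * a' * y⁻¹)⁻¹ := by rw [hf]; group
          rw [e, hya, h]
        calc y * f = y * f * y⁻¹ * y := by group
          _ = f * y := by rw [h1]
      · exact h
    have hyfy : y * f * y⁻¹ = f * v := by
      have e : y * f * y⁻¹ = (y * a * y⁻¹) * (y * a' * y⁻¹)⁻¹ := by rw [hf]; group
      rw [e, hya, hya', inv_inv, hf, ← ha']
      group
    have hy2 : y * y ≠ 1 := by
      intro hyy
      apply hyf
      have hr : (y * a) * (y * a) = v := by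
        calc (y * a) * (y * a) = y * (a * y) * a := by group
          _ = y * (y * a) * a := by rw [hyac]
          _ = (y * y) * (a * a) := by group
          _ = v := by rw [hyy, one_mul, ha]
      have h1 := froot _ hr
      have h2 := froot a ha
      have h3 : f * y * a = y * f * a := by
        calc f * y * a = f * (y * a) := by group
          _ = (y * a) * f := h1
          _ = y * (a * f) := by group
          _ = y * (f * a) := by rw [h2]
          _ = y * f * a := by group
      exact (mul_right_cancel h3).symm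
    have hyv : y * y ≠ v := fun h0 => hyf (froot y h0).symm
    rcases c.cases_y ha' hy hya' with hyy | hvy
    · exact hy2 hyy
    have h1 : t * y * t⁻¹ ∈ zpowers y := conj_mem_of_mem c.ii c.hv hvy htvc
    set n := y * (t * y * t⁻¹) with hn
    have hnz : n ∈ zpowers y := (zpowers y).mul_mem (mem_zpowers y) h1
    have hnS : n ∈ (S : Subgroup G) := (zpowers_le.mpr hy) hnz
    have hnt : n * t = t * n := inv_aux htt h1
    have hnn : n * n = 1 := by
      by_contra hne2
      obtain ⟨k, hk⟩ := orderOf_two_elt S hnS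
      obtain ⟨r, hr, hro⟩ := exists_root hk hne2
      have hry : r ∈ zpowers y := (zpowers_le.mpr hnz) hr
      have hrr : r * r = v := uniq_invol_zpowers hvy c.hv ((zpowers y).mul_mem hry hry) hro
      have hrt : t * r = r * t := comm_of_mem_zpowers hr hnt.symm
      exact hno r hrr hrt.symm
    have hn01 : n = 1 ∨ n = v := by
      by_cases h0 : n = 1
      · exact Or.inl h0
      · exact Or.inr (uniq_invol_zpowers hvy c.hv hnz (order_two_of hnn h0))
    have hyt : t * y * t⁻¹ = y⁻¹ * n := by rw [hn]; group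
    have hyvc : y * v = v * y := c.hvZ y hy
    have hyinvv : y⁻¹ * v = v * y⁻¹ := by
      calc y⁻¹ * v = y⁻¹ * (v * y) * y⁻¹ := by group
        _ = y⁻¹ * (y * v) * y⁻¹ := by rw [hyvc]
        _ = v * y⁻¹ := by group
    have fyf : f * y * f⁻¹ = v * y := by
      have e : y * f = f * v * y := by
        calc y * f = y * f * y⁻¹ * y := by group
          _ = f * v * y := by rw [hyfy]
      rw [hfinv]
      calc f * y * f = f * (y * f) := by group
        _ = f * (f * v * y) := by rw [e]
        _ = (f * f) * (v * y) := by group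
        _ = v * y := by rw [hff, one_mul]
    have hτ : ∃ τ ∈ (S : Subgroup G), τ * τ = 1 ∧ τ * y * τ⁻¹ = y⁻¹ * v := by
      rcases hn01 with h0 | h0
      · refine ⟨t * f, (S : Subgroup G).mul_mem htS fS, ?_, ?_⟩
        · have htf : t * f = f * t := ftc a a' ha ha'
          calc t * f * (t * f) = t * (f * t) * f := by group
            _ = t * (t * f) * f := by rw [htf]
            _ = (t * t) * (f * f) := by group
            _ = 1 := by rw [htt, hff, one_mul]
        · have e : t * f * y * (t * f)⁻¹ = t * (f * y * f⁻¹) * t⁻¹ := by group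
          have e2 : t * v * t⁻¹ = v := by rw [htvc]; group
          rw [e, fyf]
          have e3 : t * (v * y) * t⁻¹ = (t * v * t⁻¹) * (t * y * t⁻¹) := by group
          rw [e3, e2, hyt, h0, mul_one, hyinvv]
      · refine ⟨t, htS, htt, ?_⟩
        rw [hyt, h0]
    obtain ⟨τ, hτS, hττ, hτy⟩ := hτ
    have hτinv : τ⁻¹ = τ := inv_eq_of_mul_eq_one_left hττ
    have hu : (τ * y) * (τ * y) = v := by
      rw [hτinv] at hτy
      calc (τ * y) * (τ * y) = (τ * y * τ) * y := by group
        _ = y⁻¹ * v * y := by rw [hτy]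
        _ = y⁻¹ * (v * y) := by group
        _ = y⁻¹ * (y * v) := by rw [hyvc]
        _ = v := by group
    have e1 : y * (τ * y) * y⁻¹ = y * τ := by group
    have e2 : τ * y = y⁻¹ * v * τ := by
      calc τ * y = τ * y * τ⁻¹ * τ := by group
        _ = y⁻¹ * v * τ := by rw [hτy]
    rcases c.conj_cases hu hy with h | h
    · rw [e1, e2] at h
      have h3 := mul_right_cancel h
      apply hyv
      calc y * y = y * (y⁻¹ * v) := by rw [← h3]
        _ = v := by group
    · rw [e1, mul_inv_rev, hτinv] at h
      have h3 := mul_right_cancel h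
      apply hy2
      calc y * y = y * y⁻¹ := by rw [← h3]
        _ = 1 := by group
  have hcen : ∀ y ∈ (S : Subgroup G), y * f = f * y := by
    intro y hy
    rcases c.conj_cases ha hy with h | h
    · exact hmove y hy h
    · have h1 : (t * y) * a * (t * y)⁻¹ = a := by
        have e : (t * y) * a * (t * y)⁻¹ = t * (y * a * y⁻¹) * t⁻¹ := by group
        have e2 : t * a⁻¹ * t⁻¹ = (t * a * t⁻¹)⁻¹ := by group
        rw [e, h, e2, tinv a ha, inv_inv]
      have h2 := hmove _ ((S : Subgroup G).mul_mem htS hy) h1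
      have hroot : ∀ x, x * x = v → (y * x * y⁻¹) * (y * x * y⁻¹) = v := by
        intro x hx
        have e : (y * x * y⁻¹) * (y * x * y⁻¹) = y * (x * x) * y⁻¹ := by group
        rw [e, hx, c.hvZ y hy]
        group
      have h3 := ftc _ _ (hroot a ha) (hroot a' ha')
      have e : (y * a * y⁻¹) * (y * a' * y⁻¹)⁻¹ = y * f * y⁻¹ := by rw [hf]; group
      rw [e] at h3
      have h4 : t * (y * f * y⁻¹) * t⁻¹ = f := by
        have e4 : t * (y * f * y⁻¹) * t⁻¹ = (t * y) * f * (t * y)⁻¹ := by group
        rw [e4, h2]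
        group
      have h5 : y * f * y⁻¹ = f := by
        rw [h3] at h4
        simpa using h4
      calc y * f = y * f * y⁻¹ * y := by group
        _ = f * y := by rw [h5]
  -- the contradiction
  have hfc := c.hH3 f fS fao hcen
  have hfvc : f * v = v * f := c.hvZ f fS
  have fvo : orderOf (f * v) = 2 := by
    refine order_two_of ?_ ?_
    · calc f * v * (f * v) = f * (v * f) * v := by group
        _ = f * (f * v) * v := by rw [hfvc]
        _ = (f * f) * (v * v) := by group
        _ = 1 := by rw [hff, c.vv, one_mul]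
    · intro h0
      apply fv
      have h1 : f = v⁻¹ := eq_inv_of_mul_eq_one_left h0
      rw [h1, hvinv]
  have hfvS : f * v ∈ (S : Subgroup G) := (S : Subgroup G).mul_mem fS c.hvS
  have hfvcen : ∀ y ∈ (S : Subgroup G), y * (f * v) = (f * v) * y := by
    intro y hy
    calc y * (f * v) = (y * f) * v := by group
      _ = (f * y) * v := by rw [hcen y hy]
      _ = f * (y * v) := by group
      _ = f * (v * y) := by rw [c.hvZ y hy]
      _ = (f * v) * y := by group
  have hfvc2 := c.hH3 _ hfvS fvo hfvcen
  rcases conj_root c.ii ht hc₀ (hcen t htS).symm with h | h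
  · apply hcv
    apply c.hvZ
    apply hfc
    calc c₀ * f = f * c₀ * f⁻¹ * f := by rw [h]
      _ = f * c₀ := by group
  · apply hcv
    apply c.hvZ
    apply hfvc2
    have h1 : (f * v) * c₀ * (f * v)⁻¹ = c₀ := by
      have e : (f * v) * c₀ * (f * v)⁻¹ = f * (v * c₀ * v⁻¹) * f⁻¹ := by group
      have e2 : f * c₀⁻¹ * f⁻¹ = (f * c₀ * f⁻¹)⁻¹ := by group
      rw [e, vinv, e2, h, inv_inv]
    calc c₀ * (f * v) = (f * v) * c₀ * (f * v)⁻¹ * (f * v) := by rw [h1]
      _ = (f * v) * c₀ := by group

/-- In branch E, `G`-conjugates of `v` in `S` are central in `S`. -/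
theorem central_of_conj (c : CE S v) {a a' g y : G} (ha : a * a = v) (ha' : a' * a' = v)
    (hne : a' ≠ a) (hne' : a' ≠ a⁻¹) (hg : g * v * g⁻¹ ∈ (S : Subgroup G))
    (hy : y ∈ (S : Subgroup G)) : y * (g * v * g⁻¹) = (g * v * g⁻¹) * y := by
  set t := g * v * g⁻¹ with ht
  have hto : orderOf t = 2 := by rw [ht, order_conj, c.hv]
  have hc₀ : (g * a * g⁻¹) * (g * a * g⁻¹) = t := by
    have e : (g * a * g⁻¹) * (g * a * g⁻¹) = g * (a * a) * g⁻¹ := by group
    rw [e, ha]
  by_cases htv : t = v
  · rw [htv]; exact c.hvZ y hy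
  by_cases h : ∃ x, x * x = v ∧ x * t = t * x
  · obtain ⟨x, hx, hxt⟩ := h
    exact c.type1 hto hg htv hx hxt hc₀ hy
  · push Not at h
    exact (c.type2 hto hg htv h ha ha' hne hne' hc₀).elim

end CE

end Cfsg.Agent.Lib.IIG
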