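import Cfsg.Agent.Lib.IIG.CaseE2

/-!
# Case III, branch E is impossible: `S` would be abelian and TI, against Feit's inequality
-/

set_option autoImplicit false
set_option linter.unusedSectionVars false
set_option linter.unusedVariables false

namespace Cfsg.Agent.Lib.IIG

open Subgroup Cfsg Cfsg.Agent.Lib.StrongEmb.Basic

universe u

variable {G : Type u} [Group G] [Finite G] {S : Sylow 2 G} {v : G}

/-- An element with conjugates into `S` normalizes it. -/
theorem mem_norm_of_conj_le {P : Subgroup G} {g : G} (h : ∀ s ∈ P, g * s * g⁻¹ ∈ P) :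
    g ∈ normalizer (P : Set G) := by
  have hle : P.map (MulAut.conj g).toMonoidHom ≤ P := by
    rintro _ ⟨s, hs, rfl⟩
    exact h s hs
  have hcard : Nat.card (P.map (MulAut.conj g).toMonoidHom : Subgroup G) = Nat.card P :=
    Subgroup.card_map_of_injective (MulAut.conj g).injective
  have heq : P.map (MulAut.conj g).toMonoidHom = P := Subgroup.eq_of_le_of_card_ge hle hcard.ge
  refine Subgroup.mem_normalizer_iff.mpr fun x => ⟨fun hx => h x hx, fun hx => ?_⟩
  rw [← heq] at hx
  obtain ⟨y, hy, hyx⟩ := hx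
  have : y = x := (MulAut.conj g).injective hyx
  rwa [← this]

/-- A `2`-element normalizing a Sylow subgroup lies in it. -/
theorem mem_sylow_of_norm (P : Sylow 2 G) {x : G} (hx : x ∈ normalizer ((P : Subgroup G) : Set G))
    {k : ℕ} (hk : x ^ 2 ^ k = 1) : x ∈ (P : Subgroup G) := by
  haveI : Fact (Nat.Prime 2) := ⟨Nat.prime_two⟩
  have hP : IsPGroup 2 (zpowers x) := by
    rw [IsPGroup.iff_card, Nat.card_zpowers]
    have := orderOf_dvd_of_pow_eq_one hk
    obtain ⟨j, -, hj⟩ := (Nat.dvd_prime_pow Nat.prime_two).mp this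
    exact ⟨j, hj⟩
  have h1 := IsPGroup.inf_normalizer_sylow hP P
  have h2 : x ∈ zpowers x ⊓ normalizer ((P : Subgroup G) : Set G) :=
    Subgroup.mem_inf.mpr ⟨mem_zpowers x, hx⟩
  have h3 := SetLike.ext_iff.mp h1 x
  exact (Subgroup.mem_inf.mp (h3.mp h2)).2

namespace CE

variable (hrad : ∀ N : Subgroup G, N.Normal → Group.IsSolvable N → N = ⊥) (ft : FT.{u})
include hrad ft

/-- **Branch E is impossible**. -/
theorem false_of_two_roots (c : CE S v) {a a' : G} (ha : a * a = v) (ha' : a' * a' = v)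
    (hne : a' ≠ a) (hne' : a' ≠ a⁻¹) : False := by
  classical
  haveI : Fact (Nat.Prime 2) := ⟨Nat.prime_two⟩
  have hcen : ∀ g : G, g * v * g⁻¹ ∈ (S : Subgroup G) → ∀ y ∈ (S : Subgroup G),
      y * (g * v * g⁻¹) = (g * v * g⁻¹) * y :=
    fun g hg y hy => c.central_of_conj ha ha' hne hne' hg hy
  obtain ⟨g₀, ht₀S, ht₀⟩ := exists_conj_ne hrad ft S c.hv c.hvS
  set t := g₀ * v * g₀⁻¹ with ht
  have hto : orderOf t = 2 := by rw [ht, order_conj, c.hv]
  have htt := sq_eq_one_of_order hto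
  have htcen : ∀ y ∈ (S : Subgroup G), y * t = t * y := hcen g₀ ht₀S
  have hvt : v * t = t * v := (htcen v c.hvS)
  have hvto : orderOf (v * t) = 2 := by
    refine order_two_of ?_ ?_
    · calc v * t * (v * t) = v * (t * v) * t := by group
        _ = v * (v * t) * t := by rw [hvt]
        _ = (v * v) * (t * t) := by group
        _ = 1 := by rw [c.vv, htt, one_mul]
    · intro h0
      apply ht₀
      have h1 : t = v⁻¹ := eq_inv_of_mul_eq_one_right h0
      rw [h1, inv_eq_self_of_order c.hv]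
  have hvtS : v * t ∈ (S : Subgroup G) := (S : Subgroup G).mul_mem c.hvS ht₀S
  have hvtcen : ∀ y ∈ (S : Subgroup G), y * (v * t) = (v * t) * y := by
    intro y hy
    calc y * (v * t) = (y * v) * t := by group
      _ = (v * y) * t := by rw [c.hvZ y hy]
      _ = v * (y * t) := by group
      _ = v * (t * y) := by rw [htcen y hy]
      _ = (v * t) * y := by group
  -- all involutions of `S` have a `2`-group as centralizer
  have hE2 : ∀ e ∈ (S : Subgroup G), orderOf e = 2 → ¬ HasOdd e := by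
    rintro e he heo ⟨o', h1, h2, h3⟩
    obtain ⟨p, hp, hd, o₁, ho₁, hop⟩ := exists_prime_pow h2
    have hodd : Odd (orderOf o₁) := by
      rw [hop]; exact Odd.of_dvd_nat h1 hd
    have ho₁1 : o₁ ≠ 1 := by
      rintro rfl
      rw [orderOf_one] at hop
      exact hp.one_lt.ne hop
    have ho₁e : o₁ * e = e * o₁ := (comm_of_mem_zpowers ho₁ h3.symm).symm
    have key : ∀ q ∈ (S : Subgroup G), orderOf q = 2 → (∀ y ∈ (S : Subgroup G), y * q = q * y) →
        ¬ (o₁ * q = q * o₁) := by
      intro q hq hqo hqc hc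
      have h4 := c.hH3 q hq hqo hqc o₁ hc
      obtain ⟨k, hk⟩ := orderOf_two_elt S h4
      rw [hk] at hodd
      rcases k with _ | k
      · rw [pow_zero] at hk
        exact ho₁1 (orderOf_eq_one_iff.mp hk)
      · rw [pow_succ] at hodd
        exact absurd hodd (by simp [Nat.odd_iff])
    have inv : ∀ q ∈ (S : Subgroup G), orderOf q = 2 → (∀ y ∈ (S : Subgroup G), y * q = q * y) →
        q * o₁ * q⁻¹ = o₁⁻¹ := by
      intro q hq hqo hqc
      have h5 := conj_mem_of_odd c.ii heo hodd ho₁e (hqc e he).symm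
      rcases comm_or_inverts_prime hp hop (sq_eq_one_of_order hqo) h5 with h6 | h6
      · exact absurd h6 (key q hq hqo hqc)
      · exact h6
    apply key _ hvtS hvto hvtcen
    have i1 := inv v c.hvS c.hv c.hvZ
    have i2 := inv t ht₀S hto htcen
    have h7 : (v * t) * o₁ * (v * t)⁻¹ = o₁ := by
      have e1 : (v * t) * o₁ * (v * t)⁻¹ = v * (t * o₁ * t⁻¹) * v⁻¹ := by group
      have e2 : v * o₁⁻¹ * v⁻¹ = (v * o₁ * v⁻¹)⁻¹ := by group
      rw [e1, i2, e2, i1, inv_inv]
    calc o₁ * (v * t) = (v * t) * o₁ * (v * t)⁻¹ * (v * t) := by rw [h7]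
      _ = (v * t) * o₁ := by group
  have hE2' : ∀ e : G, orderOf e = 2 → ¬ HasOdd e := by
    intro e heo h0
    obtain ⟨x, hx⟩ := exists_conj_mem_sylow S (x := e) (k := 1) (by
      rw [pow_one, pow_two]; exact sq_eq_one_of_order heo)
    exact hE2 _ hx (by rw [order_conj, heo]) (hasOdd_conj x h0)
  -- a `2`-subgroup containing `v` lies in `S`
  have hPS : ∀ P : Subgroup G, IsPGroup 2 P → v ∈ P → P ≤ (S : Subgroup G) := by
    intro P hP hvP
    obtain ⟨Q, hQ⟩ := hP.exists_le_sylow
    obtain ⟨g, hg⟩ := MulAction.exists_smul_eq G Q S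
    have hconj : ∀ p ∈ P, g * p * g⁻¹ ∈ (S : Subgroup G) := by
      intro p hp
      rw [← hg]
      exact ⟨p, hQ hp, rfl⟩
    intro p hp
    apply c.hCS
    have h1 := hcen g (hconj v hvP) _ (hconj p hp)
    have h2 : g * (p * v) * g⁻¹ = g * (v * p) * g⁻¹ := by
      calc g * (p * v) * g⁻¹ = (g * p * g⁻¹) * (g * v * g⁻¹) := by group
        _ = (g * v * g⁻¹) * (g * p * g⁻¹) := h1
        _ = g * (v * p) * g⁻¹ := by group
    simpa using h2
  -- TI
  have hTI : ∀ (g e : G), e ∈ (S : Subgroup G) → orderOf e = 2 → g⁻¹ * e * g ∈ (S : Subgroup G) →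
      g⁻¹ ∈ normalizer ((S : Subgroup G) : Set G) := by
    intro g e he heo hg
    have hP := isPGroup_cent_of_not_hasOdd (hE2' e heo)
    have hve : v ∈ centralizer ({e} : Set G) := mem_cent.mpr (c.hvZ e he).symm
    have h1 := hPS _ hP hve
    have h2 : g * v * g⁻¹ ∈ centralizer ({e} : Set G) := by
      rw [mem_cent]
      have h3 := c.hvZ _ hg
      calc g * v * g⁻¹ * e = g * (v * (g⁻¹ * e * g)) * g⁻¹ := by group
        _ = g * ((g⁻¹ * e * g) * v) * g⁻¹ := by rw [h3]
        _ = e * (g * v * g⁻¹) := by group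
    have h3 := h1 h2
    refine mem_norm_of_conj_le fun s hs => ?_
    apply c.hCS
    have h4 := hcen g h3 s hs
    calc g⁻¹ * s * g⁻¹⁻¹ * v = g⁻¹ * (s * (g * v * g⁻¹)) * g := by group
      _ = g⁻¹ * ((g * v * g⁻¹) * s) * g := by rw [h4]
      _ = v * (g⁻¹ * s * g⁻¹⁻¹) := by group
  set M := normalizer ((S : Subgroup G) : Set G) with hM
  have hSM : (S : Subgroup G) ≤ M := Subgroup.le_normalizer
  have hinvM : ∀ x ∈ M, x * x = 1 → x ∈ (S : Subgroup G) := by
    intro x hx hxx
    exact mem_sylow_of_norm S hx (k := 1) (by rw [pow_one, pow_two]; exact hxx)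
  have hnotnorm : M ≠ ⊤ := by
    intro h0
    have hn : (S : Subgroup G).Normal := by
      rw [← Subgroup.normalizer_eq_top_iff]
      exact h0
    haveI : Group.IsSolvable (S : Subgroup G) := by
      haveI := S.isPGroup'.isNilpotent
      infer_instance
    have h1 := hrad _ hn inferInstance
    have h2 := c.hvS
    rw [h1, Subgroup.mem_bot] at h2
    exact ne_one_of_order_two c.hv h2
  have hSE : IsStronglyEmbedded M := by
    refine ⟨hnotnorm, ?_, ?_⟩
    · have h2 : orderOf (⟨v, hSM c.hvS⟩ : M) = 2 := by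
        rw [Subgroup.orderOf_mk]; exact c.hv
      have := orderOf_dvd_natCard (⟨v, hSM c.hvS⟩ : M)
      rw [h2] at this
      exact even_iff_two_dvd.mpr this
    · intro g hg
      by_contra hodd
      have he2 : 2 ∣ Nat.card (M ⊓ M.map (MulAut.conj g).toMonoidHom : Subgroup G) := by
        rw [← even_iff_two_dvd]
        exact Nat.not_odd_iff_even.mp hodd
      obtain ⟨⟨e, he⟩, hto'⟩ := exists_prime_orderOf_dvd_card' 2 he2
      have heo : orderOf e = 2 := by rwa [Subgroup.orderOf_mk] at hto'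
      have hee := sq_eq_one_of_order heo
      have h1 := hinvM e (Subgroup.mem_inf.mp he).1 hee
      have h2 : g⁻¹ * e * g ∈ M := mem_map_conj_iff.mp (Subgroup.mem_inf.mp he).2
      have h3 : g⁻¹ * e * g ∈ (S : Subgroup G) := by
        apply hinvM _ h2
        have : g⁻¹ * e * g * (g⁻¹ * e * g) = g⁻¹ * (e * e) * g := by group
        rw [this, hee]; group
      have h4 := hTI g e h1 heo h3
      apply hg
      simpa using M.inv_mem h4
  -- an involution outside `M`
  have hout : ∃ g : G, g * v * g⁻¹ ∉ (S : Subgroup G) := by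
    by_contra hcon
    push Not at hcon
    have hle : normalClosure ({v} : Set G) ≤ (S : Subgroup G) := by
      rw [normalClosure, Subgroup.closure_le]
      intro x hx
      rw [Group.mem_conjugatesOfSet_iff] at hx
      obtain ⟨a₀, ha₀, hax⟩ := hx
      obtain ⟨g, rfl⟩ := isConj_iff.mp hax
      rw [Set.mem_singleton_iff.mp ha₀]
      exact hcon g
    haveI : Group.IsSolvable (normalClosure ({v} : Set G)) := by
      haveI := (S.isPGroup'.to_le hle).isNilpotent
      infer_instance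
    have h3 := hrad (normalClosure ({v} : Set G)) normalClosure_normal inferInstance
    have h4 : v ∈ normalClosure ({v} : Set G) := subset_normalClosure rfl
    rw [h3, Subgroup.mem_bot] at h4
    exact ne_one_of_order_two c.hv h4
  obtain ⟨g₁, hg₁⟩ := hout
  have hu₀ : orderOf (g₁ * v * g₁⁻¹) = 2 := by rw [order_conj, c.hv]
  have hu₀M : g₁ * v * g₁⁻¹ ∉ M := fun h0 => hg₁ (hinvM _ h0 (sq_eq_one_of_order hu₀))
  -- all involutions of `S` are central
  have hIS : ∀ e ∈ (S : Subgroup G), orderOf e = 2 → ∀ y ∈ (S : Subgroup G), y * e = e * y := by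
    intro e he heo y hy
    obtain ⟨x, rfl⟩ := isConj_iff.mp (isConj_of_involutions hSE hu₀ hu₀M c.hv heo)
    exact hcen x he y hy
  have hCe : ∀ e ∈ (S : Subgroup G), orderOf e = 2 → ∀ x, x * e = e * x → x ∈ (S : Subgroup G) :=
    fun e he heo => c.hH3 e he heo (hIS e he heo)
  have hnorm : ∀ w ∈ (S : Subgroup G), ∀ y ∈ (S : Subgroup G), w ≠ 1 → y * w * y⁻¹ ∈ zpowers w := by
    intro w hw y hy hw1
    obtain ⟨k, hk⟩ := orderOf_two_elt S hw
    obtain ⟨e, he, heo⟩ := exists_invol hk hw1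
    have heS : e ∈ (S : Subgroup G) := (zpowers_le.mpr hw) he
    exact conj_mem_of_mem c.ii heo he (hIS e heS heo y hy)
  have nc : ∀ a₁ ∈ (S : Subgroup G), ∀ b₁ ∈ (S : Subgroup G), a₁ * b₁ ≠ b₁ * a₁ →
      ∃ e, e ∈ zpowers a₁ ∧ e ∈ zpowers b₁ ∧ orderOf e = 2 := by
    intro a₁ ha₁ b₁ hb₁ hne₁
    have ha1 : a₁ ≠ 1 := by
      rintro rfl
      simp at hne₁
    have hb1 : b₁ ≠ 1 := by
      rintro rfl
      simp at hne₁
    have h1 := hnorm b₁ hb₁ a₁ ha₁ hb1
    have h2 := hnorm a₁ ha₁ b₁ hb₁ ha1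
    set κ := a₁ * b₁ * a₁⁻¹ * b₁⁻¹ with hκ
    have hκb : κ ∈ zpowers b₁ := (zpowers b₁).mul_mem h1 ((zpowers b₁).inv_mem (mem_zpowers b₁))
    have hκa : κ ∈ zpowers a₁ := by
      have : κ = a₁ * (b₁ * a₁ * b₁⁻¹)⁻¹ := by rw [hκ]; group
      rw [this]
      exact (zpowers a₁).mul_mem (mem_zpowers a₁) ((zpowers a₁).inv_mem h2)
    have hκ1 : κ ≠ 1 := by
      intro h0
      apply hne₁
      have : a₁ * b₁ * a₁⁻¹ * b₁⁻¹ * b₁ * a₁ = b₁ * a₁ := by
        rw [← hκ, h0, one_mul]
      simpa [mul_assoc] using this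
    have hκS : κ ∈ (S : Subgroup G) := (zpowers_le.mpr ha₁) hκa
    obtain ⟨k, hk⟩ := orderOf_two_elt S hκS
    obtain ⟨e, he, heo⟩ := exists_invol hk hκ1
    exact ⟨e, (zpowers_le.mpr hκa) he, (zpowers_le.mpr hκb) he, heo⟩
  -- `S` is abelian
  have hab : ∀ a₁ ∈ (S : Subgroup G), ∀ b₁ ∈ (S : Subgroup G), a₁ * b₁ = b₁ * a₁ := by
    intro a₁ ha₁ b₁ hb₁
    by_contra hne₁
    obtain ⟨e, hea, heb, heo⟩ := nc a₁ ha₁ b₁ hb₁ hne₁
    have heS : e ∈ (S : Subgroup G) := (zpowers_le.mpr ha₁) hea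
    obtain ⟨e', he'S, he'o, he'⟩ : ∃ e' ∈ (S : Subgroup G), orderOf e' = 2 ∧ e' ≠ e := by
      by_cases h0 : e = v
      · exact ⟨t, ht₀S, hto, by rw [h0]; exact ht₀⟩
      · exact ⟨v, c.hvS, c.hv, fun h1 => h0 h1.symm⟩
    obtain ⟨h, hh, hhe⟩ := exists_conj_mem_inf hSE hu₀ hu₀M heo (hSM heS) he'o (hSM he'S)
    have hhM : h ∈ M := (Subgroup.mem_inf.mp hh).1
    set a₂ := h * a₁ * h⁻¹ with ha₂
    have ha₂S : a₂ ∈ (S : Subgroup G) := (Subgroup.mem_normalizer_iff.mp hhM a₁).mp ha₁
    have he'a : e' ∈ zpowers a₂ := by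
      obtain ⟨i, hi⟩ := hea
      refine ⟨i, ?_⟩
      show a₂ ^ i = e'
      rw [ha₂, ← hhe, ← hi, conj_zpow]
    have hc12 : a₁ * a₂ = a₂ * a₁ := by
      by_contra hn
      obtain ⟨e₂, h1, h2, h3⟩ := nc a₁ ha₁ a₂ ha₂S hn
      have h4 := uniq_invol_zpowers hea heo h1 h3
      have h5 := uniq_invol_zpowers he'a he'o h2 h3
      exact he' (h5.symm.trans h4)
    have hc2b : a₂ * b₁ = b₁ * a₂ := by
      by_contra hn
      obtain ⟨e₂, h1, h2, h3⟩ := nc a₂ ha₂S b₁ hb₁ hn
      have h4 := uniq_invol_zpowers heb heo h2 h3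
      have h5 := uniq_invol_zpowers he'a he'o h1 h3
      exact he' (h5.symm.trans h4)
    have hcS : a₁ * a₂ ∈ (S : Subgroup G) := (S : Subgroup G).mul_mem ha₁ ha₂S
    have hnc2 : (a₁ * a₂) * b₁ ≠ b₁ * (a₁ * a₂) := by
      intro h0
      apply hne₁
      have h1 : a₁ * (a₂ * b₁) = b₁ * a₁ * a₂ := by
        calc a₁ * (a₂ * b₁) = (a₁ * a₂) * b₁ := by group
          _ = b₁ * (a₁ * a₂) := h0
          _ = b₁ * a₁ * a₂ := by group
      rw [hc2b] at h1
      have h2 : a₁ * b₁ * a₂ = b₁ * a₁ * a₂ := by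
        rw [← h1]; group
      exact mul_right_cancel h2
    obtain ⟨e₄, h1, h2, h3⟩ := nc _ hcS _ hb₁ hnc2
    have h4 : e₄ = e := uniq_invol_zpowers heb heo h2 h3
    rw [h4] at h1
    -- powers
    have hord : orderOf a₂ = orderOf a₁ := by rw [ha₂, order_conj]
    have h2dvd : 2 ∣ orderOf a₁ := by
      rw [← heo]
      exact orderOf_dvd_of_mem_zpowers hea
    set n := orderOf a₁ / 2 with hn
    have hp1 : orderOf (a₁ ^ n) = 2 := orderOf_pow_orderOf_div (orderOf_pos a₁).ne' h2dvd
    have hp2 : orderOf (a₂ ^ n) = 2 := by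
      rw [hn, ← hord]
      exact orderOf_pow_orderOf_div (orderOf_pos a₂).ne' (hord ▸ h2dvd)
    have hp1e : a₁ ^ n = e := uniq_invol_zpowers hea heo (npow_mem_zpowers _ _) hp1
    have hp2e : a₂ ^ n = e' := uniq_invol_zpowers he'a he'o (npow_mem_zpowers _ _) hp2
    have hcn : (a₁ * a₂) ^ n = e * e' := by
      have : Commute a₁ a₂ := hc12
      rw [this.mul_pow, hp1e, hp2e]
    have hee' : e * e' = e' * e := hIS e' he'S he'o e heS
    have hee : e * e = 1 := sq_eq_one_of_order heo
    have he'e' : e' * e' = 1 := sq_eq_one_of_order he'o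
    have hnn : (e * e') * (e * e') = 1 := by
      calc e * e' * (e * e') = e * (e' * e) * e' := by group
        _ = e * (e * e') * e' := by rw [hee']
        _ = (e * e) * (e' * e') := by group
        _ = 1 := by rw [hee, he'e', one_mul]
    have hne1 : e * e' ≠ 1 := by
      intro h0
      apply he'
      have h5 : e' = e⁻¹ := eq_inv_of_mul_eq_one_right h0
      rw [h5]
      exact inv_eq_self_of_order heo
    have hmem : e * e' ∈ zpowers (a₁ * a₂) := by
      rw [← hcn]
      exact npow_mem_zpowers _ _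
    have h6 := uniq_invol_zpowers h1 heo hmem (order_two_of hnn hne1)
    exact ne_one_of_order_two he'o (by simpa using h6)
  -- Theorem T1 for `H = S`
  let E : Subgroup G :=
    { carrier := {x | x ∈ (S : Subgroup G) ∧ x * x = 1}
      mul_mem' := by
        rintro x y ⟨h1, h2⟩ ⟨h3, h4⟩
        refine ⟨(S : Subgroup G).mul_mem h1 h3, ?_⟩
        calc x * y * (x * y) = x * (y * x) * y := by group
          _ = x * (x * y) * y := by rw [hab y h3 x h1]
          _ = (x * x) * (y * y) := by group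
          _ = 1 := by rw [h2, h4, one_mul]
      one_mem' := ⟨(S : Subgroup G).one_mem, by simp⟩
      inv_mem' := by
        rintro x ⟨h1, h2⟩
        refine ⟨(S : Subgroup G).inv_mem h1, ?_⟩
        rw [inv_eq_of_mul_eq_one_left h2]
        exact h2 }
  have hEmem : ∀ x, x ∈ E ↔ x ∈ (S : Subgroup G) ∧ x * x = 1 := fun x => Iff.rfl
  have hfour : 4 ≤ Nat.card E := by
    haveI := Fintype.ofFinite E
    have hv1 := ne_one_of_order_two c.hv
    have ht1 := ne_one_of_order_two hto
    have hvt1 := ne_one_of_order_two hvto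
    let T : Finset E := {1, ⟨v, c.hvS, c.vv⟩, ⟨t, ht₀S, htt⟩, ⟨v * t, hvtS, sq_eq_one_of_order hvto⟩}
    have hT : T.card = 4 := by
      rw [Finset.card_insert_of_notMem, Finset.card_insert_of_notMem, Finset.card_insert_of_notMem,
        Finset.card_singleton]
      · simp only [Finset.mem_singleton, Subtype.mk.injEq]
        intro h0
        exact hv1 (by simpa using h0)
      · simp only [Finset.mem_insert, Finset.mem_singleton, Subtype.mk.injEq, not_or]
        refine ⟨fun h0 => ht₀ h0.symm, fun h0 => ht1 (by simpa using h0)⟩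
      · simp only [Finset.mem_insert, Finset.mem_singleton, not_or]
        refine ⟨fun h0 => hv1 (congrArg Subtype.val h0).symm, fun h0 => ht1 (congrArg Subtype.val h0).symm,
          fun h0 => hvt1 (congrArg Subtype.val h0).symm⟩
    rw [Nat.card_eq_fintype_card, ← hT]
    exact Finset.card_le_univ T
  have hyp : T1.Hyp (S : Subgroup G) E := by
    refine ⟨hEmem, hfour, ?_, ?_, hnotnorm⟩
    · intro h hh hh1 x hx
      obtain ⟨k, hk⟩ := orderOf_two_elt S hh
      obtain ⟨e, he, heo⟩ := exists_invol hk hh1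
      have heS : e ∈ (S : Subgroup G) := (zpowers_le.mpr hh) he
      exact hCe e heS heo x (comm_of_mem_zpowers he (mem_cent.mp hx))
    · intro e he h hh
      exact hab h hh e he.1
  rcases T1.main hyp with h1 | ⟨-, u₁, v₁, h2⟩
  · have hle : E ≤ (S : Subgroup G) := fun x hx => hx.1
    have hd := Subgroup.card_dvd_of_le hle
    obtain ⟨m, hm⟩ := hd
    have hEpos : 0 < Nat.card E := Nat.card_pos
    have hm1 : m = 1 := by
      have hSpos : 0 < Nat.card (S : Subgroup G) := Nat.card_pos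
      have hm0 : m ≠ 0 := by
        rintro rfl
        rw [mul_zero] at hm
        omega
      by_contra hne1
      have hm2 : 2 ≤ m := by omega
      have : Nat.card E * 2 ≤ Nat.card E * m := Nat.mul_le_mul_left _ hm2
      omega
    rw [hm1, mul_one] at hm
    have heq : E = (S : Subgroup G) := Subgroup.eq_of_le_of_card_ge hle hm.le
    have h3 : a ∈ E := by rw [heq]; exact c.root_S ha
    have h4 := h3.2
    rw [ha] at h4
    exact ne_one_of_order_two c.hv h4
  · apply h2
    apply Subtype.ext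
    exact hab _ u₁.2 _ v₁.2

end CE

end Cfsg.Agent.Lib.IIG
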