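import Cfsg.Agent.Lib.IIG.T1c

/-!
# Case I: if `C(u)` has a nontrivial element of odd order, `u` is the only involution in `Z(C(u))`
-/

set_option autoImplicit false
set_option linter.unusedSectionVars false
set_option linter.unusedVariables false

namespace Cfsg.Agent.Lib.IIG

open Subgroup Cfsg Cfsg.Agent.Lib.StrongEmb.Basic Cfsg.Agent.Lib.StrongEmb.ElemCent2

universe u

variable {G : Type u} [Group G]

theorem exists_prime_pow [Finite G] {h : G} (h1 : h ≠ 1) :
    ∃ p : ℕ, p.Prime ∧ p ∣ orderOf h ∧ ∃ h₀ ∈ zpowers h, orderOf h₀ = p := by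
  have hne : orderOf h ≠ 1 := fun h0 => h1 (orderOf_eq_one_iff.mp h0)
  obtain ⟨p, hp, hd⟩ := Nat.exists_prime_and_dvd hne
  refine ⟨p, hp, hd, h ^ (orderOf h / p), ?_, orderOf_pow_orderOf_div (orderOf_pos h).ne' hd⟩
  exact npow_mem_zpowers _ _

theorem comm_of_mem_zpowers {x h y : G} (hy : y ∈ zpowers h) (hc : x * h = h * x) : x * y = y * x := by
  obtain ⟨k, rfl⟩ := hy
  have : Commute x h := hc
  exact (this.zpow_right k).eq

theorem mem_norm_of_cent {a g : G} {H : Subgroup G} (h1 : centralizer ({a} : Set G) = H)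
    (h2 : centralizer ({g * a * g⁻¹} : Set G) = H) : g ∈ normalizer (H : Set G) := by
  refine Subgroup.mem_normalizer_iff.mpr fun x => ?_
  have e1 : x ∈ H ↔ x * a = a * x := by rw [← h1, mem_cent]
  have e2 : g * x * g⁻¹ ∈ H ↔ g * x * g⁻¹ * (g * a * g⁻¹) = (g * a * g⁻¹) * (g * x * g⁻¹) := by
    rw [← h2, mem_cent]
  show x ∈ H ↔ g * x * g⁻¹ ∈ H
  rw [e1, e2]
  constructor
  · intro hc
    calc g * x * g⁻¹ * (g * a * g⁻¹) = g * (x * a) * g⁻¹ := by group
      _ = g * (a * x) * g⁻¹ := by rw [hc]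
      _ = g * a * g⁻¹ * (g * x * g⁻¹) := by group
  · intro hc
    have : g * (x * a) * g⁻¹ = g * (a * x) * g⁻¹ := by
      calc g * (x * a) * g⁻¹ = g * x * g⁻¹ * (g * a * g⁻¹) := by group
        _ = g * a * g⁻¹ * (g * x * g⁻¹) := hc
        _ = g * (a * x) * g⁻¹ := by group
    simpa using this

/-- The involutions central in `C(u)`, with `1`. -/
def Z0 (u : G) : Subgroup G where
  carrier := {x | x * u = u * x ∧ x * x = 1 ∧ ∀ h, h * u = u * h → h * x = x * h}
  mul_mem' := by
    rintro a b ⟨h1, h2, h3⟩ ⟨h4, h5, h6⟩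
    have hab : a * b = b * a := (h3 b h4).symm
    refine ⟨?_, ?_, ?_⟩
    · calc a * b * u = a * (b * u) := by group
        _ = a * (u * b) := by rw [h4]
        _ = (a * u) * b := by group
        _ = u * a * b := by rw [h1]
        _ = u * (a * b) := by group
    · calc a * b * (a * b) = a * (b * a) * b := by group
        _ = a * (a * b) * b := by rw [hab]
        _ = (a * a) * (b * b) := by group
        _ = 1 := by rw [h2, h5, one_mul]
    · intro h hh
      calc h * (a * b) = (h * a) * b := by group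
        _ = (a * h) * b := by rw [h3 h hh]
        _ = a * (h * b) := by group
        _ = a * (b * h) := by rw [h6 h hh]
        _ = a * b * h := by group
  one_mem' := by simp
  inv_mem' := by
    rintro a ⟨h1, h2, h3⟩
    have : a⁻¹ = a := inv_eq_of_mul_eq_one_left h2
    rw [this]
    exact ⟨h1, h2, h3⟩

theorem mem_Z0 {u x : G} : x ∈ Z0 u ↔ x * u = u * x ∧ x * x = 1 ∧ ∀ h, h * u = u * h → h * x = x * h :=
  Iff.rfl

/-- The context of Case I. -/
structure CI (u e o : G) : Prop where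
  ii : II G
  rad : ∀ N : Subgroup G, N.Normal → Group.IsSolvable N → N = ⊥
  hu : orderOf u = 2
  he : orderOf e = 2
  hne : e ≠ u
  hez : ∀ x, x * u = u * x → x * e = e * x
  ho : Odd (orderOf o)
  ho1 : o ≠ 1
  hoc : o * u = u * o

variable [Finite G] {u e o : G}

namespace CI

theorem u_mem (c : CI u e o) : u ∈ Z0 u :=
  ⟨rfl, sq_eq_one_of_order c.hu, fun h hh => hh⟩

theorem e_comm_u (c : CI u e o) : e * u = u * e :=
  c.hez u rfl |>.symm

theorem e_mem (c : CI u e o) : e ∈ Z0 u :=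
  ⟨c.e_comm_u, sq_eq_one_of_order c.he, fun h hh => c.hez h hh⟩

theorem cent_Z0 (c : CI u e o) {x : G} (hx : x ∈ Z0 u) (hx1 : x ≠ 1) :
    centralizer ({x} : Set G) = centralizer ({u} : Set G) := by
  have hxo := order_two_of hx.2.1 hx1
  exact cent_eq_of_odd c.ii hxo c.hu c.ho c.ho1 (hx.2.2 o c.hoc) c.hoc

theorem noOdd (c : CI u e o) {v o' : G} (hv : orderOf v = 2) (hvH : v * u = u * v)
    (hvZ : v ∉ Z0 u) (ho' : Odd (orderOf o')) (hc : o' * v = v * o') : o' = 1 := by
  by_contra ho1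
  obtain ⟨p, hp, hd, o₁, ho₁, hop⟩ := exists_prime_pow ho1
  have hodd : Odd (orderOf o₁) := by
    rw [hop]; exact Odd.of_dvd_nat ho' hd
  have ho₁1 : o₁ ≠ 1 := by
    rintro rfl
    rw [orderOf_one] at hop
    exact hp.one_lt.ne hop
  have hcv : o₁ * v = v * o₁ := (comm_of_mem_zpowers ho₁ hc.symm).symm
  have key : ∀ x ∈ Z0 u, x ≠ 1 → ¬ (o₁ * x = x * o₁) := by
    intro x hx hx1 hcx
    apply hvZ
    have hxo := order_two_of hx.2.1 hx1
    have hxv : x * v = v * x := (hx.2.2 v hvH).symm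
    have h1 := cent_eq_of_odd c.ii hv hxo hodd ho₁1 hcv hcx
    rw [c.cent_Z0 hx hx1] at h1
    refine ⟨hvH, sq_eq_one_of_order hv, fun h hh => ?_⟩
    have : h ∈ centralizer ({v} : Set G) := by
      rw [h1]; exact mem_cent.mpr hh
    exact mem_cent.mp this
  have inv : ∀ x ∈ Z0 u, x ≠ 1 → x * o₁ * x⁻¹ = o₁⁻¹ := by
    intro x hx hx1
    have hxv : x * v = v * x := (hx.2.2 v hvH).symm
    have h1 := conj_mem_of_odd c.ii hv hodd hcv hxv
    rcases comm_or_inverts_prime hp hop hx.2.1 h1 with h2 | h2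
    · exact absurd h2 (key x hx hx1)
    · exact h2
  have hu1 := ne_one_of_order_two c.hu
  have he1 := ne_one_of_order_two c.he
  have hue : e * u ∈ Z0 u := (Z0 u).mul_mem c.e_mem c.u_mem
  have hue1 : e * u ≠ 1 := by
    intro h0
    apply c.hne
    have h1 : e = u⁻¹ := eq_inv_of_mul_eq_one_left h0
    rw [h1]
    exact inv_eq_self_of_order c.hu
  apply key _ hue hue1
  have i1 := inv u c.u_mem hu1
  have i2 := inv e c.e_mem he1
  have h3 : (e * u) * o₁ * (e * u)⁻¹ = o₁ := by
    have e1 : (e * u) * o₁ * (e * u)⁻¹ = e * (u * o₁ * u⁻¹) * e⁻¹ := by group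
    have e2 : e * o₁⁻¹ * e⁻¹ = (e * o₁ * e⁻¹)⁻¹ := by group
    rw [e1, i1, e2, i2, inv_inv]
  calc o₁ * (e * u) = (e * u) * o₁ * (e * u)⁻¹ * (e * u) := by rw [h3]
    _ = (e * u) * o₁ := by group

theorem mem_Z0_of_odd (c : CI u e o) {v o' : G} (hv : orderOf v = 2) (hvH : v * u = u * v)
    (ho' : Odd (orderOf o')) (ho1 : o' ≠ 1) (hc : o' * v = v * o') : v ∈ Z0 u := by
  by_contra h
  exact ho1 (c.noOdd hv hvH h ho' hc)

theorem conj_mem_Z0 (c : CI u e o) {x g : G} (hx : x ∈ Z0 u) (hx1 : x ≠ 1)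
    (hg : (g * x * g⁻¹) * u = u * (g * x * g⁻¹)) : g * x * g⁻¹ ∈ Z0 u := by
  have hxo := order_two_of hx.2.1 hx1
  refine c.mem_Z0_of_odd (o' := g * o * g⁻¹) (by rw [order_conj, hxo]) hg
    (by rw [order_conj]; exact c.ho) ?_ ?_
  · intro h0
    apply c.ho1
    have : o = g⁻¹ * (g * o * g⁻¹) * g := by group
    rw [this, h0]; group
  · have h1 : o * x = x * o := hx.2.2 o c.hoc
    calc g * o * g⁻¹ * (g * x * g⁻¹) = g * (o * x) * g⁻¹ := by group
      _ = g * (x * o) * g⁻¹ := by rw [h1]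
      _ = g * x * g⁻¹ * (g * o * g⁻¹) := by group

theorem mem_M (c : CI u e o) {x g : G} (hx : x ∈ Z0 u) (hx1 : x ≠ 1)
    (hg : (g * x * g⁻¹) * u = u * (g * x * g⁻¹)) :
    g ∈ normalizer ((centralizer ({u} : Set G) : Subgroup G) : Set G) := by
  have h1 := c.conj_mem_Z0 hx hx1 hg
  refine mem_norm_of_cent (c.cent_Z0 hx hx1) (c.cent_Z0 h1 ?_)
  intro h0
  apply hx1
  have : x = g⁻¹ * (g * x * g⁻¹) * g := by group
  rw [this, h0]; group

theorem conj_Z0_of_M (c : CI u e o) {x g : G}
    (hg : g ∈ normalizer ((centralizer ({u} : Set G) : Subgroup G) : Set G)) (hx : x ∈ Z0 u) :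
    g * x * g⁻¹ ∈ Z0 u := by
  by_cases hx1 : x = 1
  · subst hx1; simpa using (Z0 u).one_mem
  apply c.conj_mem_Z0 hx hx1
  have h1 : x ∈ centralizer ({u} : Set G) := mem_cent.mpr hx.1
  have h2 := (Subgroup.mem_normalizer_iff.mp hg x).mp h1
  exact mem_cent.mp h2

/-- A `2`-element of `N(C(u))` lies in `C(u)`. -/
theorem two_elt_mem (c : CI u e o) {y : G}
    (hy : y ∈ normalizer ((centralizer ({u} : Set G) : Subgroup G) : Set G)) {k : ℕ}
    (hk : y ^ (2 ^ k) = 1) : y * u = u * y := by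
  classical
  haveI : Fact (Nat.Prime 2) := ⟨Nat.prime_two⟩
  haveI := Fintype.ofFinite (Z0 u)
  let f : Function.End (Z0 u) := fun x => ⟨y * x * y⁻¹, c.conj_Z0_of_M hy x.2⟩
  have hpow : ∀ n : ℕ, ∀ x : Z0 u, (((f ^ n) x : Z0 u) : G) = y ^ n * x * (y ^ n)⁻¹ := by
    intro n
    induction n with
    | zero => intro x; simp; rfl
    | succ n ih =>
      intro x
      rw [pow_succ', Function.End.mul_def]
      show y * ((f ^ n) x : G) * y⁻¹ = _
      rw [ih, pow_succ']
      group
  have hf : f ^ 2 ^ k = 1 := by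
    funext x
    apply Subtype.ext
    rw [hpow, hk]
    simp
    rfl
  have hmod := Equiv.Perm.card_fixedPoints_modEq (f := f) (p := 2) (n := k) hf
  have h2 : 2 ∣ Fintype.card (Z0 u) := by
    have hmem : orderOf (⟨u, c.u_mem⟩ : Z0 u) = 2 := by
      rw [Subgroup.orderOf_mk]; exact c.hu
    have := orderOf_dvd_natCard (⟨u, c.u_mem⟩ : Z0 u)
    rw [hmem, Nat.card_eq_fintype_card] at this
    exact this
  have h3 : 2 ∣ Fintype.card (Function.fixedPoints f) := (hmod.dvd_iff (dvd_refl 2)).mp h2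
  have h4 : (1 : Z0 u) ∈ Function.fixedPoints f := by
    show f 1 = 1
    apply Subtype.ext
    show y * 1 * y⁻¹ = 1
    group
  have h5 : 1 < Fintype.card (Function.fixedPoints f) := by
    have : 0 < Fintype.card (Function.fixedPoints f) := Fintype.card_pos_iff.mpr ⟨⟨1, h4⟩⟩
    omega
  obtain ⟨⟨x, hx⟩, hx1⟩ := Fintype.exists_ne_of_one_lt_card h5 ⟨1, h4⟩
  have hx1' : (x : G) ≠ 1 := by
    intro h0
    apply hx1
    apply Subtype.ext
    exact Subtype.ext h0
  have h6 : y * x * y⁻¹ = x := congrArg Subtype.val hx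
  have h7 : y ∈ centralizer ({(x : G)} : Set G) := by
    rw [mem_cent]
    calc y * x = y * x * y⁻¹ * y := by group
      _ = x * y := by rw [h6]
  rw [c.cent_Z0 x.2 hx1'] at h7
  exact mem_cent.mp h7

/-- A `2`-subgroup containing `u` lies in `C(u)`. -/
theorem P_le (c : CI u e o) {P : Subgroup G} (hP : IsPGroup 2 P) (huP : u ∈ P) :
    P ≤ centralizer ({u} : Set G) := by
  haveI : Fact (Nat.Prime 2) := ⟨Nat.prime_two⟩
  set H := centralizer ({u} : Set G) with hH
  have htop : H.subgroupOf P = ⊤ := by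
    by_contra hne
    haveI := hP.isNilpotent
    have hlt : H.subgroupOf P < ⊤ := lt_top_iff_ne_top.mpr hne
    have h1 := Group.normalizerCondition_of_isNilpotent (H.subgroupOf P) hlt
    obtain ⟨y, hy1, hy2⟩ := SetLike.exists_of_lt h1
    have hyM : (y : G) ∈ normalizer ((H : Subgroup G) : Set G) := by
      apply c.mem_M c.u_mem (ne_one_of_order_two c.hu)
      have h2 : (⟨u, huP⟩ : P) ∈ H.subgroupOf P := by
        rw [Subgroup.mem_subgroupOf]
        exact mem_cent.mpr rfl
      have h3 := (Subgroup.mem_normalizer_iff.mp hy1 _).mp h2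
      rw [Subgroup.mem_subgroupOf] at h3
      exact mem_cent.mp h3
    obtain ⟨k, hk⟩ := hP y
    have hk' : (y : G) ^ (2 ^ k) = 1 := by
      have := congrArg Subtype.val hk
      simpa using this
    have h4 := c.two_elt_mem hyM hk'
    apply hy2
    rw [Subgroup.mem_subgroupOf]
    exact mem_cent.mpr h4
  intro x hx
  have : (⟨x, hx⟩ : P) ∈ H.subgroupOf P := by rw [htop]; trivial
  exact Subgroup.mem_subgroupOf.mp this

/-- `u` has a conjugate outside `C(u)`. -/
theorem exists_out (c : CI u e o) : ∃ g : G, ¬ ((g * u * g⁻¹) * u = u * (g * u * g⁻¹)) := by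
  by_contra hcon
  push Not at hcon
  have hle : normalClosure ({u} : Set G) ≤ Z0 u := by
    rw [normalClosure, Subgroup.closure_le]
    intro x hx
    rw [Group.mem_conjugatesOfSet_iff] at hx
    obtain ⟨a, ha, hax⟩ := hx
    obtain ⟨g, rfl⟩ := isConj_iff.mp hax
    rw [Set.mem_singleton_iff.mp ha]
    exact c.conj_mem_Z0 c.u_mem (ne_one_of_order_two c.hu) (hcon g)
  have hcomm : ∀ a b : normalClosure ({u} : Set G), a * b = b * a := by
    intro a b
    apply Subtype.ext
    have h1 := hle a.2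
    have h2 := hle b.2
    exact (h1.2.2 b h2.1).symm
  haveI : Group.IsSolvable (normalClosure ({u} : Set G)) := Group.isSolvable_of_comm hcomm
  have h3 := c.rad (normalClosure ({u} : Set G)) normalClosure_normal inferInstance
  have h4 : u ∈ normalClosure ({u} : Set G) := subset_normalClosure rfl
  rw [h3, Subgroup.mem_bot] at h4
  exact ne_one_of_order_two c.hu h4

/-- `N(C(u))` is strongly embedded. -/
theorem stronglyEmbedded (c : CI u e o) :
    IsStronglyEmbedded (normalizer ((centralizer ({u} : Set G) : Subgroup G) : Set G)) := by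
  set H := centralizer ({u} : Set G) with hH
  set M := normalizer ((H : Subgroup G) : Set G) with hM
  have hHM : H ≤ M := Subgroup.le_normalizer
  have hinvol : ∀ t ∈ M, t * t = 1 → t ∈ H := by
    intro t ht hs
    exact mem_cent.mpr (c.two_elt_mem (k := 1) ht (by rw [pow_one, pow_two]; exact hs))
  refine ⟨?_, ?_, ?_⟩
  · intro h0
    obtain ⟨g, hg⟩ := c.exists_out
    have h1 : g ∈ M := by rw [h0]; trivial
    apply hg
    have h2 := (Subgroup.mem_normalizer_iff.mp h1 u).mp (mem_cent.mpr rfl)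
    exact mem_cent.mp h2
  · have h2 : orderOf (⟨u, hHM (mem_cent.mpr rfl)⟩ : M) = 2 := by
      rw [Subgroup.orderOf_mk]; exact c.hu
    have := orderOf_dvd_natCard (⟨u, hHM (mem_cent.mpr rfl)⟩ : M)
    rw [h2] at this
    exact even_iff_two_dvd.mpr this
  · intro g hg
    by_contra hodd
    have he2 : 2 ∣ Nat.card (M ⊓ M.map (MulAut.conj g).toMonoidHom : Subgroup G) := by
      rw [← even_iff_two_dvd]
      exact Nat.not_odd_iff_even.mp hodd
    haveI : Fact (Nat.Prime 2) := ⟨Nat.prime_two⟩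
    obtain ⟨⟨t, ht⟩, hto⟩ := exists_prime_orderOf_dvd_card' 2 he2
    have hto' : orderOf t = 2 := by rwa [Subgroup.orderOf_mk] at hto
    have htt := sq_eq_one_of_order hto'
    have h1 : t ∈ H := hinvol t (Subgroup.mem_inf.mp ht).1 htt
    have h2 : g⁻¹ * t * g ∈ M := mem_map_conj_iff.mp (Subgroup.mem_inf.mp ht).2
    have h3 : g⁻¹ * t * g ∈ H := by
      apply hinvol _ h2
      have : g⁻¹ * t * g * (g⁻¹ * t * g) = g⁻¹ * (t * t) * g := by group
      rw [this, htt]; group
    have hut : u * t = t * u := (mem_cent.mp h1).symm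
    have hgu : (g * u * g⁻¹) * t = t * (g * u * g⁻¹) := by
      have h4 := mem_cent.mp h3
      calc g * u * g⁻¹ * t = g * (u * (g⁻¹ * t * g)) * g⁻¹ := by group
        _ = g * ((g⁻¹ * t * g) * u) * g⁻¹ := by rw [h4]
        _ = t * (g * u * g⁻¹) := by group
    apply hg
    apply c.mem_M c.u_mem (ne_one_of_order_two c.hu)
    -- `g u g⁻¹ ∈ H`
    by_cases hodd' : ∃ o' : G, Odd (orderOf o') ∧ o' ≠ 1 ∧ o' * t = t * o'
    · obtain ⟨o', h5, h6, h7⟩ := hodd'
      have h8 := c.mem_Z0_of_odd hto' (mem_cent.mp h1) h5 h6 h7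
      have h9 := c.cent_Z0 h8 (ne_one_of_order_two hto')
      have h10 : g * u * g⁻¹ ∈ centralizer ({t} : Set G) := mem_cent.mpr hgu
      rw [h9] at h10
      exact mem_cent.mp h10
    · push Not at hodd'
      have hP : IsPGroup 2 (centralizer ({t} : Set G)) := by
        intro x
        obtain ⟨a, m, hm, hnm⟩ := Nat.exists_eq_two_pow_mul_odd (orderOf_pos (x : G)).ne'
        refine ⟨a, ?_⟩
        have h11 : (x : G) ^ 2 ^ a = 1 := by
          by_contra hne
          apply hodd' _ _ hne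
          · exact ((Commute.pow_left (mem_cent.mp x.2) _).eq)
          · have : orderOf ((x : G) ^ 2 ^ a) = m := by
              rw [orderOf_pow' _ (by positivity), hnm, Nat.gcd_eq_right (Dvd.intro _ rfl)]
              exact Nat.mul_div_cancel_left _ (by positivity)
            rw [this]; exact hm
        apply Subtype.ext
        simpa using h11
      have h12 := c.P_le hP (mem_cent.mpr hut)
      have h13 := h12 (mem_cent.mpr hgu)
      exact mem_cent.mp h13

/-- All involutions of `C(u)` are central in it. -/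
theorem all_invol (c : CI u e o) {v : G} (hv : orderOf v = 2) (hvH : v * u = u * v) : v ∈ Z0 u := by
  obtain ⟨g, hg⟩ := c.exists_out
  have hu' : orderOf (g * u * g⁻¹) = 2 := by rw [order_conj, c.hu]
  have huM : g * u * g⁻¹ ∉ normalizer ((centralizer ({u} : Set G) : Subgroup G) : Set G) := by
    intro h0
    apply hg
    exact c.two_elt_mem (k := 1) h0 (by
      rw [pow_one, pow_two]
      exact sq_eq_one_of_order hu')
  obtain ⟨x, rfl⟩ := isConj_iff.mp (isConj_of_involutions c.stronglyEmbedded hu' huM c.hu hv)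
  exact c.conj_mem_Z0 c.u_mem (ne_one_of_order_two c.hu) hvH

theorem four (c : CI u e o) : 4 ≤ Nat.card (Z0 u) := by
  classical
  haveI := Fintype.ofFinite (Z0 u)
  have hu1 := ne_one_of_order_two c.hu
  have he1 := ne_one_of_order_two c.he
  have hue : e * u ∈ Z0 u := (Z0 u).mul_mem c.e_mem c.u_mem
  have hue1 : e * u ≠ 1 := by
    intro h0
    apply c.hne
    have h1 : e = u⁻¹ := eq_inv_of_mul_eq_one_left h0
    rw [h1]
    exact inv_eq_self_of_order c.hu
  have hue2 : e * u ≠ u := fun h0 => he1 (by simpa using h0)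
  have hue3 : e * u ≠ e := fun h0 => hu1 (by simpa using h0)
  let S : Finset (Z0 u) := {1, ⟨u, c.u_mem⟩, ⟨e, c.e_mem⟩, ⟨e * u, hue⟩}
  have hS : S.card = 4 := by
    rw [Finset.card_insert_of_notMem, Finset.card_insert_of_notMem, Finset.card_insert_of_notMem,
      Finset.card_singleton]
    · simp only [Finset.mem_singleton, Subtype.mk.injEq]
      exact fun h0 => hue3 h0.symm
    · simp only [Finset.mem_insert, Finset.mem_singleton, Subtype.mk.injEq, not_or]
      exact ⟨fun h0 => c.hne h0.symm, fun h0 => hue2 h0.symm⟩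
    · simp only [Finset.mem_insert, Finset.mem_singleton, not_or]
      refine ⟨fun h0 => hu1 (congrArg Subtype.val h0).symm, fun h0 => he1 (congrArg Subtype.val h0).symm,
        fun h0 => hue1 (congrArg Subtype.val h0).symm⟩
  rw [Nat.card_eq_fintype_card, ← hS]
  exact Finset.card_le_univ S

theorem hyp (c : CI u e o) : T1.Hyp (centralizer ({u} : Set G)) (Z0 u) where
  mem_E := by
    intro x
    constructor
    · intro h
      exact ⟨mem_cent.mpr h.1, h.2.1⟩
    · rintro ⟨h1, h2⟩
      by_cases hx : x = 1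
      · subst hx; exact (Z0 u).one_mem
      · exact c.all_invol (order_two_of h2 hx) (mem_cent.mp h1)
  four := c.four
  cent_le := by
    intro h hh h1 x hx
    have hxh := mem_cent.mp hx
    obtain ⟨p, hp, hd, h₀, hh₀, hop⟩ := exists_prime_pow h1
    have hxh₀ : x * h₀ = h₀ * x := comm_of_mem_zpowers hh₀ hxh
    have hh₀u : h₀ * u = u * h₀ := (comm_of_mem_zpowers hh₀ (mem_cent.mp hh).symm).symm
    by_cases hp2 : p = 2
    · have h₀o : orderOf h₀ = 2 := by rw [hop, hp2]
      have h2 := c.all_invol h₀o hh₀u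
      have h3 : x ∈ centralizer ({h₀} : Set G) := mem_cent.mpr hxh₀
      rw [c.cent_Z0 h2 (ne_one_of_order_two h₀o)] at h3
      exact h3
    · have hodd : Odd (orderOf h₀) := by
        rw [hop]; exact hp.odd_of_ne_two hp2
      have h₀1 : h₀ ≠ 1 := by
        rintro rfl
        rw [orderOf_one] at hop
        exact hp.one_lt.ne hop
      apply mem_cent.mpr
      apply comm_of_conj_odd c.ii c.hu hodd h₀1 hh₀u
      have : x * h₀ * x⁻¹ = h₀ := by rw [hxh₀]; group
      rw [this]
      exact mem_zpowers h₀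
  le_cent := by
    intro x hx h hh
    exact hx.2.2 h (mem_cent.mp hh)
  not_normal := c.stronglyEmbedded.1

theorem contradiction (c : CI u e o) : False := by
  classical
  haveI : Fact (Nat.Prime 2) := ⟨Nat.prime_two⟩
  have ho1 : orderOf o ≠ 1 := fun h0 => c.ho1 (orderOf_eq_one_iff.mp h0)
  obtain ⟨p, hp, hd⟩ := Nat.exists_prime_and_dvd ho1
  have hpodd : Odd p := Odd.of_dvd_nat c.ho hd
  have hp2 : p ≠ 2 := by
    rintro rfl
    exact absurd hpodd (by decide)
  have hp3 : 3 ≤ p := by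
    have := hp.two_le
    omega
  have hoH : o ∈ centralizer ({u} : Set G) := mem_cent.mpr c.hoc
  rcases T1.main c.hyp with h1 | ⟨h1, -⟩
  · have hZ2 : IsPGroup 2 (Z0 u) := by
      intro x
      refine ⟨1, ?_⟩
      apply Subtype.ext
      have := x.2.2.1
      simpa [pow_two] using this
    obtain ⟨k, hk⟩ := IsPGroup.iff_card.mp hZ2
    have hle : Z0 u ≤ centralizer ({u} : Set G) := fun x hx => mem_cent.mpr hx.1
    have d1 : Nat.card (Z0 u) ∣ Nat.card (centralizer ({u} : Set G)) := Subgroup.card_dvd_of_le hle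
    have d2 : p ∣ Nat.card (centralizer ({u} : Set G)) := by
      have : orderOf (⟨o, hoH⟩ : centralizer ({u} : Set G)) = orderOf o := Subgroup.orderOf_mk _ _
      have h3 := orderOf_dvd_natCard (⟨o, hoH⟩ : centralizer ({u} : Set G))
      rw [this] at h3
      exact hd.trans h3
    have hcop : Nat.Coprime (Nat.card (Z0 u)) p := by
      rw [hk]
      apply Nat.Coprime.pow_left
      exact (Nat.coprime_primes Nat.prime_two hp).mpr (Ne.symm hp2)
    have d3 := hcop.mul_dvd_of_dvd_of_dvd d1 d2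
    have hpos : 0 < Nat.card (centralizer ({u} : Set G)) := Nat.card_pos
    have h4 := Nat.le_of_dvd hpos d3
    have h5 : 0 < Nat.card (Z0 u) := Nat.card_pos
    have h6 : Nat.card (Z0 u) * 3 ≤ Nat.card (Z0 u) * p := Nat.mul_le_mul_left _ hp3
    omega
  · obtain ⟨k, hk⟩ := h1 ⟨o, hoH⟩
    have h2 : o ^ 2 ^ k = 1 := by
      have := congrArg Subtype.val hk
      simpa using this
    have h3 := orderOf_dvd_of_pow_eq_one h2
    have h4 : p ∣ 2 ^ k := hd.trans h3
    have h5 := hp.dvd_of_dvd_pow h4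
    exact hp2 ((Nat.prime_dvd_prime_iff_eq hp Nat.prime_two).mp h5)

end CI

/-- **Case I**. -/
theorem caseI (hII : II G) (hrad : ∀ N : Subgroup G, N.Normal → Group.IsSolvable N → N = ⊥)
    {u e o : G} (hu : orderOf u = 2) (he : orderOf e = 2)
    (hez : ∀ x, x * u = u * x → x * e = e * x) (ho : Odd (orderOf o)) (ho1 : o ≠ 1)
    (hoc : o * u = u * o) : e = u := by
  by_contra hne
  exact CI.contradiction ⟨hII, hrad, hu, he, hne, hez, ho, ho1, hoc⟩

end Cfsg.Agent.Lib.IIG
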