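import Cfsg.Agent.Lib.IIG.Two

/-!
# Case II: a central involution of a Sylow `2`-subgroup with an odd element in its centralizer
-/

set_option autoImplicit false
set_option linter.unusedSectionVars false
set_option linter.unusedVariables false

namespace Cfsg.Agent.Lib.IIG

open Subgroup Cfsg

universe u

variable {G : Type u} [Group G] [Finite G]

/-- The involution of a `2`-element `w ≠ 1` lying in the Sylow subgroup `S`, etc. -/
theorem orderOf_two_elt (S : Sylow 2 G) {x : G} (hx : x ∈ (S : Subgroup G)) :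
    ∃ k : ℕ, orderOf x = 2 ^ k := by
  haveI : Fact (Nat.Prime 2) := ⟨Nat.prime_two⟩
  have h := (IsPGroup.iff_orderOf.mp S.isPGroup') ⟨x, hx⟩
  simpa [Subgroup.orderOf_mk] using h

/-- The context of Case II. -/
structure CII (S : Sylow 2 G) (z o : G) : Prop where
  ii : II G
  rad : ∀ N : Subgroup G, N.Normal → Group.IsSolvable N → N = ⊥
  ft : FT.{u}
  hz : orderOf z = 2
  hzS : z ∈ (S : Subgroup G)
  hzZ : ∀ s ∈ (S : Subgroup G), s * z = z * s
  ho : Odd (orderOf o)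
  ho1 : o ≠ 1
  hoc : o * z = z * o

variable {S : Sylow 2 G} {z o : G}

namespace CII

/-- `C_S(O)`. -/
def Q (S : Sylow 2 G) (z : G) : Subgroup G :=
  (S : Subgroup G) ⊓ centralizer {o' : G | Odd (orderOf o') ∧ o' * z = z * o'}

theorem mem_Q {a : G} : a ∈ Q S z ↔ a ∈ (S : Subgroup G) ∧
    ∀ o' : G, Odd (orderOf o') → o' * z = z * o' → o' * a = a * o' := by
  unfold Q
  rw [Subgroup.mem_inf, Subgroup.mem_centralizer_iff]
  constructor
  · rintro ⟨h1, h2⟩
    exact ⟨h1, fun o' h3 h4 => h2 o' ⟨h3, h4⟩⟩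
  · rintro ⟨h1, h2⟩
    exact ⟨h1, fun o' h3 => h2 o' h3.1 h3.2⟩

/-- Commuting with one odd element forces equality with `z`. -/
theorem eq_z_of_comm (c : CII S z o) {f o' : G} (hf : orderOf f = 2) (h1 : Odd (orderOf o'))
    (h2 : o' ≠ 1) (h3 : o' * z = z * o') (h4 : o' * f = f * o') : f = z := by
  have h5 := cent_eq_of_odd c.ii c.hz hf h1 h2 h3 h4
  refine caseI c.ii c.rad c.hz hf (fun x hx => ?_) c.ho c.ho1 c.hoc
  have : x ∈ centralizer ({f} : Set G) := by
    rw [← h5]; exact mem_cent.mpr hx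
  exact mem_cent.mp this

theorem invol_Q (c : CII S z o) {f : G} (hf : f ∈ Q S z) (hfo : orderOf f = 2) : f = z :=
  c.eq_z_of_comm hfo c.ho c.ho1 c.hoc ((mem_Q.mp hf).2 o c.ho c.hoc)

theorem mem_Q_of_mem (c : CII S z o) {w : G} (hw : w ∈ (S : Subgroup G)) (hzw : z ∈ zpowers w) :
    w ∈ Q S z := by
  refine mem_Q.mpr ⟨hw, fun o' h1 h2 => ?_⟩
  by_cases h3 : o' = 1
  · subst h3; simp
  obtain ⟨k, hk⟩ := orderOf_two_elt S hw
  have h4 : o' * w * o'⁻¹ ∈ zpowers w := conj_mem_of_mem c.ii c.hz hzw h2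
  have h5 : w * o' * w⁻¹ ∈ zpowers o' := conj_mem_of_odd c.ii c.hz h1 h2 (c.hzZ w hw)
  refine comm_of_coprime h4 h5 ?_
  rw [hk]
  refine Nat.Coprime.pow_right k ?_
  rw [Nat.coprime_two_right]
  exact h1

theorem z_mem_of_mem_Q (c : CII S z o) {w : G} (hw : w ∈ Q S z) (h1 : w ≠ 1) : z ∈ zpowers w := by
  obtain ⟨k, hk⟩ := orderOf_two_elt S (mem_Q.mp hw).1
  obtain ⟨t, ht, hto⟩ := exists_invol hk h1
  have : t ∈ Q S z := (zpowers_le.mpr hw) ht
  rw [← c.invol_Q this hto]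
  exact ht

theorem z_mem_Q (c : CII S z o) : z ∈ Q S z :=
  c.mem_Q_of_mem c.hzS (mem_zpowers z)

/-- `S` normalizes `Q`. -/
theorem conj_Q (c : CII S z o) {s a : G} (hs : s ∈ (S : Subgroup G)) (ha : a ∈ Q S z) :
    s * a * s⁻¹ ∈ Q S z := by
  refine mem_Q.mpr ⟨(S : Subgroup G).mul_mem ((S : Subgroup G).mul_mem hs (mem_Q.mp ha).1)
    ((S : Subgroup G).inv_mem hs), fun o' h1 h2 => ?_⟩
  have h3 : s * z = z * s := c.hzZ s hs
  have h4 : (s⁻¹ * o' * s) * z = z * (s⁻¹ * o' * s) := by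
    have h5 : s⁻¹ * z = z * s⁻¹ := by
      calc s⁻¹ * z = s⁻¹ * (z * s) * s⁻¹ := by group
        _ = s⁻¹ * (s * z) * s⁻¹ := by rw [h3]
        _ = z * s⁻¹ := by group
    calc s⁻¹ * o' * s * z = s⁻¹ * o' * (z * s) := by rw [mul_assoc, h3]
      _ = s⁻¹ * (o' * z) * s := by group
      _ = s⁻¹ * (z * o') * s := by rw [h2]
      _ = (s⁻¹ * z) * o' * s := by group
      _ = z * s⁻¹ * o' * s := by rw [h5]
      _ = z * (s⁻¹ * o' * s) := by group
  have h6 : Odd (orderOf (s⁻¹ * o' * s)) := by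
    have := order_conj s⁻¹ o'
    rw [inv_inv] at this
    rw [this]; exact h1
  have h7 := (mem_Q.mp ha).2 _ h6 h4
  calc o' * (s * a * s⁻¹) = s * ((s⁻¹ * o' * s) * a) * s⁻¹ := by group
    _ = s * (a * (s⁻¹ * o' * s)) * s⁻¹ := by rw [h7]
    _ = s * a * s⁻¹ * o' := by group

/-- An involution outside `Q` inverts `Q`. -/
theorem invol_inverts (c : CII S z o) {f a : G} (hf : f ∈ (S : Subgroup G)) (hfo : f * f = 1)
    (hfQ : f ∉ Q S z) (ha : a ∈ Q S z) : (f * a) * (f * a) = 1 := by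
  have hfinv : f⁻¹ = f := inv_eq_of_mul_eq_one_left hfo
  by_contra hne
  have h1 : (f * a) * (f * a) ∈ Q S z := by
    have e : (f * a) * (f * a) = (f * a * f⁻¹) * a := by rw [hfinv]; group
    rw [e]
    exact (Q S z).mul_mem (c.conj_Q hf ha) ha
  have h2 := c.z_mem_of_mem_Q h1 hne
  have h3 : z ∈ zpowers (f * a) := by
    have : zpowers ((f * a) * (f * a)) ≤ zpowers (f * a) := by
      rw [zpowers_le]
      exact (zpowers (f * a)).mul_mem (mem_zpowers _) (mem_zpowers _)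
    exact this h2
  have hfaS : f * a ∈ (S : Subgroup G) := (S : Subgroup G).mul_mem hf (mem_Q.mp ha).1
  have h4 := c.mem_Q_of_mem hfaS h3
  apply hfQ
  have e : f = (f * a) * a⁻¹ := by group
  rw [e]
  exact (Q S z).mul_mem h4 ((Q S z).inv_mem ha)

theorem invol_conj (c : CII S z o) {f a : G} (hf : f ∈ (S : Subgroup G)) (hfo : f * f = 1)
    (hfQ : f ∉ Q S z) (ha : a ∈ Q S z) : f * a * f⁻¹ = a⁻¹ := by
  have hfinv : f⁻¹ = f := inv_eq_of_mul_eq_one_left hfo
  have h := c.invol_inverts hf hfo hfQ ha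
  rw [hfinv]
  apply eq_inv_of_mul_eq_one_left
  calc f * a * f * a = (f * a) * (f * a) := by group
    _ = 1 := h

/-- There is an involution of `S` outside `Q`. -/
theorem exists_t (c : CII S z o) : ∃ g : G, g * z * g⁻¹ ∈ (S : Subgroup G) ∧ g * z * g⁻¹ ∉ Q S z := by
  obtain ⟨g, h1, h2⟩ := exists_conj_ne c.rad c.ft S c.hz c.hzS
  refine ⟨g, h1, fun h3 => h2 (c.invol_Q h3 (by rw [order_conj, c.hz]))⟩

theorem Q_comm (c : CII S z o) {a b : G} (ha : a ∈ Q S z) (hb : b ∈ Q S z) : a * b = b * a := by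
  obtain ⟨g, h1, h2⟩ := c.exists_t
  have htt : (g * z * g⁻¹) * (g * z * g⁻¹) = 1 := sq_eq_one_of_order (by rw [order_conj, c.hz])
  have e1 := c.invol_conj h1 htt h2 ha
  have e2 := c.invol_conj h1 htt h2 hb
  have e3 := c.invol_conj h1 htt h2 ((Q S z).mul_mem ha hb)
  set f := g * z * g⁻¹ with hf
  have e4 : f * (a * b) * f⁻¹ = (f * a * f⁻¹) * (f * b * f⁻¹) := by group
  rw [e4, e1, e2, mul_inv_rev] at e3
  have e5 := congrArg (fun w => w⁻¹) e3
  simp only [mul_inv_rev, inv_inv] at e5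
  exact e5.symm

theorem Q_cyclic (c : CII S z o) : IsCyclic (Q S z) := by
  have hP : IsPGroup 2 (Q S z) := by
    intro x
    haveI : Fact (Nat.Prime 2) := ⟨Nat.prime_two⟩
    have hx := (mem_Q.mp x.2).1
    obtain ⟨k, hk⟩ := orderOf_two_elt S hx
    refine ⟨k, Subtype.ext ?_⟩
    rw [Subgroup.coe_pow, ← hk, pow_orderOf_eq_one]
    rfl
  refine Cfsg.Agent.Lib.Zass.TwoCyclic.isCyclic_of_no_inversion _ rfl hP ?_ ?_
  · intro x y hx hy hx1 hy1
    have h1 := congrArg Subtype.val hx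
    have h2 := congrArg Subtype.val hy
    have h3 := c.invol_Q x.2 (order_two_of h1 (fun h0 => hx1 (Subtype.ext h0)))
    have h4 := c.invol_Q y.2 (order_two_of h2 (fun h0 => hy1 (Subtype.ext h0)))
    exact Subtype.ext (h3.trans h4.symm)
  · intro a b h
    have h1 : (a : G) * b * (a : G)⁻¹ = (b : G)⁻¹ := congrArg Subtype.val h
    have h2 := c.Q_comm a.2 b.2
    rw [h2] at h1
    have h3 : (b : G) = (b : G)⁻¹ := by
      rw [← h1]; group
    apply Subtype.ext
    show (b : G) * b = 1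
    nth_rw 1 [h3]
    group

/-- Elements of `S` outside `Q` are involutions. -/
theorem sq_of_not_mem (c : CII S z o) {y : G} (hy : y ∈ (S : Subgroup G)) (hyQ : y ∉ Q S z) :
    y * y = 1 := by
  by_contra hne
  obtain ⟨k, hk⟩ := orderOf_two_elt S hy
  obtain ⟨r, hr, hro⟩ := exists_root hk hne
  have hrS : r ∈ (S : Subgroup G) := (zpowers_le.mpr hy) hr
  set y₀ := r * r with hy₀
  have hy₀S : y₀ ∈ (S : Subgroup G) := (S : Subgroup G).mul_mem hrS hrS
  have hy₀y : y₀ ∈ zpowers y := (zpowers y).mul_mem hr hr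
  have hy₀z : y₀ ≠ z := by
    intro h0
    rw [h0] at hy₀y
    exact hyQ (c.mem_Q_of_mem hy hy₀y)
  have hy₀Q : y₀ ∉ Q S z := fun h0 => hy₀z (c.invol_Q h0 hro)
  have hy₀2 : y₀ * y₀ = 1 := sq_eq_one_of_order hro
  -- no element of `Q` squares to `z`
  have hno : ∀ x ∈ Q S z, x * x ≠ z := by
    intro x hx hxx
    have h1 := conj_root c.ii c.hz hxx (c.hzZ r hrS)
    have h2 : y₀ * x * y₀⁻¹ = x := by
      have e : y₀ * x * y₀⁻¹ = r * (r * x * r⁻¹) * r⁻¹ := by rw [hy₀]; group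
      rcases h1 with h1 | h1
      · rw [e, h1, h1]
      · have e2 : r * x⁻¹ * r⁻¹ = (r * x * r⁻¹)⁻¹ := by group
        rw [e, h1, e2, h1, inv_inv]
    have h3 := c.invol_conj hy₀S hy₀2 hy₀Q hx
    rw [h2] at h3
    have h4 : x * x = 1 := by
      nth_rw 1 [h3]
      group
    rw [h4] at hxx
    exact ne_one_of_order_two c.hz hxx.symm
  have hQ : ∀ x ∈ Q S z, x = 1 ∨ x = z := by
    intro x hx
    by_cases hx1 : x = 1
    · exact Or.inl hx1
    right
    obtain ⟨j, hj⟩ := orderOf_two_elt S (mem_Q.mp hx).1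
    by_cases hxx : x * x = 1
    · exact c.invol_Q hx (order_two_of hxx hx1)
    · exfalso
      obtain ⟨r', hr', hr'o⟩ := exists_root hj hxx
      have hr'Q : r' ∈ Q S z := (zpowers_le.mpr hx) hr'
      exact hno r' hr'Q (c.invol_Q ((Q S z).mul_mem hr'Q hr'Q) hr'o)
  -- an odd element of prime order
  obtain ⟨p, hp, hd, o₁, ho₁, hop⟩ := exists_prime_pow c.ho1
  have hodd : Odd (orderOf o₁) := by
    rw [hop]; exact Odd.of_dvd_nat c.ho hd
  have ho₁1 : o₁ ≠ 1 := by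
    rintro rfl
    rw [orderOf_one] at hop
    exact hp.one_lt.ne hop
  have ho₁z : o₁ * z = z * o₁ := (comm_of_mem_zpowers ho₁ c.hoc.symm).symm
  -- involutions of `S`
  have hinv : ∀ x ∈ (S : Subgroup G), orderOf x = 2 → x ≠ z → x * o₁ * x⁻¹ = o₁⁻¹ := by
    intro x hx hxo hxz
    have h1 := conj_mem_of_odd c.ii c.hz hodd ho₁z (c.hzZ x hx)
    rcases comm_or_inverts_prime hp hop (sq_eq_one_of_order hxo) h1 with h2 | h2
    · exact absurd (c.eq_z_of_comm hxo hodd ho₁1 ho₁z h2) hxz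
    · exact h2
  have hI : ∀ x ∈ (S : Subgroup G), orderOf x = 2 → x = z ∨ x = y₀ ∨ x = z * y₀ := by
    intro x hx hxo
    by_cases hxz : x = z
    · exact Or.inl hxz
    right
    by_cases hxy : x = y₀
    · exact Or.inl hxy
    right
    have i1 := hinv x hx hxo hxz
    have i2 := hinv y₀ hy₀S hro hy₀z
    have hw : (x * y₀) * o₁ * (x * y₀)⁻¹ = o₁ := by
      have e1 : (x * y₀) * o₁ * (x * y₀)⁻¹ = x * (y₀ * o₁ * y₀⁻¹) * x⁻¹ := by group
      have e2 : x * o₁⁻¹ * x⁻¹ = (x * o₁ * x⁻¹)⁻¹ := by group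
      rw [e1, i2, e2, i1, inv_inv]
    have hwS : x * y₀ ∈ (S : Subgroup G) := (S : Subgroup G).mul_mem hx hy₀S
    have hw1 : x * y₀ ≠ 1 := by
      intro h0
      apply hxy
      have h1 : x = y₀⁻¹ := eq_inv_of_mul_eq_one_left h0
      rw [h1]
      exact inv_eq_of_mul_eq_one_left hy₀2
    obtain ⟨j, hj⟩ := orderOf_two_elt S hwS
    obtain ⟨t', ht', ht'o⟩ := exists_invol hj hw1
    have hwc : o₁ * (x * y₀) = (x * y₀) * o₁ := by
      calc o₁ * (x * y₀) = (x * y₀) * o₁ * (x * y₀)⁻¹ * (x * y₀) := by rw [hw]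
        _ = (x * y₀) * o₁ := by group
    have h3 := (comm_of_mem_zpowers ht' hwc)
    have h4 := c.eq_z_of_comm ht'o hodd ho₁1 ho₁z h3
    have h5 : x * y₀ ∈ Q S z := c.mem_Q_of_mem hwS (h4 ▸ ht')
    rcases hQ _ h5 with h6 | h6
    · exact absurd h6 hw1
    · rw [← h6]
      calc x = x * (y₀ * y₀) := by rw [hy₀2, mul_one]
        _ = x * y₀ * y₀ := by group
  -- `y₀` has no odd elements
  have hnoOdd : ¬ HasOdd y₀ := by
    rintro ⟨o', h1, h2, h3⟩
    have hr0 : r * y₀ = y₀ * r := by rw [hy₀]; group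
    have hzr : (z * r) * (z * r) = y₀ := by
      have hc := c.hzZ r hrS
      calc (z * r) * (z * r) = z * (r * z) * r := by group
        _ = z * (z * r) * r := by rw [hc]
        _ = (z * z) * (r * r) := by group
        _ = y₀ := by rw [sq_eq_one_of_order c.hz, one_mul]
    have key : ∀ w ∈ (S : Subgroup G), w * w = y₀ → o' * w = w * o' := by
      intro w hw hww
      obtain ⟨j, hj⟩ := orderOf_two_elt S hw
      have hy₀w : y₀ ∈ zpowers w := by
        rw [← hww]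
        exact (zpowers w).mul_mem (mem_zpowers w) (mem_zpowers w)
      have h4 : o' * w * o'⁻¹ ∈ zpowers w := conj_mem_of_mem c.ii hro hy₀w h3
      have hwy : w * y₀ = y₀ * w := by rw [← hww]; group
      have h5 : w * o' * w⁻¹ ∈ zpowers o' := conj_mem_of_odd c.ii hro h1 h3 hwy
      refine comm_of_coprime h4 h5 ?_
      rw [hj]
      refine Nat.Coprime.pow_right j ?_
      rw [Nat.coprime_two_right]
      exact h1
    have h6 := key r hrS rfl
    have h7 := key (z * r) ((S : Subgroup G).mul_mem c.hzS hrS) hzr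
    have h8 : o' * z = z * o' := by
      have : o' * (z * r) * r⁻¹ = (z * r) * o' * r⁻¹ := by rw [h7]
      have e1 : o' * (z * r) * r⁻¹ = o' * z := by group
      have e2 : (z * r) * o' * r⁻¹ = z * (r * o' * r⁻¹) := by group
      have e3 : r * o' * r⁻¹ = o' := by rw [← h6]; group
      rw [e1, e2, e3] at this
      exact this
    exact hy₀z (c.eq_z_of_comm hro h1 h2 h8 h3)
  -- the contradiction
  obtain ⟨g, h1, h2⟩ := exists_conj_ne c.rad c.ft S hro hy₀S
  have h3 : ¬ HasOdd (g * y₀ * g⁻¹) := fun h0 => hnoOdd ((hasOdd_conj_iff g).mp h0)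
  have hzodd : HasOdd z := ⟨o, c.ho, c.ho1, c.hoc⟩
  have h4 : g * y₀ * g⁻¹ = z * y₀ := by
    rcases hI _ h1 (by rw [order_conj, hro]) with h5 | h5 | h5
    · rw [h5] at h3
      exact absurd hzodd h3
    · exact absurd h5 h2
    · exact h5
  obtain ⟨g', h5, h6⟩ := exists_conj_ne c.rad c.ft S c.hz c.hzS
  have h7 : HasOdd (g' * z * g'⁻¹) := hasOdd_conj g' hzodd
  rcases hI _ h5 (by rw [order_conj, c.hz]) with h8 | h8 | h8
  · exact h6 h8
  · rw [h8] at h7
    exact hnoOdd h7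
  · rw [h8, ← h4] at h7
    exact h3 h7

end CII

/-- **Case II**: the Sylow `2`-subgroup has a cyclic subgroup outside of which all elements are
involutions. -/
theorem caseII (c : CII S z o) :
    ∃ A : Subgroup G, A ≤ (S : Subgroup G) ∧ IsCyclic A ∧ A ≠ (S : Subgroup G) ∧
      ∀ y ∈ (S : Subgroup G), y ∉ A → y * y = 1 := by
  refine ⟨CII.Q S z, inf_le_left, c.Q_cyclic, ?_, fun y hy hyQ => c.sq_of_not_mem hy hyQ⟩
  intro h0
  obtain ⟨g, h1, h2⟩ := c.exists_t
  exact h2 (h0 ▸ h1)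

end Cfsg.Agent.Lib.IIG
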