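import Cfsg.Agent.Lib.IIG.CaseE3
import Cfsg.Agent.S1230

/-!
# The structure of the Sylow `2`-subgroups
-/

set_option autoImplicit false
set_option linter.unusedSectionVars false
set_option linter.unusedVariables false

namespace Cfsg.Agent.Lib.IIG

open Subgroup Cfsg

universe u

variable {G : Type u} [Group G] [Finite G] {S : Sylow 2 G} {v : G}

/-- A non-elementary Sylow subgroup has a central involution which is a square. -/
theorem exists_central_root (hII : II G) (S : Sylow 2 G) (hne : ∃ x ∈ (S : Subgroup G), x * x ≠ 1) :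
    ∃ v a : G, orderOf v = 2 ∧ v ∈ (S : Subgroup G) ∧ (∀ s ∈ (S : Subgroup G), s * v = v * s) ∧
      a ∈ (S : Subgroup G) ∧ a * a = v := by
  classical
  haveI : Fact (Nat.Prime 2) := ⟨Nat.prime_two⟩
  let X : Set G := {w | orderOf w = 2 ∧ ∃ a ∈ (S : Subgroup G), a * a = w}
  have hXne : X.Nonempty := by
    obtain ⟨x, hx, hxx⟩ := hne
    obtain ⟨k, hk⟩ := orderOf_two_elt S hx
    obtain ⟨r, hr, hro⟩ := exists_root hk hxx
    exact ⟨r * r, hro, r, (zpowers_le.mpr hx) hr, rfl⟩
  let f : G → ℕ := fun w => Nat.card ((S : Subgroup G) ⊓ centralizer ({w} : Set G) : Subgroup G)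
  obtain ⟨v, ⟨hvo, a, haS, ha⟩, hmax⟩ := Set.exists_max_image X f (Set.toFinite X) hXne
  have hvS : v ∈ (S : Subgroup G) := by rw [← ha]; exact (S : Subgroup G).mul_mem haS haS
  by_cases hZ : ∀ s ∈ (S : Subgroup G), s * v = v * s
  · exact ⟨v, a, hvo, hvS, hZ, haS, ha⟩
  exfalso
  set T : Subgroup G := (S : Subgroup G) ⊓ centralizer ({v} : Set G) with hT
  have hTS : T ≤ (S : Subgroup G) := inf_le_left
  have haT : a ∈ T := Subgroup.mem_inf.mpr ⟨haS, mem_cent.mpr (by rw [← ha]; group)⟩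
  have hvT : v ∈ T := Subgroup.mem_inf.mpr ⟨hvS, mem_cent.mpr rfl⟩
  -- the subgroup generated by central squares of `T`
  let V : Subgroup G :=
    { carrier := {e | e ∈ T ∧ e * e = 1 ∧ (∀ h ∈ T, h * e = e * h) ∧ (e = 1 ∨ ∃ b ∈ T, b * b = e)}
      one_mem' := ⟨T.one_mem, by simp, by simp, Or.inl rfl⟩
      inv_mem' := by
        rintro e ⟨h1, h2, h3, h4⟩
        rw [inv_eq_of_mul_eq_one_left h2]
        exact ⟨h1, h2, h3, h4⟩
      mul_mem' := by
        rintro e₁ e₂ ⟨h1, h2, h3, h4⟩ ⟨h5, h6, h7, h8⟩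
        have hc : e₁ * e₂ = e₂ * e₁ := (h3 e₂ h5).symm
        refine ⟨T.mul_mem h1 h5, ?_, ?_, ?_⟩
        · calc e₁ * e₂ * (e₁ * e₂) = e₁ * (e₂ * e₁) * e₂ := by group
            _ = e₁ * (e₁ * e₂) * e₂ := by rw [hc]
            _ = (e₁ * e₁) * (e₂ * e₂) := by group
            _ = 1 := by rw [h2, h6, one_mul]
        · intro h hh
          calc h * (e₁ * e₂) = (h * e₁) * e₂ := by group
            _ = (e₁ * h) * e₂ := by rw [h3 h hh]
            _ = e₁ * (h * e₂) := by group
            _ = e₁ * (e₂ * h) := by rw [h7 h hh]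
            _ = e₁ * e₂ * h := by group
        · by_cases he : e₁ * e₂ = 1
          · exact Or.inl he
          right
          by_cases he1 : e₁ = 1
          · rcases h8 with h8 | h8
            · rw [he1, h8, one_mul] at he
              exact absurd rfl he
            · rw [he1, one_mul]
              exact h8
          by_cases he2 : e₂ = 1
          · rcases h4 with h4 | h4
            · exact absurd h4 he1
            · rw [he2, mul_one]
              exact h4
          obtain ⟨b₁, hb₁, hb₁e⟩ := h4.resolve_left he1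
          obtain ⟨b₂, hb₂, hb₂e⟩ := h8.resolve_left he2
          have he12 : e₁ ≠ e₂ := by
            rintro rfl
            exact he h2
          have hbc : b₁ * b₂ = b₂ * b₁ :=
            comm_of_roots hII (order_two_of h2 he1) (order_two_of h6 he2) he12 hb₁e hb₂e
              (h7 b₁ hb₁) (h3 b₂ hb₂)
          refine ⟨b₁ * b₂, T.mul_mem hb₁ hb₂, ?_⟩
          calc b₁ * b₂ * (b₁ * b₂) = b₁ * (b₂ * b₁) * b₂ := by group
            _ = b₁ * (b₁ * b₂) * b₂ := by rw [hbc]
            _ = (b₁ * b₁) * (b₂ * b₂) := by group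
            _ = e₁ * e₂ := by rw [hb₁e, hb₂e] }
  have hVmem : ∀ e, e ∈ V ↔ e ∈ T ∧ e * e = 1 ∧ (∀ h ∈ T, h * e = e * h) ∧ (e = 1 ∨ ∃ b ∈ T, b * b = e) :=
    fun e => Iff.rfl
  have hvV : v ∈ V := by
    refine (hVmem v).mpr ⟨hvT, sq_eq_one_of_order hvo, ?_, Or.inr ⟨a, haT, ha⟩⟩
    intro h hh
    exact mem_cent.mp (Subgroup.mem_inf.mp hh).2
  have h2V : 2 ∣ Nat.card V := by
    have h1 : orderOf (⟨v, hvV⟩ : V) = 2 := by
      rw [Subgroup.orderOf_mk]; exact hvo
    have := orderOf_dvd_natCard (⟨v, hvV⟩ : V)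
    rwa [h1] at this
  -- a normalizing element
  have hTne : T.subgroupOf (S : Subgroup G) ≠ ⊤ := by
    intro h0
    apply hZ
    intro s hs
    have h1 : (⟨s, hs⟩ : (S : Subgroup G)) ∈ T.subgroupOf (S : Subgroup G) := by rw [h0]; trivial
    have h2 : s ∈ T := Subgroup.mem_subgroupOf.mp h1
    exact mem_cent.mp (Subgroup.mem_inf.mp h2).2
  haveI := S.isPGroup'.isNilpotent
  have hlt : T.subgroupOf (S : Subgroup G) < ⊤ := lt_top_iff_ne_top.mpr hTne
  have h1 := Group.normalizerCondition_of_isNilpotent (T.subgroupOf (S : Subgroup G)) hlt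
  obtain ⟨y, hy1, hy2⟩ := SetLike.exists_of_lt h1
  have hyT : ∀ h ∈ T, (y : G) * h * (y : G)⁻¹ ∈ T := by
    intro h hh
    have h3 : (⟨h, hTS hh⟩ : (S : Subgroup G)) ∈ T.subgroupOf (S : Subgroup G) :=
      Subgroup.mem_subgroupOf.mpr hh
    have h4 := (Subgroup.mem_normalizer_iff.mp hy1 _).mp h3
    exact Subgroup.mem_subgroupOf.mp h4
  have hyTinv : ∀ h ∈ T, (y : G)⁻¹ * h * (y : G) ∈ T := by
    intro h hh
    have h3 : (⟨h, hTS hh⟩ : (S : Subgroup G)) ∈ T.subgroupOf (S : Subgroup G) :=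
      Subgroup.mem_subgroupOf.mpr hh
    have h4 := (Subgroup.mem_normalizer_iff.mp (Subgroup.inv_mem _ hy1) _).mp h3
    have h5 := Subgroup.mem_subgroupOf.mp h4
    simpa using h5
  have hyV : ∀ e ∈ V, (y : G) * e * (y : G)⁻¹ ∈ V := by
    rintro e ⟨h3, h4, h5, h6⟩
    refine (hVmem _).mpr ⟨hyT e h3, ?_, ?_, ?_⟩
    · have : (y : G) * e * (y : G)⁻¹ * ((y : G) * e * (y : G)⁻¹) = (y : G) * (e * e) * (y : G)⁻¹ := by group
      rw [this, h4]; group
    · intro h hh
      have h7 := h5 _ (hyTinv h hh)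
      calc h * ((y : G) * e * (y : G)⁻¹) = (y : G) * (((y : G)⁻¹ * h * (y : G)) * e) * (y : G)⁻¹ := by group
        _ = (y : G) * (e * ((y : G)⁻¹ * h * (y : G))) * (y : G)⁻¹ := by rw [h7]
        _ = (y : G) * e * (y : G)⁻¹ * h := by group
    · rcases h6 with rfl | ⟨b, hb, hbe⟩
      · left; group
      · right
        refine ⟨(y : G) * b * (y : G)⁻¹, hyT b hb, ?_⟩
        have : (y : G) * b * (y : G)⁻¹ * ((y : G) * b * (y : G)⁻¹) = (y : G) * (b * b) * (y : G)⁻¹ := by group
        rw [this, hbe]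
  obtain ⟨k, hk⟩ := orderOf_two_elt S y.2
  obtain ⟨e, heV, he1, hye⟩ := exists_fixed_conj V h2V hyV (y := (y : G)) (k := k)
    (by rw [← hk]; exact pow_orderOf_eq_one _)
  obtain ⟨h3, h4, h5, h6⟩ := (hVmem e).mp heV
  have heX : e ∈ X := by
    refine ⟨order_two_of h4 he1, ?_⟩
    rcases h6 with h6 | ⟨b, hb, hbe⟩
    · exact absurd h6 he1
    · exact ⟨b, hTS hb, hbe⟩
  have h7 := hmax e heX
  have hle : T ≤ (S : Subgroup G) ⊓ centralizer ({e} : Set G) := by
    intro h hh
    exact Subgroup.mem_inf.mpr ⟨hTS hh, mem_cent.mpr (h5 h hh)⟩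
  have heq : T = (S : Subgroup G) ⊓ centralizer ({e} : Set G) :=
    Subgroup.eq_of_le_of_card_ge hle h7
  have hyin : (y : G) ∈ T := by
    rw [heq]
    exact Subgroup.mem_inf.mpr ⟨y.2, mem_cent.mpr hye⟩
  exact hy2 (Subgroup.mem_subgroupOf.mpr hyin)

/-- Branch D: the square roots of `v` are `a, a⁻¹` only. -/
theorem branchD (hII : II G) (hrad : ∀ N : Subgroup G, N.Normal → Group.IsSolvable N → N = ⊥)
    (ft : FT.{u}) (S : Sylow 2 G) {v a : G} (hv : orderOf v = 2) (hvS : v ∈ (S : Subgroup G))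
    (haS : a ∈ (S : Subgroup G)) (ha : a * a = v)
    (hvZ : ∀ s ∈ (S : Subgroup G), s * v = v * s) (hL : ∀ r, r * r = v → r = a ∨ r = a⁻¹) :
    ∃ A : Subgroup G, A ≤ (S : Subgroup G) ∧ IsCyclic A ∧ A ≠ (S : Subgroup G) ∧
      ∀ y ∈ (S : Subgroup G), y ∉ A → y * y = 1 := by
  classical
  haveI : Fact (Nat.Prime 2) := ⟨Nat.prime_two⟩
  have hvv := sq_eq_one_of_order hv
  have hvinv := inv_eq_self_of_order hv
  set A : Subgroup G := (S : Subgroup G) ⊓ centralizer ({a} : Set G) with hA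
  have hmemA : ∀ x, x ∈ A ↔ x ∈ (S : Subgroup G) ∧ x * a = a * x := by
    intro x
    rw [hA, Subgroup.mem_inf, mem_cent]
  have hva : v * a = a * v := by rw [← ha]; group
  have hvA : v ∈ A := (hmemA v).mpr ⟨hvS, hva⟩
  have hainv : a⁻¹ * a⁻¹ = v := by
    have : (a * a) * (a⁻¹ * a⁻¹) = 1 := by group
    rw [ha] at this
    have h2 := eq_inv_of_mul_eq_one_right this
    rw [h2, hvinv]
  have huniq : ∀ f ∈ A, orderOf f = 2 → f = v := by
    intro f hf hfo
    obtain ⟨h1, h2⟩ := (hmemA f).mp hf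
    have hff := sq_eq_one_of_order hfo
    have h3 : (f * a) * (f * a) = v := by
      calc (f * a) * (f * a) = f * (a * f) * a := by group
        _ = f * (f * a) * a := by rw [h2]
        _ = (f * f) * (a * a) := by group
        _ = v := by rw [hff, one_mul, ha]
    rcases hL _ h3 with h4 | h4
    · exfalso
      apply ne_one_of_order_two hfo
      simpa using h4
    · have : f = a⁻¹ * a⁻¹ := by
        calc f = (f * a) * a⁻¹ := by group
          _ = a⁻¹ * a⁻¹ := by rw [h4]
      rw [this, hainv]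
  have hPA : IsPGroup 2 A := S.isPGroup'.to_le inf_le_left
  have hcyc : IsCyclic A := by
    refine Cfsg.Agent.Lib.Zass.TwoCyclic.isCyclic_of_no_inversion _ rfl hPA ?_ ?_
    · intro x y hx hy hx1 hy1
      have h1 := congrArg Subtype.val hx
      have h2 := congrArg Subtype.val hy
      have h3 := huniq x x.2 (order_two_of h1 (fun h0 => hx1 (Subtype.ext h0)))
      have h4 := huniq y y.2 (order_two_of h2 (fun h0 => hy1 (Subtype.ext h0)))
      exact Subtype.ext (h3.trans h4.symm)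
    · intro d u₀ hdu
      by_contra hne
      have hne' : (u₀ : G) * u₀ ≠ 1 := fun h0 => hne (Subtype.ext h0)
      have hdu' : (d : G) * u₀ * (d : G)⁻¹ = (u₀ : G)⁻¹ := congrArg Subtype.val hdu
      obtain ⟨k, hk⟩ := orderOf_two_elt S ((hmemA _).mp u₀.2).1
      obtain ⟨r, hr, hro⟩ := exists_root hk hne'
      have hrA : r ∈ A := (zpowers_le.mpr u₀.2) hr
      have hrr := huniq _ (A.mul_mem hrA hrA) hro
      have haz : a ∈ zpowers (u₀ : G) := by
        rcases hL r hrr with h1 | h1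
        · rw [← h1]; exact hr
        · have : a = r⁻¹ := by rw [h1, inv_inv]
          rw [this]
          exact (zpowers (u₀ : G)).inv_mem hr
      obtain ⟨i, hi⟩ := haz
      have hi' : (u₀ : G) ^ i = a := hi
      have h2 : (d : G) * a * (d : G)⁻¹ = a⁻¹ := by
        rw [← hi', ← conj_zpow, hdu', inv_zpow]
      have h3 : (d : G) * a = a * d := ((hmemA _).mp d.2).2
      have h4 : (d : G) * a * (d : G)⁻¹ = a := by rw [h3]; group
      rw [h4] at h2
      have h5 : a * a = 1 := by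
        nth_rw 1 [h2]
        group
      rw [ha] at h5
      exact ne_one_of_order_two hv h5
  refine ⟨A, inf_le_left, hcyc, ?_, ?_⟩
  · intro h0
    obtain ⟨g, h1, h2⟩ := exists_conj_ne hrad ft S hv hvS
    rw [← h0] at h1
    exact h2 (huniq _ h1 (by rw [order_conj, hv]))
  · intro y hy hyA
    by_contra hyy
    obtain ⟨k, hk⟩ := orderOf_two_elt S hy
    have hya : y * a * y⁻¹ = a⁻¹ := by
      rcases conj_root hII hv ha (hvZ y hy) with h | h
      · exfalso
        apply hyA
        refine (hmemA y).mpr ⟨hy, ?_⟩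
        calc y * a = y * a * y⁻¹ * y := by group
          _ = a * y := by rw [h]
      · exact h
    have hyyA : y * y ∈ A := by
      refine (hmemA _).mpr ⟨(S : Subgroup G).mul_mem hy hy, ?_⟩
      exact sq_comm_of_conj (Or.inr hya)
    obtain ⟨j, hj⟩ := orderOf_two_elt S ((S : Subgroup G).mul_mem hy hy)
    obtain ⟨t, ht, hto⟩ := exists_invol hj hyy
    have htA : t ∈ A := (zpowers_le.mpr hyyA) ht
    have htv := huniq t htA hto
    have hvy : v ∈ zpowers y := by
      rw [← htv]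
      exact (zpowers_le.mpr ((zpowers y).mul_mem (mem_zpowers y) (mem_zpowers y))) ht
    obtain ⟨r, hr, hro⟩ := exists_root hk hyy
    have hrr : r * r = v := uniq_invol_zpowers hvy hv ((zpowers y).mul_mem hr hr) hro
    have haz : a ∈ zpowers y := by
      rcases hL r hrr with h1 | h1
      · rw [← h1]; exact hr
      · have : a = r⁻¹ := by rw [h1, inv_inv]
        rw [this]
        exact (zpowers y).inv_mem hr
    apply hyA
    refine (hmemA y).mpr ⟨hy, ?_⟩
    exact comm_of_mem_zpowers haz rfl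

/-- **The structure of the Sylow `2`-subgroups.** -/
theorem sylow_structure (hII : II G) (hrad : ∀ N : Subgroup G, N.Normal → Group.IsSolvable N → N = ⊥)
    (ft : FT.{u}) (S : Sylow 2 G) :
    (∀ t : G, orderOf t = 2 → IsMulCommutative (centralizer ({t} : Set G)) ∧
      ∀ c ∈ centralizer ({t} : Set G), c ^ 2 = 1) ∨
    ∃ A : Subgroup G, A ≤ (S : Subgroup G) ∧ IsCyclic A ∧ A ≠ (S : Subgroup G) ∧
      ∀ y ∈ (S : Subgroup G), y ∉ A → y * y = 1 := by
  classical
  haveI : Fact (Nat.Prime 2) := ⟨Nat.prime_two⟩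
  by_cases hC2 : ∃ z o : G, orderOf z = 2 ∧ z ∈ (S : Subgroup G) ∧
      (∀ s ∈ (S : Subgroup G), s * z = z * s) ∧ Odd (orderOf o) ∧ o ≠ 1 ∧ o * z = z * o
  · obtain ⟨z, o, h1, h2, h3, h4, h5, h6⟩ := hC2
    exact Or.inr (caseII ⟨hII, hrad, ft, h1, h2, h3, h4, h5, h6⟩)
  have hH3 : ∀ z ∈ (S : Subgroup G), orderOf z = 2 → (∀ s ∈ (S : Subgroup G), s * z = z * s) →
      ∀ x, x * z = z * x → x ∈ (S : Subgroup G) := by
    intro z hz hzo hzc x hx
    have hno : ¬ HasOdd z := by
      rintro ⟨o, h4, h5, h6⟩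
      exact hC2 ⟨z, o, hzo, hz, hzc, h4, h5, h6⟩
    have hP := isPGroup_cent_of_not_hasOdd hno
    have hle : (S : Subgroup G) ≤ centralizer ({z} : Set G) := fun s hs => mem_cent.mpr (hzc s hs)
    have heq := S.is_maximal' hP hle
    rw [← heq]
    exact mem_cent.mpr hx
  by_cases hel : ∀ x ∈ (S : Subgroup G), x * x = 1
  · left
    have hab : ∀ a ∈ (S : Subgroup G), ∀ b ∈ (S : Subgroup G), a * b = b * a := by
      intro a ha b hb
      have h1 := hel _ ((S : Subgroup G).mul_mem ha hb)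
      have h2 := hel a ha
      have h3 := hel b hb
      calc a * b = a * (a * b * (a * b)) * b := by rw [h1]; group
        _ = (a * a) * b * a * (b * b) := by group
        _ = b * a := by rw [h2, h3]; group
    intro t ht
    obtain ⟨x, hx⟩ := exists_conj_mem_sylow S (x := t) (k := 1) (by
      rw [pow_one, pow_two]; exact sq_eq_one_of_order ht)
    have hle : ∀ c ∈ centralizer ({t} : Set G), c * c = 1 := by
      intro c hc
      have h1 : (x * c * x⁻¹) * (x * t * x⁻¹) = (x * t * x⁻¹) * (x * c * x⁻¹) := by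
        have h2 := mem_cent.mp hc
        calc (x * c * x⁻¹) * (x * t * x⁻¹) = x * (c * t) * x⁻¹ := by group
          _ = x * (t * c) * x⁻¹ := by rw [h2]
          _ = (x * t * x⁻¹) * (x * c * x⁻¹) := by group
      have h3 := hH3 _ hx (by rw [order_conj, ht]) (fun s hs => hab s hs _ hx) _ h1
      have h4 := hel _ h3
      have e : (x * c * x⁻¹) * (x * c * x⁻¹) = x * (c * c) * x⁻¹ := by group
      rw [e] at h4
      simpa using h4
    refine ⟨⟨⟨?_⟩⟩, fun c hc => by rw [pow_two]; exact hle c hc⟩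
    intro a b
    apply Subtype.ext
    have h1 := hle _ (Subgroup.mul_mem _ a.2 b.2)
    have h2 := hle a a.2
    have h3 := hle b b.2
    show (a : G) * b = b * a
    calc (a : G) * b = a * ((a : G) * b * (a * b)) * b := by rw [h1]; group
      _ = ((a : G) * a) * b * a * ((b : G) * b) := by group
      _ = b * a := by rw [h2, h3]; group
  right
  push Not at hel
  obtain ⟨v, a, hv, hvS, hvZ, haS, ha⟩ := exists_central_root hII S hel
  have hCS := hH3 v hvS hv hvZ
  have c : CE S v := ⟨hII, hv, hvS, hvZ, hCS, hH3⟩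
  by_cases hL : ∃ a', a' * a' = v ∧ a' ≠ a ∧ a' ≠ a⁻¹
  · obtain ⟨a', h1, h2, h3⟩ := hL
    exact (c.false_of_two_roots hrad ft ha h1 h2 h3).elim
  · push Not at hL
    refine branchD hII hrad ft S hv hvS haS ha hvZ fun r hr => ?_
    by_cases h0 : r = a
    · exact Or.inl h0
    · exact Or.inr (hL r hr h0)

end Cfsg.Agent.Lib.IIG
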