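import Cfsg.Agent.Lib.IIG.Sharp2

/-!
# A central element generating a Sylow `2`-subgroup of the two-point stabiliser
-/

set_option autoImplicit false
set_option linter.unusedSectionVars false
set_option linter.unusedVariables false
set_option linter.style.haveILetI false

namespace Cfsg.Agent.Lib.IIG

open Subgroup Cfsg MulAction Cfsg.Agent.Lib.Zass.Root Cfsg.Agent.Lib.Zass.Root.RootData
open Cfsg.Agent.Lib.Zass.Sharp3 Cfsg.Agent.Lib.Zass.Sharp3Odd

universe u v w

/-- A `2`-subgroup with at most one involution is cyclic, in the dihedral case. -/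
theorem isCyclic_of_unique_invol {G : Type u} [Group G] [Finite G] (T : Sylow 2 G) {B : Subgroup G}
    (hB : Str (T : Subgroup G) B) (W : Subgroup G) (hW : IsPGroup 2 W)
    (huniq : ∀ x ∈ W, ∀ y ∈ W, x * x = 1 → y * y = 1 → x ≠ 1 → y ≠ 1 → x = y) : IsCyclic W := by
  classical
  haveI : Fact (Nat.Prime 2) := ⟨Nat.prime_two⟩
  obtain ⟨Q, hQ⟩ := hW.exists_le_sylow
  obtain ⟨c, hc⟩ := MulAction.exists_smul_eq G Q T
  have hcW : ∀ x ∈ W, c * x * c⁻¹ ∈ (T : Subgroup G) := by
    intro x hx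
    rw [← hc, coe_smul_eq_map]
    exact ⟨x, hQ hx, rfl⟩
  have hsq : ∀ x : G, (c * x * c⁻¹) * (c * x * c⁻¹) = 1 → x * x = 1 := by
    intro x h
    have e : (c * x * c⁻¹) * (c * x * c⁻¹) = c * (x * x) * c⁻¹ := by group
    rw [e] at h
    simpa using h
  by_cases hall : ∀ x ∈ W, c * x * c⁻¹ ∈ B
  · haveI := hB.cyc
    let f : W →* B :=
      { toFun := fun x => ⟨c * x * c⁻¹, hall x x.2⟩
        map_one' := by
          apply Subtype.ext
          simp
        map_mul' := by
          intro x y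
          apply Subtype.ext
          show c * ((x : G) * y) * c⁻¹ = (c * x * c⁻¹) * (c * y * c⁻¹)
          group }
    have hf : Function.Injective f := by
      intro x y hxy
      have h1 : c * (x : G) * c⁻¹ = c * (y : G) * c⁻¹ := congrArg Subtype.val hxy
      apply Subtype.ext
      have h2 := mul_right_cancel h1
      exact mul_left_cancel h2
    exact isCyclic_of_injective f hf
  · push Not at hall
    obtain ⟨x₀, hx₀, hx₀B⟩ := hall
    have h2 := hsq _ (hB.sq _ (hcW x₀ hx₀) hx₀B)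
    have hx₀1 : x₀ ≠ 1 := by
      rintro rfl
      apply hx₀B
      simp only [mul_one, mul_inv_cancel]
      exact B.one_mem
    have hle : W ≤ zpowers x₀ := by
      intro x hx
      by_cases hx1 : x = 1
      · rw [hx1]
        exact (zpowers x₀).one_mem
      have hk : ∃ k, orderOf x = 2 ^ k := by
        obtain ⟨k, hk⟩ := hW ⟨x, hx⟩
        have h1 : x ^ 2 ^ k = 1 := congrArg Subtype.val hk
        obtain ⟨j, -, hj⟩ := (Nat.dvd_prime_pow Nat.prime_two).mp (orderOf_dvd_of_pow_eq_one h1)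
        exact ⟨j, hj⟩
      obtain ⟨k, hk⟩ := hk
      obtain ⟨t, ht, hto⟩ := exists_invol hk hx1
      have htW : t ∈ W := (zpowers_le.mpr hx) ht
      have ht' := huniq t htW x₀ hx₀ (sq_eq_one_of_order hto) h2 (ne_one_of_order_two hto) hx₀1
      by_cases hxB : c * x * c⁻¹ ∈ B
      · exfalso
        apply hx₀B
        rw [← ht']
        obtain ⟨j, hj⟩ := ht
        have hj' : x ^ j = t := hj
        rw [← hj', ← conj_zpow]
        exact B.zpow_mem hxB j
      · have h3 := hsq _ (hB.sq _ (hcW x hx) hxB)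
        have h4 := huniq x hx x₀ hx₀ h3 h2 hx1 hx₀1
        rw [h4]
        exact mem_zpowers x₀
    exact isCyclic_of_injective (Subgroup.inclusion hle) (Subgroup.inclusion_injective hle)

/-- Bezout in a cyclic group. -/
theorem pow_decomp {G : Type u} [Group G] (x : G) {a m : ℕ} (hm : Nat.Coprime (2 ^ a) m) :
    ∃ u v : ℤ, x = (x ^ 2 ^ a) ^ u * (x ^ m) ^ v := by
  refine ⟨Nat.gcdA (2 ^ a) m, Nat.gcdB (2 ^ a) m, ?_⟩
  have h := Nat.gcd_eq_gcd_ab (2 ^ a) m
  rw [hm] at h
  rw [← zpow_natCast x (2 ^ a), ← zpow_natCast x m, ← zpow_mul, ← zpow_mul, ← zpow_add, ← h]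
  simp

/-- **A central Sylow generator of the two-point stabiliser.** -/
theorem exists_central_gen {G : Type u} {Ω : Type v} {A : Type w} [Group G] [MulAction G Ω]
    [AddCommGroup A] [Finite G] [Finite A] (hII : II G) (S3 : Sharp3 G Ω) (R : RootData G Ω A)
    (hAodd : Odd (Nat.card A)) (hodd : ∀ x : A, x + x = 0 → x = 0) {e : A} (he : e ≠ 0)
    (T : Sylow 2 G) {B : Subgroup G} (hB : Str (T : Subgroup G) B) :
    ∃ g ∈ R.H, ∃ k m : ℕ, 0 < k ∧ orderOf g = 2 ^ k ∧ Nat.card A = 2 ^ k * m + 1 ∧ Odd m ∧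
      ∀ x ∈ R.H, x * g = g * x := by
  classical
  haveI : Fact (Nat.Prime 2) := ⟨Nat.prime_two⟩
  obtain ⟨ι, hι, hιι, hι1, hιx⟩ := exists_iota (R := R) S3 he hodd
  have hιo : orderOf ι = 2 := order_two_of hιι hι1
  have hinvol : ∀ a ∈ R.H, a * a = 1 → a ≠ 1 → a = ι := by
    intro a ha h1 h2
    apply H_ext ha hι
    intro x
    rw [neg_of_sq ha h1 h2, hιx]
  have hcι : ∀ x ∈ R.H, x * ι = ι * x := by
    intro x hx
    apply H_ext (R.H.mul_mem hx hι) (R.H.mul_mem hι hx)
    intro y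
    rw [H_mul hx hι, H_mul hι hx, hιx, hιx, H_neg hx]
  have hcH := card_H (R := R) S3 he
  obtain ⟨P⟩ : Nonempty (Sylow 2 R.H) := inferInstance
  have hWc : IsCyclic ((P : Subgroup R.H).map R.H.subtype : Subgroup G) := by
    refine isCyclic_of_unique_invol T hB _ (P.isPGroup'.map _) ?_
    rintro _ ⟨x, -, rfl⟩ _ ⟨y, -, rfl⟩ h1 h2 h3 h4
    exact (hinvol _ x.2 h1 h3).trans (hinvol _ y.2 h2 h4).symm
  have hPc : IsCyclic P := by
    let f : P →* ((P : Subgroup R.H).map R.H.subtype : Subgroup G) :=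
      (R.H.subtype).subgroupMap (P : Subgroup R.H)
    have hf : Function.Injective f := by
      intro x y hxy
      have h1 : ((x : R.H) : G) = ((y : R.H) : G) :=
        congrArg (fun z : ((P : Subgroup R.H).map R.H.subtype : Subgroup G) => (z : G)) hxy
      exact Subtype.ext (Subtype.ext h1)
    exact isCyclic_of_injective f hf
  obtain ⟨g, hg⟩ := IsCyclic.exists_generator (α := P)
  have hord : orderOf g = Nat.card P := orderOf_eq_card_of_forall_mem_zpowers hg
  obtain ⟨k, hk⟩ := IsPGroup.iff_card.mp P.isPGroup'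
  have hidx : ¬ 2 ∣ (P : Subgroup R.H).index := P.not_dvd_index
  have hodd' : Odd (P : Subgroup R.H).index := Nat.odd_iff.mpr (by omega)
  have hc1 : Nat.card R.H = 2 ^ k * (P : Subgroup R.H).index := by
    rw [← hk]
    exact (Subgroup.card_mul_index (P : Subgroup R.H)).symm
  have hk0 : 0 < k := by
    by_contra h0
    have h1 : k = 0 := by omega
    rw [h1, pow_zero, one_mul] at hc1
    have h2 : Odd (Nat.card R.H) := hc1 ▸ hodd'
    rw [← hcH] at hAodd
    exact (Nat.not_even_iff_odd.mpr hAodd) (h2.add_one)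
  set γ : G := ((g : R.H) : G) with hγdef
  have hγH : γ ∈ R.H := (g : R.H).2
  have hordγ : orderOf γ = 2 ^ k := by
    rw [hγdef, Subgroup.orderOf_coe, Subgroup.orderOf_coe, hord, hk]
  have hγ1 : γ ≠ 1 := by
    intro h
    rw [h, orderOf_one] at hordγ
    have : 2 ^ k ≠ 1 := (Nat.one_lt_pow hk0.ne' (by norm_num)).ne'
    exact this hordγ.symm
  have hιγ : ι ∈ zpowers γ := by
    obtain ⟨t, ht, hto⟩ := exists_invol hordγ hγ1
    have htH : t ∈ R.H := (zpowers_le.mpr hγH) ht
    rw [← hinvol t htH (sq_eq_one_of_order hto) (ne_one_of_order_two hto)]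
    exact ht
  -- `P` is normal in `H`
  have hPz : ∀ n : R.H, n ∈ (P : Subgroup R.H) ↔ n ∈ zpowers (g : R.H) := by
    intro n
    constructor
    · intro hn
      obtain ⟨j, hj⟩ := hg ⟨n, hn⟩
      refine ⟨j, ?_⟩
      have := congrArg Subtype.val hj
      simpa using this
    · exact fun hn => (zpowers_le.mpr g.2) hn
  have hPn : (P : Subgroup R.H).Normal := by
    constructor
    intro n hn h
    rw [hPz] at hn ⊢
    obtain ⟨j, rfl⟩ := hn
    have h1 : (h : G) * γ * (h : G)⁻¹ ∈ zpowers γ :=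
      conj_mem_of_mem hII hιo hιγ (hcι h h.2)
    obtain ⟨i, hi⟩ := h1
    have h2 : h * (g : R.H) * h⁻¹ = (g : R.H) ^ i := by
      apply Subtype.ext
      show (h : G) * γ * (h : G)⁻¹ = γ ^ i
      exact hi.symm
    show h * ((g : R.H) ^ j) * h⁻¹ ∈ zpowers (g : R.H)
    rw [← conj_zpow, h2]
    exact Subgroup.zpow_mem _ (Subgroup.zpow_mem _ (mem_zpowers _) _) _
  refine ⟨γ, hγH, k, (P : Subgroup R.H).index, hk0, hordγ, ?_, hodd', ?_⟩
  · rw [← hcH, hc1]
  intro x hx
  obtain ⟨a, m', hm', hnm⟩ := Nat.exists_eq_two_pow_mul_odd (orderOf_pos x).ne'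
  have hcop : Nat.Coprime (2 ^ a) m' := Nat.Coprime.pow_left _ (Nat.coprime_two_left.mpr hm')
  -- the odd part
  have ho : orderOf (x ^ 2 ^ a) = m' := by
    rw [orderOf_pow' x (by positivity), hnm]
    have : Nat.gcd (2 ^ a * m') (2 ^ a) = 2 ^ a := Nat.gcd_eq_right (Dvd.intro _ rfl)
    rw [this, Nat.mul_div_cancel_left _ (by positivity)]
  have hoH : x ^ 2 ^ a ∈ R.H := R.H.pow_mem hx _
  have hcomm_o : x ^ 2 ^ a * γ = γ * x ^ 2 ^ a := by
    refine comm_of_coprime (conj_mem_of_mem hII hιo hιγ (hcι _ hoH))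
      (conj_mem_of_odd hII hιo (by rw [ho]; exact hm') (hcι _ hoH) (hcι _ hγH)) ?_
    rw [ho, hordγ]
    exact Nat.Coprime.pow_right _ (Nat.coprime_two_right.mpr hm')
  -- the `2`-part
  have h2 : orderOf (x ^ m') = 2 ^ a := by
    rw [orderOf_pow' x (by
      rintro rfl
      exact absurd hm' (by decide)), hnm]
    have : Nat.gcd (2 ^ a * m') m' = m' := Nat.gcd_eq_right (Dvd.intro_left _ rfl)
    rw [this, Nat.mul_div_cancel _ hm'.pos]
  have h2H : x ^ m' ∈ R.H := R.H.pow_mem hx _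
  have hcomm_2 : x ^ m' * γ = γ * x ^ m' := by
    let y : R.H := ⟨x ^ m', h2H⟩
    have hyp : IsPGroup 2 (zpowers y) := by
      rw [IsPGroup.iff_card, Nat.card_zpowers, Subgroup.orderOf_mk, h2]
      exact ⟨a, rfl⟩
    haveI := hPn
    have h3 := IsPGroup.to_sup_of_normal_left P.isPGroup' hyp
    have h4 := P.is_maximal' h3 le_sup_left
    have h5 : y ∈ (P : Subgroup R.H) := by
      rw [← h4]
      exact (le_sup_right : zpowers y ≤ _) (mem_zpowers y)
    rw [hPz] at h5
    obtain ⟨j, hj⟩ := h5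
    have h6 : γ ^ j = x ^ m' := congrArg Subtype.val hj
    rw [← h6]
    exact ((Commute.refl γ).zpow_left j).eq
  obtain ⟨u, v, huv⟩ := pow_decomp x hcop
  have hC1 : Commute (x ^ 2 ^ a) γ := hcomm_o
  have hC2 : Commute (x ^ m') γ := hcomm_2
  have hC : Commute ((x ^ 2 ^ a) ^ u * (x ^ m') ^ v) γ := (hC1.zpow_left u).mul_left (hC2.zpow_left v)
  rw [← huv] at hC
  exact hC

end Cfsg.Agent.Lib.IIG
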