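import Cfsg.Agent.Lib.IIG.Cent
import Cfsg.Agent.S0809
import Cfsg.Agent.S0144

/-!
# The theorem on groups in which subgroups of cyclic subgroups of even order have one normalizer
-/

set_option autoImplicit false
set_option linter.unusedSectionVars false
set_option linter.unusedVariables false
set_option linter.style.haveILetI false

namespace Cfsg.Agent.Lib.IIG

open Subgroup Cfsg Cfsg.Agent.Lib.Zass.Sharp3 Cfsg.Agent.Lib.Zass.Sharp3Odd

universe u

local notation "PGL2" => Matrix.ProjGenLinGroup (Fin 2)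
local notation "PSL2" => Matrix.ProjectiveSpecialLinearGroup (Fin 2)

attribute [local instance] PL.act

variable {G : Type u} [Group G] [Finite G]

/-- Two involutions in a Sylow `2`-subgroup. -/
theorem two_invol [Nontrivial G] (hrad : ∀ N : Subgroup G, N.Normal → Group.IsSolvable N → N = ⊥)
    (ft : FT.{u}) (S : Sylow 2 G) :
    ∃ v v' : G, v ∈ (S : Subgroup G) ∧ v' ∈ (S : Subgroup G) ∧ orderOf v = 2 ∧ orderOf v' = 2 ∧
      v ≠ v' := by
  have hodd : ¬ Odd (Nat.card (⊤ : Subgroup G)) := by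
    intro h
    exact top_ne_bot (hrad ⊤ inferInstance (ft _ h))
  obtain ⟨t, -, ht⟩ := exists_invol_of_even hodd
  obtain ⟨x, hx⟩ := exists_conj_mem_sylow S (x := t) (k := 1) (by
    rw [pow_one, pow_two]; exact sq_eq_one_of_order ht)
  have hv : orderOf (x * t * x⁻¹) = 2 := by rw [order_conj, ht]
  obtain ⟨g, h1, h2⟩ := exists_conj_ne hrad ft S hv hx
  exact ⟨_, _, hx, h1, hv, by rw [order_conj, hv], fun h => h2 h.symm⟩

/-- All involutions of `PSL₂` of a field of odd order are conjugate. -/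
theorem psl_invol_conj {F : Type} [Field F] [Fintype F] (hodd : Odd (Fintype.card F)) {x y : PSL2 F}
    (hx : orderOf x = 2) (hy : orderOf y = 2) : IsConj x y := by
  classical
  haveI : Fact (Nat.Prime 2) := ⟨Nat.prime_two⟩
  have h1 : 4 ∣ Nat.card (Matrix.SpecialLinearGroup (Fin 2) F) := by
    rw [Cfsg.Agent.Lib.Classical.SL2Sylow.card_SL2]
    obtain ⟨k, hk⟩ := hodd
    have hq : Fintype.card F - 1 = 2 * k := by omega
    have hq' : Fintype.card F + 1 = 2 * (k + 1) := by omega
    rw [hq, hq']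
    exact ⟨Fintype.card F * (k * (k + 1)), by ring⟩
  obtain ⟨A, hA⟩ := Sylow.exists_subgroup_card_pow_prime (n := 2)
    (G := Matrix.SpecialLinearGroup (Fin 2) F) 2 (by simpa using h1)
  exact (Cfsg.Agent.S0809.result rfl hodd A (by simpa using hA)).2.2.2 x y hx hy

/-- The field of order three does not occur. -/
theorem three_lt_card {N : Type u} [Group N] [Finite N] [Nontrivial N]
    (hrad : ∀ M : Subgroup N, M.Normal → Group.IsSolvable M → M = ⊥) {F : Type} [Field F]
    [Fintype F] (hodd : Odd (Fintype.card F)) (e : N ≃* PSL2 F) : 3 < Fintype.card F := by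
  classical
  by_contra hle
  have h1 : 1 < Fintype.card F := Fintype.one_lt_card
  have h3 : Fintype.card F = 3 := by
    obtain ⟨k, hk⟩ := hodd
    omega
  have h4 := PL.card_P (F := F) hodd
  rw [h3] at h4
  have h5 : Nat.card N = 2 ^ 2 * 3 ^ 1 := by
    rw [Nat.card_congr e.toEquiv]
    omega
  have h6 : Group.IsSolvable N := Cfsg.Agent.S0144.result 2 3 2 1 Nat.prime_two Nat.prime_three h5
  have h7 := hrad ⊤ inferInstance (by
    haveI := h6
    exact solvable_of_solvable_injective (f := (⊤ : Subgroup N).subtype) Subtype.val_injective)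
  exact top_ne_bot h7

/-- The elementary branch. -/
theorem main_elementary [Nontrivial G]
    (hrad : ∀ N : Subgroup G, N.Normal → Group.IsSolvable N → N = ⊥) (ft : FT.{u}) (S : Sylow 2 G)
    (hC : ∀ t : G, orderOf t = 2 → IsMulCommutative (centralizer ({t} : Set G)) ∧
      ∀ c ∈ centralizer ({t} : Set G), c ^ 2 = 1) :
    ∃ (F : Type) (_ : Field F) (_ : Fintype F), 3 < Fintype.card F ∧
      Nonempty (G ≃* PSL2 F) := by
  classical
  haveI : Fact (Nat.Prime 2) := ⟨Nat.prime_two⟩
  obtain ⟨v, v', hv, hv', hvo, hvo', hne⟩ := two_invol hrad ft S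
  have hnc : ¬ IsCyclic (S : Subgroup G) := fun hc =>
    hne (uniq_invol hc hv' hvo' hv hvo)
  have hnn : ¬ (S : Subgroup G).Normal := by
    intro hn
    haveI : Group.IsNilpotent (S : Subgroup G) := S.isPGroup'.isNilpotent
    have h1 := hrad _ hn inferInstance
    rw [h1, Subgroup.mem_bot] at hv
    exact ne_one_of_order_two hvo hv
  obtain ⟨F, hF, hFt, hcard, hiso⟩ := Cfsg.Agent.S1230.result S hnc hnn hC
  refine ⟨F, hF, hFt, ?_, hiso⟩
  obtain ⟨k, hk⟩ := IsPGroup.iff_card.mp S.isPGroup'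
  rw [hcard, hk]
  have hk2 : 2 ≤ k := by
    by_contra hlt
    have hcases : k = 0 ∨ k = 1 := by omega
    rcases hcases with rfl | rfl
    · have h1 : Subsingleton (S : Subgroup G) :=
        (Nat.card_eq_one_iff_unique.mp (by simpa using hk)).1
      have h2 : (⟨v, hv⟩ : (S : Subgroup G)) = 1 := Subsingleton.elim _ _
      exact ne_one_of_order_two hvo (congrArg Subtype.val h2)
    · exact hnc (isCyclic_of_prime_card (p := 2) (by simpa using hk))
  calc 3 < 2 ^ 2 := by norm_num
    _ ≤ 2 ^ k := Nat.pow_le_pow_right (by norm_num) hk2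

/-- The index two branch. -/
theorem main_index_two (hII : II G) {N : Subgroup G} (hN : N.Normal)
    (hcent : centralizer (N : Set G) = ⊥) (hidx : N.index = 2) {F : Type} [Field F] [Fintype F]
    (hodd : Odd (Fintype.card F)) (φ : N ≃* PSL2 F) (S : Sylow 2 G) {B : Subgroup G}
    (hB : Str (S : Subgroup G) B) :
    ∃ (K : Type) (_ : Field K) (_ : Fintype K), Fintype.card K = Fintype.card F ∧
      Nonempty (G ≃* PGL2 K) := by
  classical
  obtain ⟨p, hchar⟩ := CharP.exists F
  obtain ⟨n, hpr, hcard⟩ := FiniteField.card F p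
  haveI : Fact p.Prime := ⟨hpr⟩
  set f : ℕ := (n : ℕ) with hf
  have hf0 : f ≠ 0 := n.ne_zero
  have hpo : Odd p := PL.odd_p hcard hf0 hodd
  have hp2 : p ≠ 2 := by
    rintro rfl
    exact absurd hpo (by decide)
  have D := PL.data (F := F) (p := p) (f := f) hcard hf0 hodd
  rw [hcard] at D
  let ψ : PSL2 F →* G := N.subtype.comp φ.symm.toMonoidHom
  have hψ : Function.Injective ψ := N.subtype_injective.comp φ.symm.injective
  have hrange : ψ.range = N := by
    ext x
    constructor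
    · rintro ⟨y, rfl⟩
      exact (φ.symm y).2
    · intro hx
      exact ⟨φ ⟨x, hx⟩, by simp [ψ]⟩
  obtain ⟨S3, hcardΩ⟩ := sharp3_sylow hp2 hf0 D hII hN hcent ψ hψ hrange hidx
  haveI : Fintype (Sylow p G) := Fintype.ofFinite _
  have hq1 : 1 < p ^ f := Nat.one_lt_pow hf0 hpr.one_lt
  have h3card : 2 < Fintype.card (Sylow p G) := by
    rw [← Nat.card_eq_fintype_card, hcardΩ]
    omega
  obtain ⟨inf, o, c, hio, hic, hoc⟩ := Fintype.two_lt_card_iff.mp h3card
  have faith : ∀ g g' : G, (∀ y : Sylow p G, g • y = g' • y) → g = g' := by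
    intro g g' h
    have hh : ∀ x : Sylow p G, (g'⁻¹ * g) • x = x := by
      intro x
      rw [mul_smul, h x, inv_smul_smul]
    have := S3.sharp (g'⁻¹ * g) inf o c hio hoc hic (hh _) (hh _) (hh _)
    exact (inv_mul_eq_one.mp this).symm
  obtain ⟨A, instA, instF, R, q, j, hR1, hR2, hq, hj, hcardq, hcardA, hexp⟩ :=
    S3.exists_rootData faith (inf := inf) (o := o) (c := c) (Ne.symm hio) (Ne.symm hic) hoc
  rw [← Nat.card_eq_fintype_card, hcardΩ] at hcardq
  have hpow : q ^ j = p ^ f := by omega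
  have hqp : q = p := by
    have h1 : q ∣ p ^ f := by rw [← hpow]; exact dvd_pow_self q (by omega)
    exact (Nat.prime_dvd_prime_iff_eq hq hpr).mp (hq.dvd_of_dvd_pow h1)
  subst hqp
  have hcardA' : Nat.card A = q ^ f := hcardA.trans hpow
  have hodd' : ∀ x : A, x + x = 0 → x = 0 := by
    intro x hx
    obtain ⟨k, hk⟩ := hpo
    have h1 := hexp x
    rw [hk, add_nsmul, one_nsmul] at h1
    have h2 : (2 * k) • x = k • (x + x) := by rw [two_mul, add_nsmul, nsmul_add]
    rw [h2, hx, nsmul_zero, zero_add] at h1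
    exact h1
  haveI : Nontrivial A := by
    rw [← Finite.one_lt_card_iff_nontrivial, hcardA']
    exact hq1
  obtain ⟨e, he⟩ := exists_ne (0 : A)
  have hg := exists_central_gen hII S3 R (by rw [hcardA']; exact hpo.pow) hodd' he S hB
  obtain ⟨K, iK, iKt, hKc, hiso⟩ := main_comm S3 R hpr hp2 hf0 hexp hcardA' hg
  exact ⟨K, iK, iKt, by rw [hKc, hcard], hiso⟩

/-- **The main theorem.** -/
theorem main [Nontrivial G] (hII : II G)
    (hrad : ∀ N : Subgroup G, N.Normal → Group.IsSolvable N → N = ⊥) (ft : FT.{u}) :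
    ∃ (F : Type) (_ : Field F) (_ : Fintype F), 3 < Fintype.card F ∧
      (Nonempty (G ≃* PSL2 F) ∨ Nonempty (G ≃* PGL2 F)) := by
  classical
  haveI : Fact (Nat.Prime 2) := ⟨Nat.prime_two⟩
  obtain ⟨N, hN, hsimple, hcent⟩ := exists_simple_normal hII hrad ft
  haveI := hsimple
  have hN1 : N ≠ ⊥ := (Subgroup.nontrivial_iff_ne_bot N).mp inferInstance
  obtain ⟨Q⟩ : Nonempty (Sylow 2 N) := inferInstance
  obtain ⟨S, hS⟩ := (Q.isPGroup'.map N.subtype).exists_le_sylow
  rcases sylow_str hII hrad ft S with helem | ⟨B, hB⟩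
  · obtain ⟨F, hF, hFt, h3, hiso⟩ := main_elementary hrad ft S helem
    exact ⟨F, hF, hFt, h3, Or.inl hiso⟩
  have hIIN := II.subgroup hII N
  have hrN := hrad_normal hrad hN
  have hmemQ : ∀ x : N, (x : G) ∈ (S : Subgroup G) → x ∈ (Q : Subgroup N) := by
    intro x hx
    have hP : IsPGroup 2 ((S : Subgroup G).comap N.subtype) :=
      S.isPGroup'.comap_of_injective _ N.subtype_injective
    have hle : (Q : Subgroup N) ≤ (S : Subgroup G).comap N.subtype := fun y hy => hS ⟨y, hy, rfl⟩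
    have := Q.is_maximal' hP hle
    rw [← this]
    exact hx
  have hQS : ∀ x ∈ (Q : Subgroup N), (x : G) ∈ (S : Subgroup G) := fun x hx => hS ⟨x, hx, rfl⟩
  obtain ⟨v, v', hv, hv', hvo, hvo', hne⟩ := two_invol hrN ft Q
  set B₀ : Subgroup N := B.comap N.subtype with hB₀
  have hmemB₀ : ∀ x : N, x ∈ B₀ ↔ (x : G) ∈ B := fun x => Iff.rfl
  have hv1 : v ≠ 1 := ne_one_of_order_two hvo
  have hv'1 : v' ≠ 1 := ne_one_of_order_two hvo'
  have hcyc : IsCyclic B₀ := by
    haveI := hB.cyc
    let f : B₀ →* B :=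
      { toFun := fun x => ⟨((x : N) : G), x.2⟩
        map_one' := rfl
        map_mul' := fun _ _ => rfl }
    have hf : Function.Injective f := by
      intro x y hxy
      exact Subtype.ext (Subtype.ext (congrArg (fun z : B => (z : G)) hxy))
    exact isCyclic_of_injective f hf
  have hout : ∃ y ∈ (Q : Subgroup N), y ∉ B₀ := by
    by_contra hcon
    push Not at hcon
    exact hne (uniq_invol hcyc (hcon v' hv') hvo' (hcon v hv) hvo)
  have hstr : Str (Q : Subgroup N) B₀ :=
    { le := fun x hx => hmemQ x (hB.le hx)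
      cyc := hcyc
      out := hout
      sq := by
        intro y hy hyB
        apply Subtype.ext
        exact hB.sq _ (hQS y hy) hyB
      mul := by
        intro y hy z hz hyB hzB
        exact hB.mul _ (hQS y hy) _ (hQS z hz) hyB hzB }
  have hB₀1 : B₀ ≠ ⊥ := by
    intro h
    have h1 : v ∉ B₀ := by rw [h]; exact hv1
    have h2 : v' ∉ B₀ := by rw [h]; exact hv'1
    have h3 := hstr.mul v hv v' hv' h1 h2
    rw [h, Subgroup.mem_bot] at h3
    apply hne
    have h4 := sq_eq_one_of_order hvo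
    calc v = v * (v * v') := by rw [h3, mul_one]
      _ = (v * v) * v' := by group
      _ = v' := by rw [h4, one_mul]
  obtain ⟨F, hF, hFt, hodd, ⟨φ⟩⟩ := psl_of_str hIIN hrN ft Q B₀ hstr hB₀1
  have h3 : 3 < Fintype.card F := three_lt_card hrN hodd φ
  -- the involution
  obtain ⟨w, hw, hw1⟩ := (Subgroup.bot_or_exists_ne_one B₀).resolve_left hB₀1
  obtain ⟨k, hk⟩ := orderOf_two_elt Q (hstr.le hw)
  obtain ⟨t, htz, ht⟩ := exists_invol hk hw1
  have htB₀ : t ∈ B₀ := (zpowers_le.mpr hw) htz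
  obtain ⟨y, hy, hyB₀⟩ := hstr.out
  have hto : orderOf (t : G) = 2 := by rw [Subgroup.orderOf_coe, ht]
  have hconj : ∀ x ∈ N, orderOf x = 2 → ∃ n ∈ N, n * x * n⁻¹ = (t : G) := by
    intro x hx hxo
    have h1 : orderOf (φ ⟨x, hx⟩) = 2 := by
      rw [MulEquiv.orderOf_eq, Subgroup.orderOf_mk, hxo]
    have h2 : orderOf (φ t) = 2 := by rw [MulEquiv.orderOf_eq, ht]
    obtain ⟨c, hc⟩ := isConj_iff.mp (psl_invol_conj hodd h1 h2)
    refine ⟨(φ.symm c : N), (φ.symm c).2, ?_⟩
    have h3 : φ.symm c * ⟨x, hx⟩ * (φ.symm c)⁻¹ = t := by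
      apply φ.injective
      rw [map_mul, map_mul, map_inv, MulEquiv.apply_symm_apply, hc]
    exact congrArg Subtype.val h3
  rcases index_le_two hII hrad hN S hB (hQS y hy) hyB₀ y.2 htB₀ t.2 hto hconj with hi | hi
  · have htop : N = ⊤ := Subgroup.index_eq_one.mp hi
    have e : G ≃* N := Subgroup.topEquiv.symm.trans (MulEquiv.subgroupCongr htop.symm)
    exact ⟨F, hF, hFt, h3, Or.inl ⟨e.trans φ⟩⟩
  · obtain ⟨K, iK, iKt, hKc, hiso⟩ := main_index_two hII hN hcent hi hodd φ S hB
    exact ⟨K, iK, iKt, by rw [hKc]; exact h3, Or.inr hiso⟩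

end Cfsg.Agent.Lib.IIG
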