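import Cfsg.Agent.Lib.IIG.Str2

/-!
# The index of the simple normal subgroup
-/

set_option autoImplicit false
set_option linter.unusedSectionVars false
set_option linter.unusedVariables false

namespace Cfsg.Agent.Lib.IIG

open Subgroup Cfsg Cfsg.Agent.Lib.Core.Basic

universe u

variable {G : Type u} [Group G] [Finite G]

/-- **The index of the simple normal subgroup is at most two.** -/
theorem index_le_two (hII : II G) (hrad : ∀ N : Subgroup G, N.Normal → Group.IsSolvable N → N = ⊥)
    {N : Subgroup G} (hN : N.Normal) (S : Sylow 2 G) {B : Subgroup G} (hB : Str (S : Subgroup G) B)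
    {y t : G} (hyS : y ∈ (S : Subgroup G)) (hyB : y ∉ B) (hyN : y ∈ N) (htB : t ∈ B) (htN : t ∈ N)
    (ht : orderOf t = 2) (hconj : ∀ x ∈ N, orderOf x = 2 → ∃ n ∈ N, n * x * n⁻¹ = t) :
    N.index = 1 ∨ N.index = 2 := by
  classical
  haveI := hN
  haveI : Fact (Nat.Prime 2) := ⟨Nat.prime_two⟩
  have hyy := hB.sq y hyS hyB
  have hy1 : y ≠ 1 := fun h => hyB (h ▸ B.one_mem)
  have hyo := order_two_of hyy hy1
  have hyt : y * t = t * y := by
    have h1 := hB.inverts hyS hyB htB
    rw [inv_eq_self_of_order ht] at h1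
    calc y * t = y * t * y⁻¹ * y := by group
      _ = t * y := by rw [h1]
  have hyN1 : (QuotientGroup.mk' N) y = 1 := (QuotientGroup.eq_one_iff y).mpr hyN
  -- odd elements of `C(t)` are in `N`
  have hodd : ∀ w, Odd (orderOf w) → w * t = t * w → w ∈ N := by
    intro w ho hw
    by_contra hwN
    have h1 := conj_mem_of_odd hII ht ho hw hyt
    set u := w * (y * w * y⁻¹) with hu
    have huz : u ∈ zpowers w := (zpowers w).mul_mem (mem_zpowers w) h1
    have huy : u * y = y * u := inv_aux hyy h1
    have hut : u * t = t * u := (comm_of_mem_zpowers huz hw.symm).symm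
    have huo : Odd (orderOf u) := Odd.of_dvd_nat ho (orderOf_dvd_of_mem_zpowers huz)
    have hu1 : u ≠ 1 := by
      intro h0
      apply hwN
      have h2 : (QuotientGroup.mk' N) u = 1 := by rw [h0, map_one]
      rw [hu, map_mul, map_mul, map_mul, map_inv, hyN1, one_mul, inv_one, mul_one] at h2
      have h3 : orderOf ((QuotientGroup.mk' N) w) ∣ 2 :=
        orderOf_dvd_of_pow_eq_one (by rw [pow_two]; exact h2)
      have h4 : Odd (orderOf ((QuotientGroup.mk' N) w)) :=
        Odd.of_dvd_nat ho (orderOf_map_dvd _ _)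
      have h5 : orderOf ((QuotientGroup.mk' N) w) = 1 := by
        rcases (Nat.dvd_prime Nat.prime_two).mp h3 with h6 | h6
        · exact h6
        · rw [h6] at h4
          exact absurd h4 (by decide)
      exact (QuotientGroup.eq_one_iff w).mp (orderOf_eq_one_iff.mp h5)
    have h6 := eq_of_comm_odd hII hrad ht hyo huo hu1 hut huy
    exact hyB (h6 ▸ htB)
  -- the quotient is a `2`-group
  have hP : IsPGroup 2 (G ⧸ N) := by
    intro q
    induction q using QuotientGroup.induction_on with | H g =>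
    have h1 : g * t * g⁻¹ ∈ N := hN.conj_mem t htN g
    obtain ⟨n, hn, hnt⟩ := hconj _ h1 (by rw [order_conj, ht])
    set x := n * g with hx
    have hxt : x * t = t * x := by
      calc x * t = (n * (g * t * g⁻¹) * n⁻¹) * (n * g) := by rw [hx]; group
        _ = t * x := by rw [hnt]
    obtain ⟨a, m, hm, hnm⟩ := Nat.exists_eq_two_pow_mul_odd (orderOf_pos x).ne'
    refine ⟨a, ?_⟩
    have hord : orderOf (x ^ 2 ^ a) = m := by
      rw [orderOf_pow' x (by positivity), hnm]
      have : Nat.gcd (2 ^ a * m) (2 ^ a) = 2 ^ a := Nat.gcd_eq_right (Dvd.intro _ rfl)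
      rw [this, Nat.mul_div_cancel_left _ (by positivity)]
    have hmem := hodd (x ^ 2 ^ a) (by rw [hord]; exact hm) ((Commute.pow_left hxt _).eq)
    have hxg : ((x : G) : G ⧸ N) = (g : G ⧸ N) := by
      rw [hx, QuotientGroup.mk_mul, (QuotientGroup.eq_one_iff n).mpr hn, one_mul]
    rw [← hxg, ← QuotientGroup.mk_pow]
    exact (QuotientGroup.eq_one_iff _).mpr hmem
  -- `N S = G`
  have hK : N ⊔ (S : Subgroup G) = ⊤ := by
    have h1 : (N ⊔ (S : Subgroup G)).index ∣ N.index := Subgroup.index_dvd_of_le le_sup_left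
    have h2 : (N ⊔ (S : Subgroup G)).index ∣ (S : Subgroup G).index :=
      Subgroup.index_dvd_of_le le_sup_right
    obtain ⟨e, he⟩ := IsPGroup.iff_card.mp hP
    have hidx : N.index = 2 ^ e := by rw [Subgroup.index_eq_card, he]
    rw [hidx] at h1
    have h3 : ¬ 2 ∣ (S : Subgroup G).index := S.not_dvd_index
    obtain ⟨j, -, hj⟩ := (Nat.dvd_prime_pow Nat.prime_two).mp h1
    have hj0 : j = 0 := by
      by_contra hne
      apply h3
      refine dvd_trans ?_ h2
      rw [hj]
      exact dvd_pow_self 2 hne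
    rw [← Subgroup.index_eq_one, hj, hj0, pow_zero]
  -- the generator
  haveI hcB : IsCyclic B := hB.cyc
  obtain ⟨b', hb'⟩ := IsCyclic.exists_generator (α := B)
  set b : G := (b' : G) with hb
  have hbB : b ∈ B := b'.2
  have hmemB : ∀ x ∈ B, x ∈ zpowers b := by
    intro x hx
    obtain ⟨k, hk⟩ := hb' ⟨x, hx⟩
    refine ⟨k, ?_⟩
    have := congrArg (Subtype.val) hk
    simpa using this
  set φ := QuotientGroup.mk' N with hφ
  have hb2 : φ b * φ b = 1 := by
    have h1 := hB.inverts hyS hyB hbB
    have h2 : φ (y * b * y⁻¹) = φ b := by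
      rw [map_mul, map_mul, map_inv, hyN1, one_mul, inv_one, mul_one]
    rw [h1, map_inv] at h2
    have h3 : φ b * φ b = φ b * (φ b)⁻¹ := by rw [h2]
    rw [h3, mul_inv_cancel]
  have hz : ∀ s ∈ (S : Subgroup G), φ s ∈ zpowers (φ b) := by
    intro s hs
    by_cases hsB : s ∈ B
    · obtain ⟨k, rfl⟩ := hmemB s hsB
      exact ⟨k, (map_zpow φ b k).symm⟩
    · have h1 := hB.mul s hs y hyS hsB hyB
      obtain ⟨k, hk⟩ := hmemB _ h1
      refine ⟨k, ?_⟩
      have hk' : b ^ k = s * y := hk
      show φ b ^ k = φ s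
      rw [← map_zpow, hk', map_mul, hyN1, mul_one]
  have htop : zpowers (φ b) = ⊤ := by
    rw [eq_top_iff]
    intro q _
    obtain ⟨g, rfl⟩ := QuotientGroup.mk'_surjective N q
    have hle : N ⊔ (S : Subgroup G) ≤ (zpowers (φ b)).comap φ := by
      refine sup_le ?_ ?_
      · intro n hn
        have h0 : φ n = 1 := (QuotientGroup.eq_one_iff n).mpr hn
        rw [Subgroup.mem_comap, h0]
        exact (zpowers (φ b)).one_mem
      · intro s hs
        exact hz s hs
    rw [hK] at hle
    exact hle (Subgroup.mem_top g)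
  have hcard : N.index = orderOf (φ b) := by
    rw [Subgroup.index_eq_card, ← Nat.card_zpowers, htop, Subgroup.card_top]
  rw [hcard]
  exact (Nat.dvd_prime Nat.prime_two).mp (orderOf_dvd_of_pow_eq_one (by rw [pow_two]; exact hb2))

end Cfsg.Agent.Lib.IIG
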