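import Cfsg.Agent.Lib.IIG.Index
import Cfsg.Agent.Lib.IIG.PL
import Cfsg.Agent.Lib.IIG.MainComm

/-!
# Sharply triply transitive action
-/

set_option autoImplicit false
set_option linter.unusedSectionVars false
set_option linter.unusedVariables false
set_option linter.style.haveILetI false

namespace Cfsg.Agent.Lib.IIG

open Subgroup Cfsg Cfsg.Agent.Lib.Zass.Sharp3

universe u v

/-- A triple as an embedding. -/
def tripleEmb {Ω : Type v} (a b c : Ω) (hab : a ≠ b) (hbc : b ≠ c) (hac : a ≠ c) : Fin 3 ↪ Ω :=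
  ⟨![a, b, c], by
    intro i j hij
    fin_cases i <;> fin_cases j <;> simp_all⟩

/-- Transitivity on triples by counting. -/
theorem trans_of_card {G : Type u} {Ω : Type v} [Group G] [Finite G] [MulAction G Ω] [Finite Ω]
    {q : ℕ} (hΩ : Nat.card Ω = q + 1) (hG : Nat.card G = (q + 1) * (q * (q - 1)))
    (hsharp : ∀ (g : G) (a b c : Ω), a ≠ b → b ≠ c → a ≠ c → g • a = a → g • b = b → g • c = c →
      g = 1) (a b c a' b' c' : Ω) (hab : a ≠ b) (hbc : b ≠ c) (hac : a ≠ c) (hab' : a' ≠ b')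
    (hbc' : b' ≠ c') (hac' : a' ≠ c') : ∃ g : G, g • a = a' ∧ g • b = b' ∧ g • c = c' := by
  classical
  haveI := Fintype.ofFinite Ω
  let e₀ : Fin 3 ↪ Ω := tripleEmb a b c hab hbc hac
  let e₁ : Fin 3 ↪ Ω := tripleEmb a' b' c' hab' hbc' hac'
  let f : G → (Fin 3 ↪ Ω) := fun g => g • e₀
  have hf : Function.Injective f := by
    intro g g' hgg
    have h0 : ∀ i, g • e₀ i = g' • e₀ i := fun i => DFunLike.congr_fun hgg i
    have hh : ∀ x : Ω, g • x = g' • x → (g'⁻¹ * g) • x = x := by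
      intro x hx
      rw [mul_smul, hx, inv_smul_smul]
    have := hsharp (g'⁻¹ * g) a b c hab hbc hac (hh a (h0 0)) (hh b (h0 1)) (hh c (h0 2))
    exact (inv_mul_eq_one.mp this).symm
  have hcard : Nat.card (Fin 3 ↪ Ω) ≤ Nat.card G := by
    rw [hG, Nat.card_eq_fintype_card, Fintype.card_embedding_eq, Fintype.card_fin,
      ← Nat.card_eq_fintype_card, hΩ]
    have hd : (q + 1).descFactorial 3 = (q + 1) * (q * (q - 1)) := by
      rw [Nat.descFactorial_succ, Nat.descFactorial_succ, Nat.descFactorial_succ,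
        Nat.descFactorial_zero]
      simp only [mul_one]
      have h1 : q + 1 - 0 = q + 1 := rfl
      have h2 : q + 1 - 1 = q := rfl
      have h3 : q + 1 - 2 = q - 1 := by omega
      rw [h1, h2, h3]
      ring
    rw [hd]
  have hbij := Function.Injective.bijective_of_nat_card_le hf hcard
  obtain ⟨g, hg⟩ := hbij.2 e₁
  refine ⟨g, ?_, ?_, ?_⟩
  · exact DFunLike.congr_fun hg (0 : Fin 3)
  · exact DFunLike.congr_fun hg (1 : Fin 3)
  · exact DFunLike.congr_fun hg (2 : Fin 3)

/-- **Sharp triple transitivity from a simple normal subgroup of index two.** -/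
theorem sharp3_of_data {G : Type u} {Ω : Type v} [Group G] [Finite G] [MulAction G Ω] [Finite Ω]
    (hII : II G) {N : Subgroup G} (hN : N.Normal) (hc : centralizer (N : Set G) = ⊥) {q : ℕ}
    (hΩ : Nat.card Ω = q + 1) (hG : Nat.card G = (q + 1) * (q * (q - 1)))
    (hindex : ∀ g : G, g * g ∈ N)
    (hfix : ∀ g ∈ N, ∀ a b c : Ω, a ≠ b → b ≠ c → a ≠ c → g • a = a → g • b = b → g • c = c → g = 1)
    (U : Ω → Subgroup G)
    (hUN : ∀ α, U α ≤ N) (hUfix : ∀ α, ∀ u ∈ U α, u • α = α)
    (hUcomm : ∀ α, ∀ u ∈ U α, ∀ v ∈ U α, u * v = v * u)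
    (hUreg : ∀ α β γ, β ≠ α → γ ≠ α → ∃ u ∈ U α, u • β = γ)
    (hUfree : ∀ α β, β ≠ α → ∀ u ∈ U α, u • β = β → u = 1)
    (hUodd : ∀ α, ∀ u ∈ U α, Odd (orderOf u))
    (hUnorm : ∀ α g, g • α = α → ∀ u ∈ U α, g * u * g⁻¹ ∈ U α) : Sharp3 G Ω := by
  classical
  have hsharp : ∀ (g : G) (a b c : Ω), a ≠ b → b ≠ c → a ≠ c → g • a = a → g • b = b → g • c = c →
      g = 1 := by
    intro g a b c hab hbc hac ha hb hcc
    by_cases hgN : g ∈ N
    · exact hfix g hgN a b c hab hbc hac ha hb hcc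
    exfalso
    have hgg : g * g = 1 := by
      apply hfix _ (hindex g) a b c hab hbc hac
      · rw [mul_smul, ha, ha]
      · rw [mul_smul, hb, hb]
      · rw [mul_smul, hcc, hcc]
    have hg1 : g ≠ 1 := fun h => hgN (h ▸ N.one_mem)
    have hgo := order_two_of hgg hg1
    obtain ⟨u, hu, hub⟩ := hUreg a b c hab.symm hac.symm
    have hu1 : u ≠ 1 := by
      rintro rfl
      rw [one_smul] at hub
      exact hbc hub
    have hgu : g * u * g⁻¹ = u := by
      have h1 := hUnorm a g ha u hu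
      have h2 : g⁻¹ • b = b := inv_smul_eq_iff.mpr hb.symm
      have h3 : (u⁻¹ * (g * u * g⁻¹)) • b = b := by
        rw [mul_smul, mul_smul, mul_smul, h2, hub, hcc, ← hub, inv_smul_smul]
      have h4 := hUfree a b hab.symm _ ((U a).mul_mem ((U a).inv_mem hu) h1) h3
      exact (inv_mul_eq_one.mp h4).symm
    have hug : u * g = g * u := by
      calc u * g = g * u * g⁻¹ * g := by rw [hgu]
        _ = g * u := by group
    have hUg : ∀ v ∈ U a, v * g = g * v := by
      intro v hv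
      refine comm_of_conj_odd hII hgo (hUodd a u hu) hu1 hug ?_
      have : v * u * v⁻¹ = u := by rw [hUcomm a v hv u hu]; group
      rw [this]
      exact mem_zpowers u
    have hall : ∀ x : Ω, g • x = x := by
      intro x
      by_cases hx : x = a
      · rw [hx]; exact ha
      · obtain ⟨v, hv, hvb⟩ := hUreg a b x hab.symm hx
        rw [← hvb, ← mul_smul, ← hUg v hv, mul_smul, hb]
    apply hg1
    have hgc : g ∈ centralizer (N : Set G) := by
      rw [Subgroup.mem_centralizer_iff]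
      intro n hn
      have h1 : g * n * g⁻¹ * n⁻¹ ∈ N :=
        N.mul_mem (hN.conj_mem n hn g) (N.inv_mem hn)
      have hw : ∀ x : Ω, (g * n * g⁻¹ * n⁻¹) • x = x := by
        intro x
        have h2 : g⁻¹ • (n⁻¹ • x) = n⁻¹ • x := inv_smul_eq_iff.mpr (hall _).symm
        rw [mul_smul, mul_smul, mul_smul, h2, smul_inv_smul, hall]
      have h3 := hfix _ h1 a b c hab hbc hac (hw a) (hw b) (hw c)
      have h4 : g * n * g⁻¹ = n := mul_inv_eq_one.mp h3
      calc n * g = g * n * g⁻¹ * g := by rw [h4]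
        _ = g * n := by group
    rw [hc] at hgc
    exact Subgroup.mem_bot.mp hgc
  exact ⟨trans_of_card hΩ hG hsharp, hsharp⟩

end Cfsg.Agent.Lib.IIG
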