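import Cfsg.Agent.Lib.IIG.Sharp

/-!
# The action on the Sylow `p`-subgroups
-/

set_option autoImplicit false
set_option linter.unusedSectionVars false
set_option linter.unusedVariables false
set_option linter.style.haveILetI false

namespace Cfsg.Agent.Lib.IIG

open Subgroup Cfsg Cfsg.Agent.Lib.Zass.Sharp3

universe u v w

theorem coe_smul_eq_map {G : Type u} [Group G] {p : ℕ} (h : G) (Q : Sylow p G) :
    ((h • Q : Sylow p G) : Subgroup G) = (Q : Subgroup G).map (MulAut.conj h).toMonoidHom := rfl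

theorem card_sylow_eq {X : Type*} [Group X] [Finite X] {p f M : ℕ} [Fact p.Prime]
    (h : Nat.card X = p ^ f * M) (hM : ¬ p ∣ M) (Q : Sylow p X) : Nat.card Q = p ^ f := by
  have hpr : p.Prime := Fact.out
  obtain ⟨a, ha⟩ := IsPGroup.iff_card.mp Q.isPGroup'
  have hidx := (Q : Subgroup X).card_mul_index
  have hnd : ¬ p ∣ (Q : Subgroup X).index := Q.not_dvd_index
  have h2 : p ^ a * (Q : Subgroup X).index = p ^ f * M := by
    rw [← h, ← hidx, ha]
  have h3 : p ^ a ∣ p ^ f := by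
    have : p ^ a ∣ p ^ f * M := ⟨_, h2.symm⟩
    exact (Nat.Coprime.pow_left a ((hpr.coprime_iff_not_dvd).mpr hM)).dvd_of_dvd_mul_right this
  have h4 : p ^ f ∣ p ^ a := by
    have : p ^ f ∣ p ^ a * (Q : Subgroup X).index := ⟨_, h2⟩
    exact (Nat.Coprime.pow_left f ((hpr.coprime_iff_not_dvd).mpr hnd)).dvd_of_dvd_mul_right this
  rw [ha]
  exact Nat.dvd_antisymm h3 h4

theorem mem_of_sq_mem {G : Type u} [Group G] [Finite G] {N : Subgroup G} {x : G}
    (ho : Odd (orderOf x)) (h : x * x ∈ N) : x ∈ N := by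
  obtain ⟨k, hk⟩ := ho
  have h1 : x = (x * x) ^ (k + 1) := by
    rw [← pow_two, ← pow_mul]
    have : 2 * (k + 1) = orderOf x + 1 := by omega
    rw [this, pow_succ, pow_orderOf_eq_one, one_mul]
  rw [h1]
  exact N.pow_mem h _

namespace PLData

variable {P : Type v} {Y : Type w} [Group P] [MulAction P Y] {p q : ℕ} {K : Y → Subgroup P}

theorem reg [Finite Y] (D : PLData P Y p q K) {ω ω' ω'' : Y} (h' : ω' ≠ ω) (h'' : ω'' ≠ ω) :
    ∃ x ∈ K ω, x • ω' = ω'' := by
  classical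
  haveI := Fintype.ofFinite Y
  let f : K ω → {y : Y // y ≠ ω} := fun x => ⟨(x : P) • ω', by
    intro h
    apply h'
    have h1 : (x : P) • ω = ω := D.fix_K ω x x.2
    exact smul_left_cancel (x : P) (h.trans h1.symm)⟩
  have hf : Function.Injective f := by
    intro x y hxy
    have h1 : (x : P) • ω' = (y : P) • ω' := congrArg Subtype.val hxy
    have h2 : ((y⁻¹ * x : K ω) : P) • ω' = ω' := by
      rw [Subgroup.coe_mul, Subgroup.coe_inv, mul_smul, h1, inv_smul_smul]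
    have h3 := D.free_K ω ω' h' _ (y⁻¹ * x).2 h2
    have h4 : y⁻¹ * x = 1 := Subtype.ext h3
    exact (inv_mul_eq_one.mp h4).symm
  have hc : Nat.card {y : Y // y ≠ ω} ≤ Nat.card (K ω) := by
    rw [D.card_K, Nat.card_eq_fintype_card, Fintype.card_subtype_compl, Fintype.card_subtype_eq,
      ← Nat.card_eq_fintype_card, D.card_Y]
    omega
  have hb := Function.Injective.bijective_of_nat_card_le hf hc
  obtain ⟨x, hx⟩ := hb.2 ⟨ω'', h''⟩
  exact ⟨x, x.2, congrArg Subtype.val hx⟩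

end PLData

/-- **The action on the Sylow `p`-subgroups is sharply triply transitive.** -/
theorem sharp3_sylow {G : Type u} {P : Type v} {Y : Type w} [Group G] [Finite G] [Group P]
    [MulAction P Y] {p f : ℕ} [Fact p.Prime] (hp2 : p ≠ 2) (hf : f ≠ 0) {K : Y → Subgroup P}
    (D : PLData P Y p (p ^ f) K) (hII : II G) {N : Subgroup G} (hN : N.Normal)
    (hc : centralizer (N : Set G) = ⊥) (ψ : P →* G) (hψ : Function.Injective ψ)
    (hrange : ψ.range = N) (hidx : N.index = 2) :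
    Sharp3 G (Sylow p G) ∧ Nat.card (Sylow p G) = p ^ f + 1 := by
  classical
  have hpr : p.Prime := Fact.out
  haveI : Finite P := Finite.of_injective ψ hψ
  haveI : Finite Y := Nat.finite_of_card_ne_zero (by rw [D.card_Y]; omega)
  set q := p ^ f with hq
  have hq1 : 1 < q := Nat.one_lt_pow hf hpr.one_lt
  have hpo : Odd p := hpr.odd_of_ne_two hp2
  -- orders
  have hcardN : Nat.card N = Nat.card P := by
    rw [← hrange]
    exact (Nat.card_congr (MonoidHom.ofInjective hψ).toEquiv).symm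
  have hcardG : Nat.card G = q * ((q - 1) * (q + 1)) := by
    rw [← N.card_mul_index, hidx, hcardN]
    exact D.card_P
  have hM : ¬ p ∣ (q - 1) * (q + 1) := by
    intro h
    have h2 : p ∣ q := dvd_pow_self p hf
    rcases (Nat.Prime.dvd_mul hpr).mp h with h3 | h3
    · have h4 := Nat.dvd_sub h2 h3
      have h5 : q - (q - 1) = 1 := by omega
      rw [h5] at h4
      exact hpr.one_lt.ne' (Nat.dvd_one.mp h4)
    · have h4 := (Nat.dvd_add_right h2).mp h3
      exact hpr.one_lt.ne' (Nat.dvd_one.mp h4)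
  have hcQ : ∀ Q : Sylow p G, Nat.card Q = q := fun Q => card_sylow_eq hcardG hM Q
  have hodd : ∀ (Q : Sylow p G), ∀ x ∈ (Q : Subgroup G), Odd (orderOf x) := by
    intro Q x hx
    obtain ⟨k, hk⟩ := Q.isPGroup' ⟨x, hx⟩
    have h1 : x ^ p ^ k = 1 := congrArg Subtype.val hk
    have h2 := orderOf_dvd_of_pow_eq_one h1
    exact Odd.of_dvd_nat hpo.pow h2
  have hindex : ∀ g : G, g * g ∈ N := fun g => Subgroup.mul_self_mem_of_index_two hidx g
  have hQN : ∀ Q : Sylow p G, (Q : Subgroup G) ≤ N := fun Q x hx =>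
    mem_of_sq_mem (hodd Q x hx) (hindex x)
  -- the relation
  let rel : Sylow p G → Y → Prop := fun Q ω => (Q : Subgroup G) = (K ω).map ψ
  have hexQ : ∀ Q : Sylow p G, ∃ ω, rel Q ω := by
    intro Q
    have hle : (Q : Subgroup G) ≤ ψ.range := by rw [hrange]; exact hQN Q
    have hmap : ((Q : Subgroup G).comap ψ).map ψ = Q := Subgroup.map_comap_eq_self hle
    have h1 : Nat.card ((Q : Subgroup G).comap ψ) = q := by
      rw [← Subgroup.card_map_of_injective hψ, hmap]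
      exact hcQ Q
    obtain ⟨ω, hω⟩ := D.eq_K _ (Q.isPGroup'.comap_of_injective ψ hψ) h1
    refine ⟨ω, ?_⟩
    show (Q : Subgroup G) = (K ω).map ψ
    rw [← hω, hmap]
  have hexω : ∀ ω, ∃ Q : Sylow p G, rel Q ω := by
    intro ω
    have h1 : IsPGroup p ((K ω).map ψ) := (D.pgroup_K ω).map ψ
    obtain ⟨Q, hQ⟩ := h1.exists_le_sylow
    refine ⟨Q, ?_⟩
    refine (Subgroup.eq_of_le_of_card_ge hQ ?_).symm
    rw [hcQ, Subgroup.card_map_of_injective hψ, D.card_K]
  have huniqω : ∀ {Q : Sylow p G} {ω ω' : Y}, rel Q ω → rel Q ω' → ω = ω' := by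
    intro Q ω ω' h1 h2
    by_contra hne
    have h3 : (K ω).map ψ = (K ω').map ψ := h1.symm.trans h2
    have h4 : K ω = K ω' := (Subgroup.map_injective hψ) h3
    have h5 : Nontrivial (K ω) := by
      rw [← Finite.one_lt_card_iff_nontrivial, D.card_K]
      exact hq1
    obtain ⟨x, hx⟩ := exists_ne (1 : K ω)
    apply hx
    apply Subtype.ext
    refine D.free_K ω ω' (Ne.symm hne) _ x.2 ?_
    exact D.fix_K ω' x (h4 ▸ x.2)
  have huniqQ : ∀ {Q Q' : Sylow p G} {ω : Y}, rel Q ω → rel Q' ω → Q = Q' := by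
    intro Q Q' ω h1 h2
    exact Sylow.ext (h1.trans h2.symm)
  have hequi : ∀ {Q : Sylow p G} {ω : Y}, rel Q ω → ∀ c : P, rel (ψ c • Q) (c • ω) := by
    intro Q ω h1 c
    show ((ψ c • Q : Sylow p G) : Subgroup G) = (K (c • ω)).map ψ
    refine Subgroup.eq_of_le_of_card_ge ?_ ?_
    · rw [coe_smul_eq_map, h1]
      rintro _ ⟨_, ⟨x, hx, rfl⟩, rfl⟩
      refine ⟨c * x * c⁻¹, D.conj_K c ω x hx, ?_⟩
      simp [MulAut.conj_apply]
    · rw [hcQ, Subgroup.card_map_of_injective hψ, D.card_K]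
  choose Θ hΘ using hexQ
  have hΘinj : Function.Injective Θ := by
    intro Q Q' h
    have h1 := hΘ Q
    have h2 := hΘ Q'
    rw [← h] at h2
    exact huniqQ h1 h2
  have hΘsurj : Function.Surjective Θ := by
    intro ω
    obtain ⟨Q, hQ⟩ := hexω ω
    exact ⟨Q, huniqω (hΘ Q) hQ⟩
  have hcardΩ : Nat.card (Sylow p G) = q + 1 := by
    rw [Nat.card_congr (Equiv.ofBijective Θ ⟨hΘinj, hΘsurj⟩), D.card_Y]
  -- the action of `ψ x`
  have hact : ∀ {Q Q' : Sylow p G} {x : P}, ψ x • Q = Q' → x • Θ Q = Θ Q' := by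
    intro Q Q' x h
    have h1 := hequi (hΘ Q) x
    rw [h] at h1
    exact huniqω h1 (hΘ Q')
  have hact' : ∀ {Q Q' : Sylow p G} {x : P}, x • Θ Q = Θ Q' → ψ x • Q = Q' := by
    intro Q Q' x h
    have h1 := hequi (hΘ Q) x
    rw [h] at h1
    exact huniqQ h1 (hΘ Q')
  have hmemQ : ∀ (Q : Sylow p G) {u : G}, u ∈ (Q : Subgroup G) → ∃ x ∈ K (Θ Q), ψ x = u := by
    intro Q u hu
    have h1 : u ∈ (K (Θ Q)).map ψ := by
      have := hΘ Q
      rw [show ((K (Θ Q)).map ψ) = (Q : Subgroup G) from this.symm]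
      exact hu
    exact h1
  refine ⟨sharp3_of_data hII hN hc hcardΩ (by rw [hcardG]; ring) hindex ?_
    (fun Q => (Q : Subgroup G)) hQN ?_ ?_ ?_ ?_ hodd ?_, hcardΩ⟩
  · intro g hg a b c hab hbc hac ha hb hcc
    rw [← hrange] at hg
    obtain ⟨x, rfl⟩ := hg
    have hx := D.fix3 x (Θ a) (Θ b) (Θ c) (fun h => hab (hΘinj h)) (fun h => hbc (hΘinj h))
      (fun h => hac (hΘinj h)) (hact ha) (hact hb) (hact hcc)
    rw [hx, map_one]
  · intro Q u hu
    obtain ⟨x, hx, rfl⟩ := hmemQ Q hu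
    exact hact' (D.fix_K _ x hx)
  · intro Q u hu v hv
    obtain ⟨x, hx, rfl⟩ := hmemQ Q hu
    obtain ⟨y, hy, rfl⟩ := hmemQ Q hv
    rw [← map_mul, ← map_mul, D.comm_K _ x hx y hy]
  · intro α β γ hβ hγ
    obtain ⟨x, hx, hxy⟩ := D.reg (fun h => hβ (hΘinj h)) (fun h => hγ (hΘinj h))
    refine ⟨ψ x, ?_, hact' hxy⟩
    have := hΘ α
    rw [show (α : Subgroup G) = (K (Θ α)).map ψ from this]
    exact ⟨x, hx, rfl⟩
  · intro α β hβ u hu hub
    obtain ⟨x, hx, rfl⟩ := hmemQ α hu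
    have h1 := D.free_K _ _ (fun h => hβ (hΘinj h)) x hx (hact hub)
    rw [h1, map_one]
  · intro α g hg u hu
    have h1 : g * u * g⁻¹ ∈ ((g • α : Sylow p G) : Subgroup G) := by
      rw [coe_smul_eq_map]
      exact ⟨u, hu, rfl⟩
    rwa [hg] at h1

end Cfsg.Agent.Lib.IIG
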