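import Cfsg.Agent.Lib.IIG.Sub
import Cfsg.Agent.S0508
import Cfsg.Agent.Lib.PGroups.Presentations

/-!
# The structure of the Sylow `2`-subgroups, second version, and the recognition of `PSL₂`
-/

set_option autoImplicit false
set_option linter.unusedSectionVars false
set_option linter.unusedVariables false

namespace Cfsg.Agent.Lib.IIG

open Subgroup Cfsg Cfsg.Agent.Lib.Core.Basic

universe u

variable {G : Type u} [Group G] [Finite G]

/-- A Sylow `2`-subgroup which is dihedral-like with respect to the cyclic subgroup `B`. -/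
structure Str (S B : Subgroup G) : Prop where
  le : B ≤ S
  cyc : IsCyclic B
  out : ∃ y ∈ S, y ∉ B
  sq : ∀ y ∈ S, y ∉ B → y * y = 1
  mul : ∀ y ∈ S, ∀ z ∈ S, y ∉ B → z ∉ B → y * z ∈ B

theorem comm_of_elementary {S : Subgroup G} (hel : ∀ x ∈ S, x * x = 1) {a b : G} (ha : a ∈ S)
    (hb : b ∈ S) : a * b = b * a := by
  have h1 := hel _ (S.mul_mem ha hb)
  have h2 := hel a ha
  have h3 := hel b hb
  calc a * b = a * (a * b * (a * b)) * b := by rw [h1]; group
    _ = (a * a) * b * a * (b * b) := by group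
    _ = b * a := by rw [h2, h3]; group

/-- An involution of `S` commuting with an odd element commuting with `z` equals `z`. -/
theorem eq_of_comm_odd (hII : II G) (hrad : ∀ N : Subgroup G, N.Normal → Group.IsSolvable N → N = ⊥)
    {z s o : G} (hz : orderOf z = 2) (hs : orderOf s = 2) (ho : Odd (orderOf o)) (ho1 : o ≠ 1)
    (hoz : o * z = z * o) (hos : o * s = s * o) : s = z := by
  have hc := cent_eq_of_odd hII hz hs ho ho1 hoz hos
  refine caseI hII hrad hz hs ?_ ho ho1 hoz
  intro x hx
  have : x ∈ centralizer ({z} : Set G) := mem_cent.mpr hx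
  rw [hc] at this
  exact mem_cent.mp this

theorem str_of_elementary (hII : II G) (hrad : ∀ N : Subgroup G, N.Normal → Group.IsSolvable N → N = ⊥)
    (ft : FT.{u}) (S : Sylow 2 G) (hel : ∀ x ∈ (S : Subgroup G), x * x = 1) {z o : G}
    (hz : orderOf z = 2) (hzS : z ∈ (S : Subgroup G)) (ho : Odd (orderOf o)) (ho1 : o ≠ 1)
    (hoc : o * z = z * o) : Str (S : Subgroup G) (zpowers z) := by
  classical
  obtain ⟨p, hp, hd, w, hw, hwo⟩ := exists_prime_pow ho1
  have hpodd : Odd p := Odd.of_dvd_nat ho hd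
  have hwodd : Odd (orderOf w) := by rw [hwo]; exact hpodd
  have hw1 : w ≠ 1 := by
    rintro rfl
    rw [orderOf_one] at hwo
    exact hp.one_lt.ne hwo
  have hwz : w * z = z * w := (comm_of_mem_zpowers hw hoc.symm).symm
  have hcomm : ∀ y ∈ (S : Subgroup G), y * z = z * y := fun y hy => comm_of_elementary hel hy hzS
  have hinv : ∀ y ∈ (S : Subgroup G), y ∉ zpowers z → y * w * y⁻¹ = w⁻¹ := by
    intro y hy hyz
    have hyy := hel y hy
    have hy1 : y ≠ 1 := fun h => hyz (h ▸ (zpowers z).one_mem)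
    have hyo := order_two_of hyy hy1
    rcases comm_or_inverts_prime hp hwo hyy (conj_mem_of_odd hII hz hwodd hwz (hcomm y hy)) with h | h
    · exfalso
      have := eq_of_comm_odd hII hrad hz hyo hwodd hw1 hwz h
      exact hyz (this ▸ mem_zpowers z)
    · exact h
  refine ⟨?_, inferInstance, ?_, fun y hy _ => hel y hy, ?_⟩
  · exact zpowers_le.mpr hzS
  · obtain ⟨g, h1, h2⟩ := exists_conj_ne hrad ft S hz hzS
    refine ⟨_, h1, fun h3 => ?_⟩
    rcases mem_zpowers_invol hz h3 with h4 | h4
    · apply ne_one_of_order_two hz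
      have : z = g⁻¹ * (g * z * g⁻¹) * g := by group
      rw [this, h4]; group
    · exact h2 h4
  · intro y hy y' hy' hyz hyz'
    by_contra hn
    have h1 := hinv _ ((S : Subgroup G).mul_mem hy hy') hn
    have h2 : y * y' * w * (y * y')⁻¹ = y * (y' * w * y'⁻¹) * y⁻¹ := by group
    have h5 : y * w⁻¹ * y⁻¹ = w := by
      have : y * w⁻¹ * y⁻¹ = (y * w * y⁻¹)⁻¹ := by group
      rw [this, hinv y hy hyz, inv_inv]
    rw [h2, hinv y' hy' hyz', h5] at h1
    have hww : w * w = 1 := by
      nth_rw 1 [h1]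
      group
    have h3 : orderOf w ∣ 2 := orderOf_dvd_of_pow_eq_one (by rw [pow_two]; exact hww)
    rw [hwo] at h3
    have h4 := (Nat.prime_dvd_prime_iff_eq hp Nat.prime_two).mp h3
    rw [h4] at hpodd
    exact absurd hpodd (by decide)

theorem str_of_nonelementary {S A : Subgroup G} (hAS : A ≤ S) (hc : IsCyclic A) (hne : A ≠ S)
    (hout : ∀ y ∈ S, y ∉ A → y * y = 1) {x : G} (hxS : x ∈ S) (hxx : x * x ≠ 1) : Str S A := by
  classical
  have hxA : x ∈ A := by
    by_contra h
    exact hxx (hout x hxS h)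
  have hinv : ∀ u ∈ S, u ∉ A → u * x * u⁻¹ = x⁻¹ := by
    intro u hu huA
    have h1 : u * x ∉ A := fun h => huA (by
      have := A.mul_mem h (A.inv_mem hxA)
      simpa using this)
    have h2 := hout _ (S.mul_mem hu hxS) h1
    have huu := hout u hu huA
    have hui : u⁻¹ = u := inv_eq_of_mul_eq_one_left huu
    rw [hui]
    apply eq_inv_of_mul_eq_one_left
    calc u * x * u * x = u * x * (u * x) := by group
      _ = 1 := h2
  refine ⟨hAS, hc, ?_, hout, ?_⟩
  · by_contra hcon
    push Not at hcon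
    exact hne (le_antisymm hAS hcon)
  · intro y hy z hz hyA hzA
    by_contra hn
    have hv := hout _ (S.mul_mem hy hz) hn
    have h1 : (y * z) * x * (y * z)⁻¹ = x := by
      have h2 : (y * z) * x * (y * z)⁻¹ = y * (z * x * z⁻¹) * y⁻¹ := by group
      rw [h2, hinv z hz hzA]
      have h3 : y * x⁻¹ * y⁻¹ = (y * x * y⁻¹)⁻¹ := by group
      rw [h3, hinv y hy hyA, inv_inv]
    have h2 : (y * z) * x ∉ A := fun h => hn (by
      have := A.mul_mem h (A.inv_mem hxA)
      simpa using this)
    have h3 := hout _ (S.mul_mem (S.mul_mem hy hz) hxS) h2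
    apply hxx
    have hvi : (y * z)⁻¹ = y * z := inv_eq_of_mul_eq_one_left hv
    rw [hvi] at h1
    calc x * x = ((y * z) * x * (y * z)) * x := by rw [h1]
      _ = (y * z) * x * ((y * z) * x) := by group
      _ = 1 := h3

/-- **The structure of the Sylow `2`-subgroups, second version.** -/
theorem sylow_str (hII : II G) (hrad : ∀ N : Subgroup G, N.Normal → Group.IsSolvable N → N = ⊥)
    (ft : FT.{u}) (S : Sylow 2 G) :
    (∀ t : G, orderOf t = 2 → IsMulCommutative (centralizer ({t} : Set G)) ∧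
      ∀ c ∈ centralizer ({t} : Set G), c ^ 2 = 1) ∨
    ∃ B : Subgroup G, Str (S : Subgroup G) B := by
  classical
  haveI : Fact (Nat.Prime 2) := ⟨Nat.prime_two⟩
  by_cases hel : ∀ x ∈ (S : Subgroup G), x * x = 1
  · by_cases hC2 : ∃ z o : G, orderOf z = 2 ∧ z ∈ (S : Subgroup G) ∧
        Odd (orderOf o) ∧ o ≠ 1 ∧ o * z = z * o
    · obtain ⟨z, o, h1, h2, h4, h5, h6⟩ := hC2
      exact Or.inr ⟨_, str_of_elementary hII hrad ft S hel h1 h2 h4 h5 h6⟩
    left
    have hab : ∀ a ∈ (S : Subgroup G), ∀ b ∈ (S : Subgroup G), a * b = b * a :=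
      fun a ha b hb => comm_of_elementary hel ha hb
    have hH3 : ∀ z ∈ (S : Subgroup G), orderOf z = 2 →
        ∀ x, x * z = z * x → x ∈ (S : Subgroup G) := by
      intro z hz hzo x hx
      have hno : ¬ HasOdd z := by
        rintro ⟨o, h4, h5, h6⟩
        exact hC2 ⟨z, o, hzo, hz, h4, h5, h6⟩
      have hP := isPGroup_cent_of_not_hasOdd hno
      have hle : (S : Subgroup G) ≤ centralizer ({z} : Set G) := fun s hs => mem_cent.mpr (hab s hs z hz)
      have heq := S.is_maximal' hP hle
      rw [← heq]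
      exact mem_cent.mpr hx
    intro t ht
    obtain ⟨x, hx⟩ := exists_conj_mem_sylow S (x := t) (k := 1) (by
      rw [pow_one, pow_two]; exact sq_eq_one_of_order ht)
    have hle : ∀ c ∈ centralizer ({t} : Set G), c * c = 1 := by
      intro c hc
      have h1 : (x * c * x⁻¹) * (x * t * x⁻¹) = (x * t * x⁻¹) * (x * c * x⁻¹) := by
        have h2 := mem_cent.mp hc
        calc (x * c * x⁻¹) * (x * t * x⁻¹) = x * (c * t) * x⁻¹ := by group
          _ = x * (t * c) * x⁻¹ := by rw [h2]
          _ = (x * t * x⁻¹) * (x * c * x⁻¹) := by group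
      have h3 := hH3 _ hx (by rw [order_conj, ht]) _ h1
      have h4 := hel _ h3
      have e : (x * c * x⁻¹) * (x * c * x⁻¹) = x * (c * c) * x⁻¹ := by group
      rw [e] at h4
      simpa using h4
    refine ⟨⟨⟨?_⟩⟩, fun c hc => by rw [pow_two]; exact hle c hc⟩
    intro a b
    apply Subtype.ext
    have h1 := hle _ (Subgroup.mul_mem _ a.2 b.2)
    have h2 := hle a a.2
    have h3 := hle b b.2
    show (a : G) * b = b * a
    calc (a : G) * b = a * ((a : G) * b * (a * b)) * b := by rw [h1]; group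
      _ = ((a : G) * a) * b * a * ((b : G) * b) := by group
      _ = b * a := by rw [h2, h3]; group
  · push Not at hel
    obtain ⟨x, hx, hxx⟩ := hel
    rcases sylow_structure hII hrad ft S with h | ⟨A, h1, h2, h3, h4⟩
    · exact Or.inl h
    · exact Or.inr ⟨A, str_of_nonelementary h1 h2 h3 h4 hx hxx⟩

namespace Str

variable {S B : Subgroup G}

/-- Outside elements invert. -/
theorem inverts (h : Str S B) {y x : G} (hy : y ∈ S) (hyB : y ∉ B) (hx : x ∈ B) :
    y * x * y⁻¹ = x⁻¹ := by
  have h1 : y * x ∉ B := fun h' => hyB (by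
    have := B.mul_mem h' (B.inv_mem hx)
    simpa using this)
  have h2 := h.sq _ (S.mul_mem hy (h.le hx)) h1
  have huu := h.sq y hy hyB
  have hui : y⁻¹ = y := inv_eq_of_mul_eq_one_left huu
  rw [hui]
  apply eq_inv_of_mul_eq_one_left
  calc y * x * y * x = y * x * (y * x) := by group
    _ = 1 := h2

/-- The index. -/
theorem card_eq (h : Str S B) : Nat.card S = 2 * Nat.card B := by
  classical
  obtain ⟨y, hy, hyB⟩ := h.out
  have h1 : (B.subgroupOf S).index = 2 := by
    rw [Subgroup.index_eq_two_iff]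
    refine ⟨⟨y, hy⟩, fun b => ?_⟩
    by_cases hb : (b : G) ∈ B
    · right
      constructor
      · exact Subgroup.mem_subgroupOf.mpr hb
      · intro h2
        apply hyB
        have h3 : (b : G) * y ∈ B := Subgroup.mem_subgroupOf.mp h2
        have := B.mul_mem (B.inv_mem hb) h3
        simpa using this
    · left
      constructor
      · have h3 : (b : G) * y ∈ B := h.mul _ b.2 _ hy hb hyB
        exact Subgroup.mem_subgroupOf.mpr h3
      · intro h2
        exact hb (Subgroup.mem_subgroupOf.mp h2)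
  have h2 := (B.subgroupOf S).card_mul_index
  rw [h1, Nat.card_congr (Subgroup.subgroupOfEquivOfLe h.le).toEquiv] at h2
  omega

end Str

end Cfsg.Agent.Lib.IIG
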