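import Cfsg.Agent.Lib.IIG.Str

/-!
# Recognition of `PSL₂` in the dihedral case
-/

set_option autoImplicit false
set_option linter.unusedSectionVars false
set_option linter.unusedVariables false

namespace Cfsg.Agent.Lib.IIG

open Subgroup Cfsg Cfsg.Agent.Lib.Core.Basic

universe u

variable {G : Type u} [Group G] [Finite G]

/-- **Brauer–Suzuki–Wall applied.** -/
theorem psl_of_str [IsSimpleGroup G] (hII : II G)
    (hrad : ∀ N : Subgroup G, N.Normal → Group.IsSolvable N → N = ⊥) (ft : FT.{u}) (Q : Sylow 2 G)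
    (A : Subgroup G) (hA : Str (Q : Subgroup G) A) (hA1 : A ≠ ⊥) :
    ∃ (F : Type) (_ : Field F) (_ : Fintype F), Odd (Fintype.card F) ∧
      Nonempty (G ≃* Matrix.ProjectiveSpecialLinearGroup (Fin 2) F) := by
  classical
  haveI : Fact (Nat.Prime 2) := ⟨Nat.prime_two⟩
  haveI hcA : IsCyclic A := hA.cyc
  obtain ⟨a', ha'⟩ := IsCyclic.exists_generator (α := A)
  set a : G := (a' : G) with ha
  have haA : a ∈ A := a'.2
  have hmemA : ∀ x ∈ A, x ∈ zpowers a := by
    intro x hx
    obtain ⟨k, hk⟩ := ha' ⟨x, hx⟩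
    refine ⟨k, ?_⟩
    have := congrArg (Subtype.val) hk
    simpa using this
  have ha1 : a ≠ 1 := by
    intro h
    apply hA1
    rw [eq_bot_iff]
    intro x hx
    have := hmemA x hx
    rw [h, Subgroup.zpowers_one_eq_bot] at this
    exact this
  have hAz : A = zpowers a := le_antisymm hmemA (zpowers_le.mpr haA)
  obtain ⟨k, hk⟩ := orderOf_two_elt Q (hA.le haA)
  obtain ⟨t, htz, ht⟩ := exists_invol hk ha1
  have htA : t ∈ A := (zpowers_le.mpr haA) htz
  have htS : t ∈ (Q : Subgroup G) := hA.le htA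
  have htt := sq_eq_one_of_order ht
  -- `t` is a power of every nontrivial element of `A`
  have htx : ∀ x ∈ A, x ≠ 1 → t ∈ zpowers x := by
    intro x hx hx1
    obtain ⟨j, hj⟩ := orderOf_two_elt Q (hA.le hx)
    obtain ⟨t', ht'z, ht'⟩ := exists_invol hj hx1
    have h1 : t' ∈ A := (zpowers_le.mpr hx) ht'z
    have h2 := uniq_invol hcA htA ht h1 ht'
    rwa [h2] at ht'z
  have hcommA : ∀ x ∈ A, ∀ y ∈ A, x * y = y * x := by
    intro x hx y hy
    obtain ⟨i, rfl⟩ := hmemA x hx
    obtain ⟨j, rfl⟩ := hmemA y hy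
    exact (Commute.zpow_zpow_self a i j).eq
  -- `t` is central in `Q`
  have htZ : ∀ s ∈ (Q : Subgroup G), s * t = t * s := by
    intro s hs
    by_cases hsA : s ∈ A
    · exact hcommA s hsA t htA
    · have h1 := hA.inverts hs hsA htA
      rw [inv_eq_self_of_order ht] at h1
      calc s * t = s * t * s⁻¹ * s := by group
        _ = t * s := by rw [h1]
  -- the dihedral structure
  obtain ⟨y, hy, hyA⟩ := hA.out
  have hyy := hA.sq y hy hyA
  have hord : orderOf a = Nat.card A := by
    rw [hAz, Nat.card_zpowers]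
  have hn : 2 ≤ Nat.card A := by
    rw [← hord]
    by_contra hlt
    have h0 : 0 < orderOf a := orderOf_pos a
    have : orderOf a = 1 := by omega
    exact ha1 (orderOf_eq_one_iff.mp this)
  haveI : NeZero (Nat.card A) := ⟨by omega⟩
  have hS : Nonempty ((Q : Subgroup G) ≃* DihedralGroup (Nat.card A)) := by
    have haQ : a ∈ (Q : Subgroup G) := hA.le haA
    obtain ⟨e⟩ := Cfsg.Agent.Lib.PGroups.Presentations.nonempty_dihedral_equiv
      (G := (Q : Subgroup G)) (a := ⟨a, haQ⟩) (y := ⟨y, hy⟩) (m := Nat.card A)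
      (by rw [Subgroup.orderOf_mk]; exact hord)
      (by
        apply Subtype.ext
        show y ^ 2 = 1
        rw [pow_two]; exact hyy)
      (by
        apply Subtype.ext
        exact hA.inverts hy hyA haA)
      (by
        intro h
        obtain ⟨j, hj⟩ := h
        apply hyA
        have : a ^ j = y := by
          have := congrArg Subtype.val hj
          simpa using this
        rw [← this]
        exact A.zpow_mem haA j)
      hA.card_eq
    exact ⟨e.symm⟩
  -- the odd core
  set C : Subgroup G := centralizer ({t} : Set G) with hC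
  set O : Subgroup G := (Cfsg.oddCore C).map C.subtype with hO
  have hOC : ∀ o ∈ O, o * t = t * o := by
    intro o ho
    rw [hO] at ho
    obtain ⟨b, -, rfl⟩ := ho
    exact Subgroup.mem_centralizer_singleton_iff.mp b.2
  have hOodd : ∀ o ∈ O, Odd (orderOf o) := by
    intro o ho
    rw [hO] at ho
    obtain ⟨b, hb', rfl⟩ := ho
    have h1 : (Nat.card (Cfsg.oddCore C)).Coprime 2 := pPrimeCore_coprime
    have h2 : Odd (Nat.card (Cfsg.oddCore C)) := Nat.coprime_two_right.mp h1
    have h3 : orderOf (b : C) ∣ Nat.card (Cfsg.oddCore C) := by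
      have := orderOf_dvd_natCard (⟨b, hb'⟩ : Cfsg.oddCore C)
      rwa [Subgroup.orderOf_mk] at this
    change Odd (orderOf ((b : C) : G))
    rw [Subgroup.orderOf_coe]
    exact Odd.of_dvd_nat h2 h3
  have hAcent : A ≤ centralizer (O : Set G) := by
    intro x hx
    rw [Subgroup.mem_centralizer_iff]
    intro o ho
    by_cases hx1 : x = 1
    · rw [hx1]; group
    have h1 := htx x hx hx1
    have h2 := conj_mem_of_odd hII ht (hOodd o ho) (hOC o ho) (htZ x (hA.le hx))
    have h3 := conj_mem_of_mem hII ht h1 (hOC o ho)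
    obtain ⟨j, hj⟩ := orderOf_two_elt Q (hA.le hx)
    refine (comm_of_coprime h3 h2 ?_)
    rw [hj]
    exact Nat.Coprime.pow_right _ (Nat.coprime_two_right.mpr (hOodd o ho))
  have hkey : ∀ s ∈ (Q : Subgroup G), s ∉ A → ∀ o, Odd (orderOf o) → o ≠ 1 → o * t = t * o →
      o * s ≠ s * o := by
    intro s hs hsA o ho ho1 hot hos
    have hs1 : s ≠ 1 := fun h => hsA (h ▸ A.one_mem)
    have hso := order_two_of (hA.sq s hs hsA) hs1
    have := eq_of_comm_odd hII hrad ht hso ho ho1 hot hos
    exact hsA (this ▸ htA)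
  obtain ⟨F, hF, hFt, hodd, hiso⟩ := Cfsg.Agent.S0508.result Q (Nat.card A) hn hS t ht htS htZ O rfl
    (by
      intro hO1
      have heq : (Q : Subgroup G) ⊓ centralizer (O : Set G) = A := by
        apply le_antisymm
        · rintro s ⟨hs, hsc⟩
          by_contra hsA
          obtain ⟨o, ho, ho1⟩ := (Subgroup.bot_or_exists_ne_one O).resolve_left hO1
          exact hkey s hs hsA o (hOodd o ho) ho1 (hOC o ho)
            ((Subgroup.mem_centralizer_iff.mp hsc) o ho)
        · exact le_inf hA.le hAcent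
      rw [heq]
      refine ⟨hcA, ?_⟩
      have h1 := hA.card_eq
      have h2 : A.relIndex (Q : Subgroup G) = (A.subgroupOf (Q : Subgroup G)).index := rfl
      have h3 := (A.subgroupOf (Q : Subgroup G)).card_mul_index
      rw [Nat.card_congr (Subgroup.subgroupOfEquivOfLe hA.le).toEquiv, h1] at h3
      rw [h2]
      have h4 : 0 < Nat.card A := Nat.card_pos
      nlinarith)
    (by
      intro s hs hsc o ho
      have hsA : s ∉ A := fun h => hsc (hAcent h)
      have hss := hA.sq s hs hsA
      have h1 := conj_mem_of_odd hII ht (hOodd o ho) (hOC o ho) (htZ s hs)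
      refine inverts_of_fpf hss h1 ?_
      intro n hn' hns
      by_contra hn1
      have hnO : n ∈ O := (zpowers_le.mpr ho) hn'
      exact hkey s hs hsA n (hOodd n hnO) hn1 (hOC n hnO) hns)
    (by
      intro Y hY hY1 g hg
      rw [mem_cent]
      obtain ⟨o, ho, ho1⟩ := (Subgroup.bot_or_exists_ne_one Y).resolve_left hY1
      have h1 : g * o * g⁻¹ ∈ Y := (Subgroup.mem_normalizer_iff.mp hg o).mp ho
      have h2 := hOC _ (hY h1)
      have h3 : o * (g⁻¹ * t * g) = (g⁻¹ * t * g) * o := by
        calc o * (g⁻¹ * t * g) = g⁻¹ * ((g * o * g⁻¹) * t) * g := by group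
          _ = g⁻¹ * (t * (g * o * g⁻¹)) * g := by rw [h2]
          _ = (g⁻¹ * t * g) * o := by group
      have h4 : orderOf (g⁻¹ * t * g) = 2 := by
        have := order_conj g⁻¹ t
        rw [inv_inv] at this
        rw [this, ht]
      have h5 := eq_of_comm_odd hII hrad ht h4 (hOodd o (hY ho)) ho1 (hOC o (hY ho)) h3
      calc g * t = g * (g⁻¹ * t * g) := by rw [h5]
        _ = t * g := by group)
  exact ⟨F, hF, hFt, hodd, hiso⟩

end Cfsg.Agent.Lib.IIG
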