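import Cfsg.Agent.Lib.IIG.CaseIII
import Cfsg.Agent.Lib.Transfer.SolvCentral
import Cfsg.Agent.Lib.Core.Basic

/-!
# Reduction to a simple normal subgroup with trivial centralizer
-/

set_option autoImplicit false
set_option linter.unusedSectionVars false
set_option linter.unusedVariables false

namespace Cfsg.Agent.Lib.IIG

open Subgroup Cfsg Cfsg.Agent.Lib.Core.Basic Cfsg.Agent.Lib.Transfer.SolvCentral

universe u

variable {G : Type u} [Group G]

/-- Normalizers in a subgroup, seen in the whole group. -/
theorem mem_normalizer_map_iff (K : Subgroup G) (W : Subgroup K) (g : K) :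
    g ∈ normalizer (W : Set K) ↔
      (g : G) ∈ normalizer ((W.map K.subtype : Subgroup G) : Set G) := by
  rw [Subgroup.mem_normalizer_iff, Subgroup.mem_normalizer_iff]
  constructor
  · intro h x
    constructor
    · rintro ⟨w, hw, rfl⟩
      exact ⟨g * w * g⁻¹, (h w).mp hw, rfl⟩
    · rintro ⟨w, hw, hwe⟩
      have hx : x = ((g⁻¹ * w * g : K) : G) := by
        have : (w : G) = g * x * (g : G)⁻¹ := hwe
        show x = (g : G)⁻¹ * (w : G) * g
        rw [this]; group
      rw [hx]
      refine ⟨g⁻¹ * w * g, (h _).mpr ?_, rfl⟩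
      have : g * (g⁻¹ * w * g) * g⁻¹ = w := by group
      rw [this]; exact hw
  · intro h x
    have h1 := h (x : G)
    constructor
    · intro hx
      obtain ⟨w, hw, hwe⟩ := h1.mp ⟨x, hx, rfl⟩
      have : w = g * x * g⁻¹ := Subtype.ext hwe
      rwa [← this]
    · intro hx
      obtain ⟨w, hw, hwe⟩ := h1.mpr ⟨g * x * g⁻¹, hx, rfl⟩
      have : w = x := Subtype.ext hwe
      rwa [← this]

/-- The hypothesis passes to subgroups. -/
theorem II.subgroup (hII : II G) (K : Subgroup G) : II K := by
  intro X hX hE Y hYX hY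
  have hinj : Function.Injective K.subtype := K.subtype_injective
  have hcX : IsCyclic (X.map K.subtype : Subgroup G) := by
    haveI := hX
    exact isCyclic_of_surjective (X.equivMapOfInjective _ hinj)
      (X.equivMapOfInjective _ hinj).surjective
  have hE' : Even (Nat.card (X.map K.subtype : Subgroup G)) := by
    rw [Subgroup.card_map_of_injective hinj]; exact hE
  have hne : Y.map K.subtype ≠ ⊥ := by
    intro h
    exact hY ((Subgroup.map_eq_bot_iff_of_injective _ hinj).mp h)
  have key := hII _ hcX hE' _ (map_mono hYX) hne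
  ext g
  rw [mem_normalizer_map_iff, mem_normalizer_map_iff, key]

theorem isSolvable_map {X Y : Type*} [Group X] [Group Y] (R : Subgroup X) (f : X →* Y)
    (h : Group.IsSolvable R) : Group.IsSolvable (R.map f) :=
  solvable_of_surjective (f := f.subgroupMap R) (f.subgroupMap_surjective R)

/-- A finite group has a largest solvable normal subgroup. -/
theorem exists_solvable_rad (X : Type*) [Group X] [Finite X] :
    ∃ R : Subgroup X, R.Normal ∧ Group.IsSolvable R ∧
      ∀ M : Subgroup X, M.Normal → Group.IsSolvable M → M ≤ R := by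
  classical
  let s : Set (Subgroup X) := {M | M.Normal ∧ Group.IsSolvable M}
  have hne : s.Nonempty := ⟨⊥, inferInstance, inferInstance⟩
  obtain ⟨R, ⟨h1, h2⟩, hmax⟩ := Set.exists_max_image s (fun M => Nat.card M) (Set.toFinite s) hne
  refine ⟨R, h1, h2, fun M hM hMs => ?_⟩
  haveI := h1
  haveI := hM
  have h3 : Group.IsSolvable (R ⊔ M : Subgroup X) := isSolvable_sup R M h2 hMs
  have h4 := hmax (R ⊔ M) ⟨inferInstance, h3⟩
  have h5 : R = R ⊔ M := Subgroup.eq_of_le_of_card_ge le_sup_left h4
  rw [h5]
  exact le_sup_right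

variable [Finite G]

/-- Normal subgroups inherit the absence of solvable normal subgroups. -/
theorem hrad_normal (hrad : ∀ N : Subgroup G, N.Normal → Group.IsSolvable N → N = ⊥)
    {N : Subgroup G} (hN : N.Normal) :
    ∀ M : Subgroup N, M.Normal → Group.IsSolvable M → M = ⊥ := by
  classical
  obtain ⟨R, hR, hRs, hmax⟩ := exists_solvable_rad N
  have hconj : ∀ (α : MulAut N), R.map α.toMonoidHom ≤ R := by
    intro α
    apply hmax
    · exact hR.map _ α.surjective
    · exact isSolvable_map R _ hRs
  have hnorm : (R.map N.subtype).Normal := by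
    constructor
    rintro _ ⟨r, hr, rfl⟩ g
    refine ⟨MulAut.conjNormal g r, ?_, ?_⟩
    · exact hconj (MulAut.conjNormal g) ⟨r, hr, rfl⟩
    · simp [MulAut.conjNormal_apply]
  have h1 := hrad _ hnorm (isSolvable_map R _ hRs)
  have h2 : R = ⊥ := (Subgroup.map_eq_bot_iff_of_injective _ N.subtype_injective).mp h1
  intro M hM hMs
  have := hmax M hM hMs
  rw [h2] at this
  exact le_bot_iff.mp this

/-- Centralizers of involutions are solvable. -/
theorem solvable_cent (hII : II G) (ft : FT.{u}) {t : G} (ht : orderOf t = 2) :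
    Group.IsSolvable (centralizer ({t} : Set G)) := by
  classical
  haveI : Fact (Nat.Prime 2) := ⟨Nat.prime_two⟩
  set C : Subgroup G := centralizer ({t} : Set G) with hC
  let K : Subgroup C := pPrimeCore 2 C
  haveI hKn : K.Normal := inferInstance
  have hKodd : Odd (Nat.card K) := Nat.coprime_two_right.mp pPrimeCore_coprime
  haveI hKs : Group.IsSolvable K := ft K hKodd
  have hq : IsPGroup 2 (C ⧸ K) := by
    intro q
    induction q using QuotientGroup.induction_on with | H c =>
    obtain ⟨a, m, hm, hnm⟩ := Nat.exists_eq_two_pow_mul_odd (orderOf_pos c).ne'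
    refine ⟨a, ?_⟩
    have hord : orderOf (c ^ 2 ^ a) = m := by
      rw [orderOf_pow' c (by positivity), hnm]
      have : Nat.gcd (2 ^ a * m) (2 ^ a) = 2 ^ a := Nat.gcd_eq_right (Dvd.intro _ rfl)
      rw [this, Nat.mul_div_cancel_left _ (by positivity)]
    set y : C := c ^ 2 ^ a with hy
    have hyo : Odd (orderOf (y : G)) := by rw [Subgroup.orderOf_coe, hord]; exact hm
    have hyt : (y : G) * t = t * y := mem_cent.mp y.2
    have hnorm : (zpowers y).Normal := by
      constructor
      rintro _ ⟨k, rfl⟩ d
      have h1 := conj_mem_of_odd hII ht hyo hyt (mem_cent.mp d.2)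
      obtain ⟨j, hj⟩ := h1
      have h2 : d * y * d⁻¹ = y ^ j := by
        apply Subtype.ext
        show (d : G) * y * (d : G)⁻¹ = (y : G) ^ j
        exact hj.symm
      show d * (y ^ k) * d⁻¹ ∈ zpowers y
      rw [← conj_zpow, h2]
      exact Subgroup.zpow_mem _ (Subgroup.zpow_mem _ (mem_zpowers y) _) _
    have hle : zpowers y ≤ K := by
      apply le_pPrimeCore hnorm
      rw [Nat.card_zpowers, hord]
      exact Nat.coprime_two_right.mpr hm
    have hmem : y ∈ K := hle (mem_zpowers y)
    rw [← QuotientGroup.mk_pow, ← hy]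
    exact (QuotientGroup.eq_one_iff y).mpr hmem
  haveI : Group.IsNilpotent (C ⧸ K) := hq.isNilpotent
  exact solvable_of_ker_le_range K.subtype (QuotientGroup.mk' K) (by
    rw [QuotientGroup.ker_mk', Subgroup.range_subtype])

/-- A subgroup inside a solvable subgroup. -/
theorem solvable_of_le {A B : Subgroup G} (hAB : A ≤ B) (h : Group.IsSolvable B) :
    Group.IsSolvable A :=
  solvable_of_solvable_injective (Subgroup.inclusion_injective hAB)

theorem exists_invol_of_even {K : Subgroup G} (h : ¬ Odd (Nat.card K)) :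
    ∃ t ∈ K, orderOf t = 2 := by
  haveI : Fact (Nat.Prime 2) := ⟨Nat.prime_two⟩
  have h2 : 2 ∣ Nat.card K := even_iff_two_dvd.mp (Nat.not_odd_iff_even.mp h)
  obtain ⟨x, hx⟩ := exists_prime_orderOf_dvd_card' 2 h2
  exact ⟨x, x.2, by rw [Subgroup.orderOf_coe, hx]⟩

/-- **A simple normal subgroup with trivial centralizer.** -/
theorem exists_simple_normal [Nontrivial G] (hII : II G)
    (hrad : ∀ N : Subgroup G, N.Normal → Group.IsSolvable N → N = ⊥) (ft : FT.{u}) :
    ∃ N : Subgroup G, N.Normal ∧ IsSimpleGroup N ∧ centralizer (N : Set G) = ⊥ := by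
  classical
  let s : Set (Subgroup G) := {M | M.Normal ∧ M ≠ ⊥}
  have hs : s.Nonempty := ⟨⊤, inferInstance, top_ne_bot⟩
  obtain ⟨N, ⟨hN, hN1⟩, hNmin⟩ := (Set.toFinite s).exists_minimal hs
  haveI := hN
  have hrN := hrad_normal hrad hN
  -- a minimal normal subgroup of `N`
  let s' : Set (Subgroup N) := {M | M.Normal ∧ M ≠ ⊥}
  have hNnt : Nontrivial N := (Subgroup.nontrivial_iff_ne_bot N).mpr hN1
  have hs' : s'.Nonempty := ⟨⊤, inferInstance, top_ne_bot⟩
  obtain ⟨A, ⟨hA, hA1⟩, hAmin⟩ := (Set.toFinite s').exists_minimal hs'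
  have htop : A = ⊤ := by
    by_contra hAtop
    have hinj := N.subtype_injective
    -- `A` is not normal in `G`
    have hnn : ¬ (A.map N.subtype).Normal := by
      intro hn
      have hne : A.map N.subtype ≠ ⊥ := fun h =>
        hA1 ((Subgroup.map_eq_bot_iff_of_injective _ hinj).mp h)
      have hle : A.map N.subtype ≤ N := by
        rintro _ ⟨a, -, rfl⟩
        exact a.2
      have h1 := hNmin (y := A.map N.subtype) ⟨hn, hne⟩ hle
      apply hAtop
      rw [eq_top_iff]
      intro x _
      obtain ⟨a, ha, hax⟩ := h1 x.2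
      have : a = x := Subtype.ext hax
      rwa [← this]
    obtain ⟨g, hg⟩ : ∃ g : G, ∃ x ∈ A.map N.subtype, g * x * g⁻¹ ∉ A.map N.subtype := by
      by_contra hcon
      push Not at hcon
      exact hnn ⟨fun x hx g => hcon g x hx⟩
    obtain ⟨_, ⟨a, ha, rfl⟩, hga⟩ := hg
    let α : MulAut N := MulAut.conjNormal g
    set B : Subgroup N := A.map α.toMonoidHom with hB
    have hBn : B.Normal := hA.map _ α.surjective
    have hB1 : B ≠ ⊥ := fun h => hA1 ((Subgroup.map_eq_bot_iff_of_injective _ α.injective).mp h)
    have hcardB : Nat.card B = Nat.card A := Subgroup.card_map_of_injective α.injective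
    have hαa : α a ∈ B := ⟨a, ha, rfl⟩
    have hne : B ≠ A := by
      intro h
      apply hga
      rw [h] at hαa
      exact ⟨α a, hαa, by simp [α, MulAut.conjNormal_apply]⟩
    have hdis : A ⊓ B = ⊥ := by
      by_contra h0
      haveI := hA
      haveI := hBn
      have h1 := hAmin (y := A ⊓ B) ⟨inferInstance, h0⟩ inf_le_left
      have h2 : A ≤ B := fun x hx => (h1 hx).2
      exact hne (Subgroup.eq_of_le_of_card_ge h2 hcardB.le).symm
    have hcomm : ∀ x ∈ A, ∀ y ∈ B, x * y = y * x := fun x hx y hy =>
      (Subgroup.commute_of_normal_of_disjoint A B hA hBn (disjoint_iff.mpr hdis) x y hx hy).eq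
    -- `A` has even order
    have hAeven : ¬ Odd (Nat.card A) := by
      intro ho
      exact hA1 (hrN A hA (ft A ho))
    obtain ⟨t, htA, ht⟩ := exists_invol_of_even hAeven
    have ht' : orderOf (t : G) = 2 := by rw [Subgroup.orderOf_coe, ht]
    have hCs := solvable_cent hII ft ht'
    have hBs : Group.IsSolvable B := by
      let f : B →* centralizer ({(t : G)} : Set G) :=
        { toFun := fun y => ⟨((y : N) : G), mem_cent.mpr (by
            have := hcomm t htA y y.2
            exact (congrArg Subtype.val this).symm)⟩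
          map_one' := rfl
          map_mul' := fun _ _ => rfl }
      have hf : Function.Injective f := by
        intro x y hxy
        exact Subtype.ext (Subtype.ext (congrArg (fun z : centralizer ({(t : G)} : Set G) => (z : G)) hxy))
      exact solvable_of_solvable_injective hf
    exact hB1 (hrN B hBn hBs)
  have hsimple : IsSimpleGroup N := by
    refine { eq_bot_or_eq_top_of_normal := ?_ }
    intro H hH
    by_cases h0 : H = ⊥
    · exact Or.inl h0
    · right
      have h1 := hAmin (y := H) ⟨hH, h0⟩ (by rw [htop]; exact le_top)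
      rw [htop] at h1
      exact top_le_iff.mp h1
  refine ⟨N, hN, hsimple, ?_⟩
  -- the centralizer
  set C : Subgroup G := centralizer (N : Set G) with hC
  have hCn : C.Normal := by
    constructor
    intro x hx g
    rw [hC, Subgroup.mem_centralizer_iff] at hx ⊢
    intro h hh
    have h1 : g⁻¹ * h * g⁻¹⁻¹ ∈ (N : Set G) := hN.conj_mem h hh g⁻¹
    have h2 := hx _ h1
    calc h * (g * x * g⁻¹) = g * ((g⁻¹ * h * g⁻¹⁻¹) * x) * g⁻¹ := by group
      _ = g * (x * (g⁻¹ * h * g⁻¹⁻¹)) * g⁻¹ := by rw [h2]
      _ = g * x * g⁻¹ * h := by group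
  by_contra hC1
  by_cases hodd : Odd (Nat.card C)
  · exact hC1 (hrad C hCn (ft C hodd))
  · obtain ⟨t, htC, ht⟩ := exists_invol_of_even hodd
    have hCs := solvable_cent hII ft ht
    have hle : N ≤ centralizer ({t} : Set G) := by
      intro x hx
      rw [mem_cent]
      exact ((Subgroup.mem_centralizer_iff.mp htC) x hx)
    exact hN1 (hrad N hN (solvable_of_le hle hCs))

end Cfsg.Agent.Lib.IIG
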