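import Cfsg.Agent.Lib.IIG.Basic
import Cfsg.Agent.Lib.StrongEmb.ElemCent2
import Cfsg.Agent.S0885

/-!
# Groups with a subgroup `H` such that `C(h) ≤ H` for `h ∈ H#` and all involutions of `H` are central in `H`
-/

set_option autoImplicit false
set_option linter.unusedSectionVars false
set_option linter.unusedVariables false

namespace Cfsg.Agent.Lib.IIG.T1

open Subgroup Cfsg Cfsg.Agent.Lib.StrongEmb.Basic Cfsg.Agent.Lib.StrongEmb.ElemCent2
open Cfsg.Agent.Lib.IIG

universe u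

variable {G : Type u} [Group G]

/-- A fixed-point-free involution inverts. -/
theorem inv_of_fpf_subgroup [Finite G] (D : Subgroup G) {s : G} (hs : s * s = 1)
    (hnorm : ∀ e ∈ D, s * e * s⁻¹ ∈ D) (hfp : ∀ c ∈ D, c * s = s * c → c = 1) :
    ∀ d ∈ D, s * d * s⁻¹ = d⁻¹ := by
  have hinv : s⁻¹ = s := inv_eq_of_mul_eq_one_left hs
  let f : D → D := fun e => ⟨e.1⁻¹ * (s * e.1 * s⁻¹), D.mul_mem (D.inv_mem e.2) (hnorm _ e.2)⟩
  have hf : Function.Injective f := by
    rintro ⟨e, he⟩ ⟨e', he'⟩ h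
    have h1 : e⁻¹ * (s * e * s⁻¹) = e'⁻¹ * (s * e' * s⁻¹) := congrArg Subtype.val h
    have h2 : (e' * e⁻¹) * s = s * (e' * e⁻¹) := by
      have h3 : e⁻¹ * s * e = e'⁻¹ * s * e' := by
        have := congrArg (fun w => w * s) h1
        simpa [mul_assoc, hinv, hs] using this
      calc (e' * e⁻¹) * s = e' * (e⁻¹ * s * e) * e⁻¹ := by group
        _ = e' * (e'⁻¹ * s * e') * e⁻¹ := by rw [h3]
        _ = s * (e' * e⁻¹) := by group
    have hmem : e' * e⁻¹ ∈ D := D.mul_mem he' (D.inv_mem he)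
    have h6 := hfp _ hmem h2
    apply Subtype.ext
    have : e' = e := mul_inv_eq_one.mp h6
    exact this.symm
  have hsurj := Finite.injective_iff_surjective.mp hf
  intro d hd
  obtain ⟨⟨e, he⟩, h⟩ := hsurj ⟨d, hd⟩
  have h1 : d = e⁻¹ * (s * e * s⁻¹) := (congrArg Subtype.val h).symm
  rw [h1, hinv]
  calc s * (e⁻¹ * (s * e * s)) * s = s * e⁻¹ * s * e * (s * s) := by group
    _ = s * e⁻¹ * s * e := by rw [hs, mul_one]
    _ = (e⁻¹ * (s * e * s))⁻¹ := by
      rw [mul_inv_rev, mul_inv_rev, mul_inv_rev, hinv, inv_inv]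
      group

/-- The hypotheses of the theorem. -/
structure Hyp (H E : Subgroup G) : Prop where
  mem_E : ∀ x, x ∈ E ↔ x ∈ H ∧ x * x = 1
  four : 4 ≤ Nat.card E
  cent_le : ∀ h ∈ H, h ≠ 1 → centralizer ({h} : Set G) ≤ H
  le_cent : ∀ e ∈ E, ∀ h ∈ H, h * e = e * h
  not_normal : normalizer (H : Set G) ≠ ⊤

variable {H E : Subgroup G}

/-- The normalizer. -/
abbrev Nm (H : Subgroup G) : Subgroup G := normalizer (H : Set G)

theorem exists_e [Finite G] (h : Hyp H E) : ∃ e ∈ E, e ≠ 1 := by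
  have : Nontrivial E := by
    rw [← Finite.one_lt_card_iff_nontrivial]
    have := h.four
    omega
  obtain ⟨⟨e, he⟩, hne⟩ := exists_ne (1 : E)
  exact ⟨e, he, fun h0 => hne (Subtype.ext h0)⟩

theorem E_le (h : Hyp H E) : E ≤ H := fun x hx => ((h.mem_E x).mp hx).1

theorem cent_e (h : Hyp H E) {e : G} (he : e ∈ E) (h1 : e ≠ 1) :
    centralizer ({e} : Set G) = H := by
  apply le_antisymm (h.cent_le e (E_le h he) h1)
  intro x hx
  exact mem_cent.mpr (h.le_cent e he x hx)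

theorem le_Nm (H : Subgroup G) : H ≤ Nm H := Subgroup.le_normalizer

/-- A conjugate of an involution of `H` lying in `H` forces the normalizer. -/
theorem mem_Nm_of_conj_mem (h : Hyp H E) {e g : G} (he : e ∈ E) (h1 : e ≠ 1)
    (hg : g * e * g⁻¹ ∈ H) : g ∈ Nm H := by
  have he' : g * e * g⁻¹ ∈ E := by
    refine (h.mem_E _).mpr ⟨hg, ?_⟩
    have : g * e * g⁻¹ * (g * e * g⁻¹) = g * (e * e) * g⁻¹ := by group
    rw [this, ((h.mem_E e).mp he).2]; group
  have h1' : g * e * g⁻¹ ≠ 1 := by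
    intro h0
    apply h1
    have : e = g⁻¹ * (g * e * g⁻¹) * g := by group
    rw [this, h0]; group
  refine Subgroup.mem_normalizer_iff.mpr fun x => ?_
  rw [← SetLike.mem_coe, ← SetLike.mem_coe]
  constructor
  · intro hx
    have hx' : x ∈ centralizer ({e} : Set G) := by rw [cent_e h he h1]; exact hx
    have hc := mem_cent.mp hx'
    show g * x * g⁻¹ ∈ H
    rw [← cent_e h he' h1', mem_cent]
    calc g * x * g⁻¹ * (g * e * g⁻¹) = g * (x * e) * g⁻¹ := by group
      _ = g * (e * x) * g⁻¹ := by rw [hc]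
      _ = g * e * g⁻¹ * (g * x * g⁻¹) := by group
  · intro hx
    have hx' : g * x * g⁻¹ ∈ centralizer ({g * e * g⁻¹} : Set G) := by
      rw [cent_e h he' h1']; exact hx
    have hc := mem_cent.mp hx'
    show x ∈ H
    rw [← cent_e h he h1, mem_cent]
    have : g * (x * e) * g⁻¹ = g * (e * x) * g⁻¹ := by
      calc g * (x * e) * g⁻¹ = g * x * g⁻¹ * (g * e * g⁻¹) := by group
        _ = g * e * g⁻¹ * (g * x * g⁻¹) := hc
        _ = g * (e * x) * g⁻¹ := by group
    simpa using this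

/-- `H` is a TI-subgroup. -/
theorem ti [Finite G] (h : Hyp H E) {x g : G} (hx : x ∈ H) (hx1 : x ≠ 1) (hg : g⁻¹ * x * g ∈ H) :
    g ∈ Nm H := by
  obtain ⟨e, he, he1⟩ := exists_e h
  apply mem_Nm_of_conj_mem h he he1
  apply h.cent_le x hx hx1
  have hc := h.le_cent e he _ hg
  rw [mem_cent]
  calc g * e * g⁻¹ * x = g * (e * (g⁻¹ * x * g)) * g⁻¹ := by group
    _ = g * ((g⁻¹ * x * g) * e) * g⁻¹ := by rw [hc]
    _ = x * (g * e * g⁻¹) := by group

/-- Involutions of the normalizer lie in `H`. -/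
theorem invol_mem [Finite G] (h : Hyp H E) {t : G} (ht : t ∈ Nm H) (hs : t * t = 1) : t ∈ H := by
  obtain ⟨e, he, he1⟩ := exists_e h
  have htinv : t⁻¹ = t := inv_eq_of_mul_eq_one_left hs
  have hsH : t * e * t⁻¹ ∈ H := (Subgroup.mem_normalizer_iff.mp ht e).mp (E_le h he)
  have hsE : t * e * t⁻¹ ∈ E := by
    refine (h.mem_E _).mpr ⟨hsH, ?_⟩
    have : t * e * t⁻¹ * (t * e * t⁻¹) = t * (e * e) * t⁻¹ := by group
    rw [this, ((h.mem_E e).mp he).2]; group
  by_cases hse : t * e * t⁻¹ = e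
  · rw [← cent_e h he he1, mem_cent]
    calc t * e = t * e * t⁻¹ * t := by group
      _ = e * t := by rw [hse]
  · set s := t * e * t⁻¹ with hsdef
    have hcomm : s * e = e * s := h.le_cent e he s hsH
    have hss : s * s = 1 := ((h.mem_E s).mp hsE).2
    have hee : e * e = 1 := ((h.mem_E e).mp he).2
    have hE' : e * s ∈ E := by
      refine (h.mem_E _).mpr ⟨H.mul_mem (E_le h he) hsH, ?_⟩
      calc e * s * (e * s) = e * (s * e) * s := by group
        _ = e * (e * s) * s := by rw [hcomm]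
        _ = (e * e) * (s * s) := by group
        _ = 1 := by rw [hee, hss, one_mul]
    have h1' : e * s ≠ 1 := by
      intro h0
      apply hse
      have : s = e⁻¹ := eq_inv_of_mul_eq_one_right h0
      rw [this]
      exact inv_eq_of_mul_eq_one_left hee
    rw [← cent_e h hE' h1', mem_cent]
    have h5 : t * s * t⁻¹ = e := by
      rw [hsdef, htinv]
      calc t * (t * e * t) * t = (t * t) * e * (t * t) := by group
        _ = e := by rw [hs]; group
    have h6 : t * e = s * t := by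
      rw [hsdef]; group
    have h7 : t * s = e * t := by
      calc t * s = t * s * t⁻¹ * t := by group
        _ = e * t := by rw [h5]
    calc t * (e * s) = (t * e) * s := by group
      _ = s * t * s := by rw [h6]
      _ = s * (t * s) := by group
      _ = s * (e * t) := by rw [h7]
      _ = (s * e) * t := by group
      _ = e * s * t := by rw [hcomm]

theorem stronglyEmbedded [Finite G] (h : Hyp H E) : IsStronglyEmbedded (Nm H) := by
  refine ⟨h.not_normal, ?_, ?_⟩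
  · obtain ⟨e, he, he1⟩ := exists_e h
    have hee := ((h.mem_E e).mp he).2
    have ho : orderOf e = 2 := order_two_of hee he1
    have h2 : orderOf (⟨e, le_Nm H (E_le h he)⟩ : Nm H) = 2 := by
      rw [Subgroup.orderOf_mk]; exact ho
    have := orderOf_dvd_natCard (⟨e, le_Nm H (E_le h he)⟩ : Nm H)
    rw [h2] at this
    exact even_iff_two_dvd.mpr this
  · intro g hg
    by_contra hodd
    have he : 2 ∣ Nat.card ((Nm H) ⊓ (Nm H).map (MulAut.conj g).toMonoidHom : Subgroup G) := by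
      rw [← even_iff_two_dvd]
      exact Nat.not_odd_iff_even.mp hodd
    haveI : Fact (Nat.Prime 2) := ⟨Nat.prime_two⟩
    obtain ⟨⟨t, ht⟩, hto⟩ := exists_prime_orderOf_dvd_card' 2 he
    have hto' : orderOf t = 2 := by rwa [Subgroup.orderOf_mk] at hto
    have htt := sq_eq_one_of_order hto'
    have h1 : t ∈ H := invol_mem h (Subgroup.mem_inf.mp ht).1 htt
    have h2 : g⁻¹ * t * g ∈ Nm H := mem_map_conj_iff.mp (Subgroup.mem_inf.mp ht).2
    have h3 : g⁻¹ * t * g ∈ H := by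
      apply invol_mem h h2
      have : g⁻¹ * t * g * (g⁻¹ * t * g) = g⁻¹ * (t * t) * g := by group
      rw [this, htt]; group
    exact hg (ti h h1 (ne_one_of_order_two hto') h3)

/-- The base point. -/
noncomputable abbrev pt0 (H : Subgroup G) : G ⧸ Nm H := QuotientGroup.mk 1

theorem smul_pt0 (g : G) : g • pt0 H = (QuotientGroup.mk g : G ⧸ Nm H) := by
  show (QuotientGroup.mk (g * 1) : G ⧸ Nm H) = _
  rw [mul_one]

theorem fix_pt0 {d : G} : d • pt0 H = pt0 H ↔ d ∈ Nm H := by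
  have := smul_mk_eq_mk_iff (H := Nm H) d 1
  simpa using this

theorem mem_conj_of_smul {d g : G} (h : d • (g • pt0 H) = g • pt0 H) : g⁻¹ * d * g ∈ Nm H := by
  rw [smul_pt0] at h
  exact (smul_mk_eq_mk_iff d g).mp h

theorem exists_smul_pt0 (x : G ⧸ Nm H) : ∃ g : G, x = g • pt0 H := by
  obtain ⟨g, rfl⟩ := QuotientGroup.mk_surjective x
  exact ⟨g, (smul_pt0 g).symm⟩

theorem swap_back {w : G} {x y : G ⧸ Nm H} (hw : orderOf w = 2) (h : w • x = y) : w • y = x := by
  rw [← h, smul_smul, sq_eq_one_of_order hw, one_smul]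

/-- `H` is semiregular off the base point, for a point given by an involution. -/
theorem semireg_swap [Finite G] (h : Hyp H E) {w x : G} (hw : w * w = 1) (hwM : w ∉ Nm H)
    (hx : x ∈ H) (hx' : w * x * w ∈ Nm H) : x = 1 := by
  have hwinv : w⁻¹ = w := inv_eq_of_mul_eq_one_left hw
  by_contra hx1
  set y := w * x * w with hy
  have hwyw : w * y * w = x := by
    rw [hy]
    calc w * (w * x * w) * w = (w * w) * x * (w * w) := by group
      _ = x := by rw [hw]; group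
  have hy1 : y ≠ 1 := by
    intro h0
    apply hx1
    rw [← hwyw, h0]
    simpa using hw
  set c := x * y * x⁻¹ * y⁻¹ with hc
  have hcH : c ∈ H := by
    have h1 : y * x⁻¹ * y⁻¹ ∈ H := (Subgroup.mem_normalizer_iff.mp hx' x⁻¹).mp (H.inv_mem hx)
    have : c = x * (y * x⁻¹ * y⁻¹) := by rw [hc]; group
    rw [this]
    exact H.mul_mem hx h1
  have hcH' : w⁻¹ * c * w ∈ H := by
    have h1 : y * x * y⁻¹ ∈ H := (Subgroup.mem_normalizer_iff.mp hx' x).mp hx
    have : w⁻¹ * c * w = y * x * y⁻¹ * x⁻¹ := by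
      rw [hwinv, hc]
      calc w * (x * y * x⁻¹ * y⁻¹) * w
          = (w * x * w) * (w * y * w) * (w * x⁻¹ * w) * (w * y⁻¹ * w) * (w * w) * 1 := by
            have hw' : w * w = 1 := hw
            have e1 : (w * x * w) * (w * y * w) * (w * x⁻¹ * w) * (w * y⁻¹ * w)
                = w * x * (w * w) * y * (w * w) * x⁻¹ * (w * w) * y⁻¹ * w := by group
            rw [e1, hw']; simp [mul_assoc]
        _ = y * x * (w * x⁻¹ * w) * (w * y⁻¹ * w) := by rw [← hy, hwyw, hw]; group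
        _ = y * x * y⁻¹ * x⁻¹ := by
            have e2 : w * x⁻¹ * w = y⁻¹ := by
              rw [hy]
              apply eq_inv_of_mul_eq_one_left
              calc w * x⁻¹ * w * (w * x * w) = w * x⁻¹ * (w * w) * x * w := by group
                _ = 1 := by rw [hw]; simp [hw]
            have e3 : w * y⁻¹ * w = x⁻¹ := by
              rw [← hwyw]
              apply eq_inv_of_mul_eq_one_left
              calc w * y⁻¹ * w * (w * y * w) = w * y⁻¹ * (w * w) * y * w := by group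
                _ = 1 := by rw [hw]; simp [hw]
            rw [e2, e3]
    rw [this]
    exact H.mul_mem h1 (H.inv_mem hx)
  have hc1 : c = 1 := by
    by_contra hc1
    exact hwM (ti h hcH hc1 hcH')
  have hcomm : y * x = x * y := by
    have : x * y * x⁻¹ * y⁻¹ * (y * x) = y * x := by rw [← hc, hc1, one_mul]
    rw [← this]; group
  have hyH : y ∈ H := h.cent_le x hx hx1 (mem_cent.mpr hcomm)
  apply hwM
  apply ti h hyH hy1
  rw [hwinv, hwyw]
  exact hx

variable [Finite G]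

/-- `H` is semiregular off the base point. -/
theorem semireg (h : Hyp H E) {x : G} {β : G ⧸ Nm H} (hβ : β ≠ pt0 H) (hx : x ∈ H)
    (hxβ : x • β = β) : x = 1 := by
  have hSE := stronglyEmbedded h
  obtain ⟨w, hw, hwβ⟩ := exists_swap_pt hSE (Ne.symm hβ)
  have hww := sq_eq_one_of_order hw
  have hwinv : w⁻¹ = w := inv_eq_of_mul_eq_one_left hww
  have hwM : w ∉ Nm H := by
    intro h0
    apply hβ
    rw [← hwβ]
    exact fix_pt0.mpr h0
  refine semireg_swap h hww hwM hx ?_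
  rw [← hwβ] at hxβ
  have := mem_conj_of_smul hxβ
  rwa [hwinv] at this

/-- The same at a general point. -/
theorem semireg' (h : Hyp H E) {g d : G} {y : G ⧸ Nm H} (hd : g⁻¹ * d * g ∈ H) (hd1 : d ≠ 1)
    (hy : d • y = y) : y = g • pt0 H := by
  by_contra hne
  have h1 : g⁻¹ • y ≠ pt0 H := by
    intro h0
    apply hne
    rw [← h0, smul_smul, mul_inv_cancel, one_smul]
  have h2 : (g⁻¹ * d * g) • (g⁻¹ • y) = g⁻¹ • y := by
    rw [smul_smul]
    have : g⁻¹ * d * g * g⁻¹ = g⁻¹ * d := by group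
    rw [this, mul_smul, hy]
  have h3 := semireg h h1 hd h2
  apply hd1
  have : d = g * (g⁻¹ * d * g) * g⁻¹ := by group
  rw [this, h3]; group

/-- An element commuting with an involution and fixing two points is trivial. -/
theorem comm_fix (h : Hyp H E) {x y : G ⧸ Nm H} (hxy : x ≠ y) {i c : G} (hi : orderOf i = 2)
    (hc : c * i = i * c) (hcx : c • x = x) (hcy : c • y = y) : c = 1 := by
  have hSE := stronglyEmbedded h
  obtain ⟨z, hz⟩ := exists_fixed hSE hi
  obtain ⟨g, rfl⟩ := exists_smul_pt0 z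
  have hii := sq_eq_one_of_order hi
  have h1 : g⁻¹ * i * g ∈ H := by
    apply invol_mem h (mem_conj_of_smul hz)
    have : g⁻¹ * i * g * (g⁻¹ * i * g) = g⁻¹ * (i * i) * g := by group
    rw [this, hii]; group
  have h11 : g⁻¹ * i * g ≠ 1 := by
    intro h0
    apply ne_one_of_order_two hi
    have : i = g * (g⁻¹ * i * g) * g⁻¹ := by group
    rw [this, h0]; group
  have h2 : g⁻¹ * c * g ∈ H := by
    apply h.cent_le _ h1 h11
    rw [mem_cent]
    calc g⁻¹ * c * g * (g⁻¹ * i * g) = g⁻¹ * (c * i) * g := by group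
      _ = g⁻¹ * (i * c) * g := by rw [hc]
      _ = g⁻¹ * i * g * (g⁻¹ * c * g) := by group
  by_contra hc1
  have h3 := semireg' h h2 hc1 hcx
  have h4 := semireg' h h2 hc1 hcy
  exact hxy (h3.trans h4.symm)

/-- A swapping involution inverts the two-point stabilizer. -/
theorem inverts (h : Hyp H E) {x y : G ⧸ Nm H} (hxy : x ≠ y) {i d : G} (hi : orderOf i = 2)
    (hix : i • x = y) (hdx : d • x = x) (hdy : d • y = y) : i * d * i⁻¹ = d⁻¹ := by
  have hii := sq_eq_one_of_order hi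
  have hinv : i⁻¹ = i := inv_eq_of_mul_eq_one_left hii
  have hiy : i • y = x := swap_back hi hix
  let D : Subgroup G := MulAction.stabilizer G x ⊓ MulAction.stabilizer G y
  have hmemD : ∀ e : G, e ∈ D ↔ e • x = x ∧ e • y = y := fun e => Subgroup.mem_inf
  refine inv_of_fpf_subgroup D hii ?_ ?_ d ((hmemD d).mpr ⟨hdx, hdy⟩)
  · intro e he
    obtain ⟨h1, h2⟩ := (hmemD e).mp he
    refine (hmemD _).mpr ⟨?_, ?_⟩
    · rw [hinv, mul_smul, mul_smul, hix, h2, hiy]
    · rw [hinv, mul_smul, mul_smul, hiy, h1, hix]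
  · intro c hc hci
    obtain ⟨h1, h2⟩ := (hmemD c).mp hc
    exact comm_fix h hxy hi hci h1 h2

/-- The two-point stabilizer is abelian. -/
theorem D_comm (h : Hyp H E) {x y : G ⧸ Nm H} (hxy : x ≠ y) {d e : G} (hdx : d • x = x)
    (hdy : d • y = y) (hex : e • x = x) (hey : e • y = y) : d * e = e * d := by
  have hSE := stronglyEmbedded h
  obtain ⟨i, hi, hix⟩ := exists_swap_pt hSE hxy
  have h1 := inverts h hxy hi hix hdx hdy
  have h2 := inverts h hxy hi hix hex hey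
  have h3 := inverts h hxy hi hix (d := d * e) (by rw [mul_smul, hex, hdx]) (by rw [mul_smul, hey, hdy])
  have h4 : i * (d * e) * i⁻¹ = (i * d * i⁻¹) * (i * e * i⁻¹) := by group
  rw [h4, h1, h2, mul_inv_rev] at h3
  have h5 := congrArg (fun w => w⁻¹) h3
  have h6 : e * d = d * e := by simpa using h5
  exact h6.symm

/-- Transitivity of the two-point stabilizer on the involutions. -/
theorem exists_conj (h : Hyp H E) {β : G ⧸ Nm H} (hβ : β ≠ pt0 H) {s t : G} (hs : s ∈ E)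
    (hs1 : s ≠ 1) (ht : t ∈ E) (ht1 : t ≠ 1) :
    ∃ d : G, d • pt0 H = pt0 H ∧ d • β = β ∧ d * s * d⁻¹ = t := by
  have hSE := stronglyEmbedded h
  obtain ⟨w, hw, hwβ⟩ := exists_swap_pt hSE (Ne.symm hβ)
  have hwM : w ∉ Nm H := by
    intro h0
    apply hβ
    rw [← hwβ]
    exact fix_pt0.mpr h0
  have hso : orderOf s = 2 := order_two_of ((h.mem_E s).mp hs).2 hs1
  have hto : orderOf t = 2 := order_two_of ((h.mem_E t).mp ht).2 ht1
  obtain ⟨d, hd, hds⟩ := exists_conj_mem_inf hSE hw hwM hso (le_Nm H (E_le h hs)) hto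
    (le_Nm H (E_le h ht))
  refine ⟨d, fix_pt0.mpr (Subgroup.mem_inf.mp hd).1, ?_, hds⟩
  have h2 := mem_map_conj_iff.mp (Subgroup.mem_inf.mp hd).2
  rw [← hwβ, smul_pt0]
  exact (smul_mk_eq_mk_iff d w).mpr h2

theorem conj_mem_E (h : Hyp H E) {e m : G} (hm : m ∈ Nm H) (he : e ∈ E) : m * e * m⁻¹ ∈ E := by
  refine (h.mem_E _).mpr ⟨(Subgroup.mem_normalizer_iff.mp hm e).mp (E_le h he), ?_⟩
  have : m * e * m⁻¹ * (m * e * m⁻¹) = m * (e * e) * m⁻¹ := by group
  rw [this, ((h.mem_E e).mp he).2]; group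

/-- `M = D H`. -/
theorem M_decomp (h : Hyp H E) {β : G ⧸ Nm H} (hβ : β ≠ pt0 H) {m : G} (hm : m ∈ Nm H) :
    ∃ d : G, d • pt0 H = pt0 H ∧ d • β = β ∧ d⁻¹ * m ∈ H := by
  obtain ⟨e, he, he1⟩ := exists_e h
  have h2 : m * e * m⁻¹ ≠ 1 := by
    intro h0
    apply he1
    have : e = m⁻¹ * (m * e * m⁻¹) * m := by group
    rw [this, h0]; group
  obtain ⟨d, h3, h4, h5⟩ := exists_conj h hβ he he1 (conj_mem_E h hm he) h2
  refine ⟨d, h3, h4, ?_⟩
  rw [← cent_e h he he1, mem_cent]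
  have h6 : d⁻¹ * m * e * m⁻¹ * d = e := by
    have : d⁻¹ * m * e * m⁻¹ * d = d⁻¹ * (m * e * m⁻¹) * d := by group
    rw [this, ← h5]; group
  calc d⁻¹ * m * e = d⁻¹ * m * e * m⁻¹ * d * (d⁻¹ * m) := by group
    _ = e * (d⁻¹ * m) := by rw [h6]

/-- `M / H` is abelian, in the form needed. -/
theorem M_mod (h : Hyp H E) {β : G ⧸ Nm H} (hβ : β ≠ pt0 H) {g y : G} (hg : g ∈ Nm H)
    (hy0 : y • pt0 H = pt0 H) (hyβ : y • β = β) : g * y * g⁻¹ * y⁻¹ ∈ H := by
  obtain ⟨d, h3, h4, h5⟩ := M_decomp h hβ hg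
  have hdM : d ∈ Nm H := fix_pt0.mp h3
  have hyM : y ∈ Nm H := fix_pt0.mp hy0
  set x := d⁻¹ * g with hx
  have hgd : g = d * x := by rw [hx]; group
  have hdy : d * y = y * d := D_comm h (Ne.symm hβ) h3 h4 hy0 hyβ
  have h6 : y * x⁻¹ * y⁻¹ ∈ H := (Subgroup.mem_normalizer_iff.mp hyM x⁻¹).mp (H.inv_mem h5)
  have h7 : x * (y * x⁻¹ * y⁻¹) ∈ H := H.mul_mem h5 h6
  have h8 : d * (x * (y * x⁻¹ * y⁻¹)) * d⁻¹ ∈ H := (Subgroup.mem_normalizer_iff.mp hdM _).mp h7
  have : g * y * g⁻¹ * y⁻¹ = d * (x * (y * x⁻¹ * y⁻¹)) * d⁻¹ := by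
    rw [hgd]
    have e1 : d * x * y * (d * x)⁻¹ * y⁻¹ = d * (x * y * x⁻¹) * (d⁻¹ * y⁻¹) := by group
    have e2 : d⁻¹ * y⁻¹ = y⁻¹ * d⁻¹ := by
      have : (y * d)⁻¹ = (d * y)⁻¹ := by rw [hdy]
      simpa using this
    rw [e1, e2]
    group
  rw [this]
  exact h8

/-- No nonidentity element fixes three points containing the base point. -/
theorem no_three0 (h : Hyp H E) {y : G} {β γ : G ⧸ Nm H} (hβ : β ≠ pt0 H) (hγ : γ ≠ pt0 H)
    (hβγ : β ≠ γ) (hy0 : y • pt0 H = pt0 H) (hyβ : y • β = β) (hyγ : y • γ = γ) : y = 1 := by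
  have hSE := stronglyEmbedded h
  obtain ⟨w₁, hw₁, hw₁β⟩ := exists_swap_pt hSE (Ne.symm hβ)
  obtain ⟨w₂, hw₂, hw₂γ⟩ := exists_swap_pt hSE (Ne.symm hγ)
  have i1 := inverts h (Ne.symm hβ) hw₁ hw₁β hy0 hyβ
  have i2 := inverts h (Ne.symm hγ) hw₂ hw₂γ hy0 hyγ
  set n := w₁ * w₂ with hn
  have hcomm : n * y * n⁻¹ = y := by
    have e1 : n * y * n⁻¹ = w₁ * (w₂ * y * w₂⁻¹) * w₁⁻¹ := by rw [hn]; group
    rw [e1, i2]
    have e2 : w₁ * y⁻¹ * w₁⁻¹ = (w₁ * y * w₁⁻¹)⁻¹ := by group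
    rw [e2, i1, inv_inv]
  have hny : n * y = y * n := by
    calc n * y = n * y * n⁻¹ * n := by group
      _ = y * n := by rw [hcomm]
  set δ := n • pt0 H with hδ
  have hδ' : δ = w₁ • γ := by rw [hδ, hn, mul_smul, hw₂γ]
  have hδ0 : δ ≠ pt0 H := by
    intro h0
    apply hβγ
    rw [hδ'] at h0
    have := swap_back hw₁ h0
    rw [← hw₁β, this]
  have hyδ : y • δ = δ := by
    rw [hδ, smul_smul, ← hny, mul_smul, hy0]
  obtain ⟨w₃, hw₃, hw₃δ⟩ := exists_swap_pt hSE (Ne.symm hδ0)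
  have i3 := inverts h (Ne.symm hδ0) hw₃ hw₃δ hy0 hyδ
  have hg1 : (w₃ * n) • pt0 H = pt0 H := by
    rw [mul_smul, ← hδ]
    exact swap_back hw₃ hw₃δ
  have hg2 : (w₃ * n) * y * (w₃ * n)⁻¹ = y⁻¹ := by
    have e1 : (w₃ * n) * y * (w₃ * n)⁻¹ = w₃ * (n * y * n⁻¹) * w₃⁻¹ := by group
    rw [e1, hcomm, i3]
  have h1 := M_mod h hβ (fix_pt0.mp hg1) hy0 hyβ
  rw [hg2] at h1
  have h2 : y * y ∈ H := by
    have := H.inv_mem h1
    simpa [mul_assoc] using this
  have h3 : y * y = 1 := semireg h hβ h2 (by rw [mul_smul, hyβ, hyβ])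
  have h4 := odd_orderOf_of_fix_two hSE (Ne.symm hβ) hy0 hyβ
  exact eq_one_of_sq_of_odd (by rw [pow_two]; exact h3) h4

/-- No nonidentity element fixes three points. -/
theorem no_three (h : Hyp H E) {y : G} {a b c : G ⧸ Nm H} (hab : a ≠ b) (hbc : b ≠ c) (hac : a ≠ c)
    (ha : y • a = a) (hb : y • b = b) (hc : y • c = c) : y = 1 := by
  obtain ⟨g, rfl⟩ := exists_smul_pt0 a
  have h1 : g⁻¹ • b ≠ pt0 H := by
    intro h0
    apply hab
    rw [← h0, smul_smul, mul_inv_cancel, one_smul]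
  have h2 : g⁻¹ • c ≠ pt0 H := by
    intro h0
    apply hac
    rw [← h0, smul_smul, mul_inv_cancel, one_smul]
  have h3 : g⁻¹ • b ≠ g⁻¹ • c := fun h0 => hbc (smul_left_cancel _ h0)
  have e : ∀ z : G ⧸ Nm H, y • z = z → (g⁻¹ * y * g) • (g⁻¹ • z) = g⁻¹ • z := by
    intro z hz
    rw [smul_smul]
    have : g⁻¹ * y * g * g⁻¹ = g⁻¹ * y := by group
    rw [this, mul_smul, hz]
  have h4 : (g⁻¹ * y * g) • pt0 H = pt0 H := by
    rw [mul_smul, mul_smul, ha, smul_smul, inv_mul_cancel, one_smul]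
  have h5 := no_three0 h h1 h2 h3 h4 (e b hb) (e c hc)
  have : y = g * (g⁻¹ * y * g) * g⁻¹ := by group
  rw [this, h5]; group

end Cfsg.Agent.Lib.IIG.T1
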