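import Cfsg.Agent.Lib.IIG.T1

/-!
# Counting and the Zassenhaus structure for `T1`
-/

set_option autoImplicit false
set_option linter.unusedSectionVars false
set_option linter.unusedVariables false

namespace Cfsg.Agent.Lib.IIG.T1

open Subgroup Cfsg Cfsg.Agent.Lib.StrongEmb.Basic Cfsg.Agent.Lib.StrongEmb.ElemCent2
open Cfsg.Agent.Lib.IIG

universe u

variable {G : Type u} [Group G] [Finite G] {H E : Subgroup G}

/-- The two-point stabilizer. -/
noncomputable abbrev D2 (H : Subgroup G) (β : G ⧸ Nm H) : Subgroup G :=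
  MulAction.stabilizer G (pt0 H) ⊓ MulAction.stabilizer G β

theorem mem_D2 {d : G} {β : G ⧸ Nm H} : d ∈ D2 H β ↔ d • pt0 H = pt0 H ∧ d • β = β :=
  Subgroup.mem_inf

theorem card_D2 (h : Hyp H E) {β : G ⧸ Nm H} (hβ : β ≠ pt0 H) :
    Nat.card (D2 H β) + 1 = Nat.card E := by
  classical
  obtain ⟨e, he, he1⟩ := exists_e h
  let f : D2 H β → {x : E // x ≠ 1} := fun d =>
    ⟨⟨(d : G) * e * (d : G)⁻¹, conj_mem_E h (fix_pt0.mp (mem_D2.mp d.2).1) he⟩, by
      intro h0
      apply he1
      have h1 : (d : G) * e * (d : G)⁻¹ = 1 := congrArg Subtype.val h0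
      have : e = (d : G)⁻¹ * ((d : G) * e * (d : G)⁻¹) * d := by group
      rw [this, h1]; group⟩
  have hf : Function.Bijective f := by
    constructor
    · intro d d' hd
      have h1 : (d : G) * e * (d : G)⁻¹ = (d' : G) * e * (d' : G)⁻¹ :=
        congrArg (fun x : {x : E // x ≠ 1} => ((x : E) : G)) hd
      have h2 : (d' : G)⁻¹ * d ∈ H := by
        refine (cent_e h he he1).le (mem_cent.mpr ?_)
        have : (d' : G)⁻¹ * (d * e * (d : G)⁻¹) * d' = e := by rw [h1]; group
        calc (d' : G)⁻¹ * d * e = ((d' : G)⁻¹ * (d * e * (d : G)⁻¹) * d') * ((d' : G)⁻¹ * d) := by group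
          _ = e * ((d' : G)⁻¹ * d) := by rw [this]
      have h3 := semireg h hβ h2 (by
        rw [mul_smul, (mem_D2.mp d.2).2]
        have := (mem_D2.mp d'.2).2
        rw [inv_smul_eq_iff, this])
      have h4 : (d : G) = d' := by
        have := inv_mul_eq_one.mp h3
        exact this.symm
      exact Subtype.ext h4
    · rintro ⟨⟨x, hx⟩, hx1⟩
      have hx1' : x ≠ 1 := fun h0 => hx1 (Subtype.ext h0)
      obtain ⟨d, h1, h2, h3⟩ := exists_conj h hβ he he1 hx hx1'
      exact ⟨⟨d, mem_D2.mpr ⟨h1, h2⟩⟩, Subtype.ext (Subtype.ext h3)⟩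
  have h1 := Nat.card_congr (Equiv.ofBijective f hf)
  rw [h1]
  haveI := Fintype.ofFinite E
  rw [Nat.card_eq_fintype_card (α := E), Nat.card_eq_fintype_card (α := {x : E // x ≠ 1}),
    Fintype.card_subtype_compl, Fintype.card_subtype_eq]
  have : 0 < Fintype.card E := Fintype.card_pos
  omega

theorem card_Nm (h : Hyp H E) {β : G ⧸ Nm H} (hβ : β ≠ pt0 H) :
    Nat.card (Nm H) = Nat.card (D2 H β) * Nat.card H := by
  let f : D2 H β × H → Nm H := fun p =>
    ⟨(p.1 : G) * p.2, (Nm H).mul_mem (fix_pt0.mp (mem_D2.mp p.1.2).1) (le_Nm H p.2.2)⟩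
  have hf : Function.Bijective f := by
    constructor
    · rintro ⟨d, x⟩ ⟨d', x'⟩ hp
      have h1 : (d : G) * x = d' * x' := congrArg Subtype.val hp
      have h2 : (d' : G)⁻¹ * d = x' * (x : G)⁻¹ := by
        calc (d' : G)⁻¹ * d = (d' : G)⁻¹ * (d * x) * (x : G)⁻¹ := by group
          _ = x' * (x : G)⁻¹ := by rw [h1]; group
      have h3 : (d' : G)⁻¹ * d ∈ H := by
        rw [h2]
        exact H.mul_mem x'.2 (H.inv_mem x.2)
      have h4 := semireg h hβ h3 (by
        rw [mul_smul, (mem_D2.mp d.2).2]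
        have := (mem_D2.mp d'.2).2
        rw [inv_smul_eq_iff, this])
      have h5 : (d : G) = d' := (inv_mul_eq_one.mp h4).symm
      have h6 : d = d' := Subtype.ext h5
      subst h6
      have h7 : (x : G) = x' := mul_left_cancel h1
      rw [Subtype.ext h7]
    · rintro ⟨m, hm⟩
      obtain ⟨d, h1, h2, h3⟩ := M_decomp h hβ hm
      refine ⟨(⟨d, mem_D2.mpr ⟨h1, h2⟩⟩, ⟨_, h3⟩), Subtype.ext ?_⟩
      show d * (d⁻¹ * m) = m
      group
  rw [← Nat.card_congr (Equiv.ofBijective f hf), Nat.card_prod]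

theorem card_le (h : Hyp H E) : Nat.card (G ⧸ Nm H) ≤ Nat.card H + 1 := by
  classical
  haveI := Fintype.ofFinite (G ⧸ Nm H)
  haveI := Fintype.ofFinite G
  by_cases hne : ∃ β : G ⧸ Nm H, β ≠ pt0 H
  swap
  · push Not at hne
    have : Nat.card (G ⧸ Nm H) ≤ 1 := by
      rw [Nat.card_eq_fintype_card]
      exact Fintype.card_le_one_iff.mpr fun a b => by rw [hne a, hne b]
    omega
  obtain ⟨β₀, hβ₀⟩ := hne
  let Pf : Finset (G ⧸ Nm H) := Finset.univ.filter (· ≠ pt0 H)
  let F : (G ⧸ Nm H) → Finset G := fun β =>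
    Finset.univ.filter (fun y : G => y ≠ 1 ∧ y • pt0 H = pt0 H ∧ y • β = β)
  let T : Finset G := Finset.univ.filter (fun m : G => m ∈ Nm H ∧ m ∉ H)
  have hsub : Pf.biUnion F ⊆ T := by
    intro y hy
    obtain ⟨β, hβ, hyβ⟩ := Finset.mem_biUnion.mp hy
    have hβ' : β ≠ pt0 H := (Finset.mem_filter.mp hβ).2
    obtain ⟨-, h1, h2, h3⟩ := Finset.mem_filter.mp hyβ
    refine Finset.mem_filter.mpr ⟨Finset.mem_univ _, fix_pt0.mp h2, fun h4 => h1 ?_⟩
    exact semireg h hβ' h4 h3
  have hdisj : (↑Pf : Set (G ⧸ Nm H)).PairwiseDisjoint F := by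
    intro β hβ γ hγ hβγ
    have hβ' : β ≠ pt0 H := (Finset.mem_filter.mp hβ).2
    have hγ' : γ ≠ pt0 H := (Finset.mem_filter.mp hγ).2
    rw [Function.onFun, Finset.disjoint_left]
    intro y hy hy'
    obtain ⟨-, h1, h2, h3⟩ := Finset.mem_filter.mp hy
    obtain ⟨-, h4, h5, h6⟩ := Finset.mem_filter.mp hy'
    exact h1 (no_three0 h hβ' hγ' hβγ h2 h3 h6)
  have hF : ∀ β ∈ Pf, (F β).card + 2 = Nat.card E := by
    intro β hβ
    have hβ' : β ≠ pt0 H := (Finset.mem_filter.mp hβ).2
    have h1 := card_D2 h hβ'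
    have h2 : Nat.card (D2 H β) = (Finset.univ.filter (fun y : G => y ∈ D2 H β)).card :=
      Nat.subtype_card _ (by simp)
    have h3 : (Finset.univ.filter (fun y : G => y ∈ D2 H β)) = insert 1 (F β) := by
      ext y
      simp only [Finset.mem_filter, Finset.mem_univ, true_and, Finset.mem_insert, F, mem_D2]
      by_cases hy : y = 1
      · subst hy; simp
      · simp [hy]
    have h4 : (1 : G) ∉ F β := by simp [F]
    rw [h3, Finset.card_insert_of_notMem h4] at h2
    omega
  have hT : T.card + Nat.card H = Nat.card (Nm H) := by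
    have h2 : Nat.card (Nm H) = (Finset.univ.filter (fun y : G => y ∈ Nm H)).card :=
      Nat.subtype_card _ (by simp)
    have h3 : Nat.card H = (Finset.univ.filter (fun y : G => y ∈ H)).card :=
      Nat.subtype_card _ (by simp)
    rw [h2, h3, ← Finset.card_union_of_disjoint]
    · congr 1
      ext y
      simp only [Finset.mem_union, Finset.mem_filter, Finset.mem_univ, true_and, T]
      constructor
      · rintro (⟨h1, -⟩ | h1)
        · exact h1
        · exact le_Nm H h1
      · intro h1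
        by_cases h4 : y ∈ H
        · exact Or.inr h4
        · exact Or.inl ⟨h1, h4⟩
    · rw [Finset.disjoint_left]
      intro y hy hy'
      exact (Finset.mem_filter.mp hy).2.2 (Finset.mem_filter.mp hy').2
  have hcard1 : (Pf.biUnion F).card = ∑ β ∈ Pf, (F β).card := Finset.card_biUnion hdisj
  have hsum : ∑ β ∈ Pf, (F β).card = Pf.card * (Nat.card E - 2) := by
    rw [Finset.sum_congr rfl (fun β hβ => (by have := hF β hβ; omega : (F β).card = Nat.card E - 2)),
      Finset.sum_const, smul_eq_mul]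
  have hle := Finset.card_le_card hsub
  have hN := card_Nm h hβ₀
  have hD := card_D2 h hβ₀
  have h4 := h.four
  have hPf : Pf.card + 1 = Nat.card (G ⧸ Nm H) := by
    have h2 : Nat.card {z : G ⧸ Nm H // z ≠ pt0 H} = Pf.card := Nat.subtype_card _ (by simp [Pf])
    rw [← h2, Nat.card_eq_fintype_card (α := G ⧸ Nm H), Nat.card_eq_fintype_card (α := {z : G ⧸ Nm H // z ≠ pt0 H}),
      Fintype.card_subtype_compl, Fintype.card_subtype_eq]
    have : 0 < Fintype.card (G ⧸ Nm H) := Fintype.card_pos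
    omega
  rw [hcard1, hsum] at hle
  set b := Nat.card E - 2 with hb
  have hb0 : 0 < b := by omega
  have hDb : Nat.card (D2 H β₀) = b + 1 := by omega
  rw [hDb] at hN
  have h5 : Pf.card * b ≤ Nat.card H * b := by
    have : T.card + Nat.card H = (b + 1) * Nat.card H := by rw [hT, hN]
    have h6 : T.card = b * Nat.card H := by
      have e : (b + 1) * Nat.card H = b * Nat.card H + Nat.card H := by ring
      omega
    calc Pf.card * b ≤ T.card := hle
      _ = Nat.card H * b := by rw [h6, mul_comm]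
  have h6 := Nat.le_of_mul_le_mul_right h5 hb0
  omega

/-- `H` is regular off the base point. -/
theorem H_trans (h : Hyp H E) {β γ : G ⧸ Nm H} (hβ : β ≠ pt0 H) (hγ : γ ≠ pt0 H) :
    ∃ x ∈ H, x • β = γ := by
  classical
  let φ : H → {z : G ⧸ Nm H // z ≠ pt0 H} := fun x => ⟨(x : G) • β, by
    intro h0
    apply hβ
    have h1 : (x : G) • pt0 H = pt0 H := fix_pt0.mpr (le_Nm H x.2)
    exact smul_left_cancel (x : G) (h0.trans h1.symm)⟩
  have hφ : Function.Injective φ := by
    intro x y hxy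
    have h1 : (x : G) • β = (y : G) • β := congrArg Subtype.val hxy
    have h2 : (y : G)⁻¹ * x ∈ H := H.mul_mem (H.inv_mem y.2) x.2
    have h3 := semireg h hβ h2 (by rw [mul_smul, h1, inv_smul_smul])
    exact Subtype.ext (inv_mul_eq_one.mp h3).symm
  have hcard : Nat.card {z : G ⧸ Nm H // z ≠ pt0 H} ≤ Nat.card H := by
    have h1 := card_le h
    haveI := Fintype.ofFinite (G ⧸ Nm H)
    have h2 : Nat.card {z : G ⧸ Nm H // z ≠ pt0 H} + 1 = Nat.card (G ⧸ Nm H) := by
      rw [Nat.card_eq_fintype_card (α := G ⧸ Nm H), Nat.card_eq_fintype_card (α := {z : G ⧸ Nm H // z ≠ pt0 H}),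
        Fintype.card_subtype_compl, Fintype.card_subtype_eq]
      have : 0 < Fintype.card (G ⧸ Nm H) := Fintype.card_pos
      omega
    omega
  have hbij := hφ.bijective_of_nat_card_le hcard
  obtain ⟨x, hx⟩ := hbij.2 ⟨γ, hγ⟩
  exact ⟨x, x.2, congrArg Subtype.val hx⟩

theorem card_Omega (h : Hyp H E) {β : G ⧸ Nm H} (hβ : β ≠ pt0 H) :
    Nat.card H + 1 = Nat.card (G ⧸ Nm H) := by
  classical
  let φ : H → {z : G ⧸ Nm H // z ≠ pt0 H} := fun x => ⟨(x : G) • β, by
    intro h0
    apply hβ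
    have h1 : (x : G) • pt0 H = pt0 H := fix_pt0.mpr (le_Nm H x.2)
    exact smul_left_cancel (x : G) (h0.trans h1.symm)⟩
  have hφ : Function.Injective φ := by
    intro x y hxy
    have h1 : (x : G) • β = (y : G) • β := congrArg Subtype.val hxy
    have h2 : (y : G)⁻¹ * x ∈ H := H.mul_mem (H.inv_mem y.2) x.2
    have h3 := semireg h hβ h2 (by rw [mul_smul, h1, inv_smul_smul])
    exact Subtype.ext (inv_mul_eq_one.mp h3).symm
  haveI := Fintype.ofFinite (G ⧸ Nm H)
  have h2 : Nat.card {z : G ⧸ Nm H // z ≠ pt0 H} + 1 = Nat.card (G ⧸ Nm H) := by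
    rw [Nat.card_eq_fintype_card (α := G ⧸ Nm H), Nat.card_eq_fintype_card (α := {z : G ⧸ Nm H // z ≠ pt0 H}),
      Fintype.card_subtype_compl, Fintype.card_subtype_eq]
    have : 0 < Fintype.card (G ⧸ Nm H) := Fintype.card_pos
    omega
  have h3 := Nat.card_le_card_of_injective φ hφ
  have h1 := card_le h
  omega

end Cfsg.Agent.Lib.IIG.T1
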