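import Cfsg.Agent.Lib.IIG.T1b

/-!
# The Zassenhaus structure for `T1` and Feit's inequality
-/

set_option autoImplicit false
set_option linter.unusedSectionVars false
set_option linter.unusedVariables false

namespace Cfsg.Agent.Lib.IIG.T1

open Subgroup Cfsg Cfsg.Agent.Lib.StrongEmb.Basic Cfsg.Agent.Lib.StrongEmb.ElemCent2
open Cfsg.Agent.Lib.IIG

universe u

variable {G : Type u} [Group G] [Finite G] {H E : Subgroup G}

theorem exists_pt (h : Hyp H E) : ∃ β : G ⧸ Nm H, β ≠ pt0 H := by
  by_contra hcon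
  push Not at hcon
  apply h.not_normal
  rw [eq_top_iff]
  intro g _
  exact fix_pt0.mp (hcon _)

theorem isZass (h : Hyp H E) : Cfsg.IsZassenhausGroup G (G ⧸ Nm H) := by
  classical
  obtain ⟨β, hβ⟩ := exists_pt h
  obtain ⟨e, he, he1⟩ := exists_e h
  have heH := E_le h he
  have h3 : e • β ≠ β := fun h0 => he1 (semireg h hβ heH h0)
  have h4 : e • β ≠ pt0 H := by
    intro h0
    apply hβ
    have h1 : e • pt0 H = pt0 H := fix_pt0.mpr (le_Nm H heH)
    exact smul_left_cancel e (h0.trans h1.symm)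
  have hD := card_D2 h hβ
  have hfour := h.four
  refine ⟨⟨?_⟩, ?_, ?_, ?_, ?_⟩
  · intro g₁ g₂ hg
    have hfix : ∀ z : G ⧸ Nm H, (g₂⁻¹ * g₁) • z = z := by
      intro z
      rw [mul_smul, hg z, inv_smul_smul]
    have := no_three0 h hβ h4 (Ne.symm h3) (hfix _) (hfix _) (hfix _)
    exact (inv_mul_eq_one.mp this).symm
  · rw [MulAction.is_two_pretransitive_iff]
    intro a b c d hab hcd
    obtain ⟨g₁, rfl⟩ := exists_smul_pt0 a
    obtain ⟨g₂, rfl⟩ := exists_smul_pt0 c
    have h1 : g₁⁻¹ • b ≠ pt0 H := by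
      intro h0
      apply hab
      rw [← h0, smul_smul, mul_inv_cancel, one_smul]
    have h2 : g₂⁻¹ • d ≠ pt0 H := by
      intro h0
      apply hcd
      rw [← h0, smul_smul, mul_inv_cancel, one_smul]
    obtain ⟨x, hx, hxb⟩ := H_trans h h1 h2
    refine ⟨g₂ * x * g₁⁻¹, ?_, ?_⟩
    · rw [smul_smul]
      have : g₂ * x * g₁⁻¹ * g₁ = g₂ * x := by group
      rw [this, mul_smul, fix_pt0.mpr (le_Nm H hx)]
    · rw [mul_smul, mul_smul, hxb, smul_inv_smul]
  · intro g a b c hab hbc hac ha hb hc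
    exact no_three h hab hbc hac ha hb hc
  · have : Nontrivial (D2 H β) := by
      rw [← Finite.one_lt_card_iff_nontrivial]
      omega
    obtain ⟨⟨d, hd⟩, hd1⟩ := exists_ne (1 : D2 H β)
    refine ⟨d, fun h0 => hd1 (Subtype.ext h0), pt0 H, β, Ne.symm hβ, ?_, ?_⟩
    · exact (mem_D2.mp hd).1
    · exact (mem_D2.mp hd).2
  · intro N hN htr
    by_contra hcon
    push Not at hcon
    have hst := hcon (pt0 H)
    have hone : ∀ x ∈ N, x ∈ Nm H → x = 1 := by
      intro x hx hxM
      have h1 : (⟨x, hx⟩ : N) ∈ MulAction.stabilizer N (pt0 H) := by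
        rw [MulAction.mem_stabilizer_iff]
        exact fix_pt0.mpr hxM
      have h2 := (Subgroup.ext_iff.mp hst ⟨x, hx⟩).mp h1
      rw [Subgroup.mem_bot] at h2
      exact congrArg Subtype.val h2
    have hinv : ∀ e' ∈ E, e' ≠ 1 → ∀ x ∈ N, e' * x * e'⁻¹ = x⁻¹ := by
      intro e' he' he1' x hx
      refine T1.inv_of_fpf_subgroup N ((h.mem_E e').mp he').2 (fun y hy => hN.conj_mem y hy e') ?_ x hx
      intro c hc hcc
      apply hone c hc
      apply le_Nm H
      exact (cent_e h he' he1').le (mem_cent.mpr hcc)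
    -- a second involution
    have hE2 : ∃ f ∈ E, f ≠ 1 ∧ f ≠ e := by
      by_contra hc
      push Not at hc
      have : Nat.card E ≤ 2 := by
        haveI := Fintype.ofFinite E
        rw [Nat.card_eq_fintype_card]
        have hsub : (Finset.univ : Finset E) ⊆ {1, ⟨e, he⟩} := by
          intro x _
          simp only [Finset.mem_insert, Finset.mem_singleton]
          by_cases hx : (x : G) = 1
          · exact Or.inl (Subtype.ext hx)
          · exact Or.inr (Subtype.ext (hc x x.2 hx))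
        exact (Finset.card_le_card hsub).trans Finset.card_le_two
      omega
    obtain ⟨f, hf, hf1, hfe⟩ := hE2
    have hfE : e * f ∈ E := by
      refine (h.mem_E _).mpr ⟨H.mul_mem heH (E_le h hf), ?_⟩
      have hc : f * e = e * f := h.le_cent e he f (E_le h hf)
      calc e * f * (e * f) = e * (f * e) * f := by group
        _ = e * (e * f) * f := by rw [hc]
        _ = (e * e) * (f * f) := by group
        _ = 1 := by rw [((h.mem_E e).mp he).2, ((h.mem_E f).mp hf).2, one_mul]
    have hef1 : e * f ≠ 1 := by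
      intro h0
      apply hfe
      have h1 : f = e⁻¹ := eq_inv_of_mul_eq_one_right h0
      rw [h1]
      exact inv_eq_of_mul_eq_one_left ((h.mem_E e).mp he).2
    have hNbot : ∀ x ∈ N, x = 1 := by
      intro x hx
      have h1 := hinv e he he1 x hx
      have h2 := hinv f hf hf1 x hx
      have h3 : x * (e * f) = (e * f) * x := by
        have e1 : (e * f) * x * (e * f)⁻¹ = e * (f * x * f⁻¹) * e⁻¹ := by group
        have e2 : e * x⁻¹ * e⁻¹ = (e * x * e⁻¹)⁻¹ := by group
        rw [h2, e2, h1, inv_inv] at e1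
        calc x * (e * f) = (e * f) * x * (e * f)⁻¹ * (e * f) := by rw [e1]
          _ = (e * f) * x := by group
      apply hone x hx
      apply le_Nm H
      exact (cent_e h hfE hef1).le (mem_cent.mpr h3)
    obtain ⟨x, hx⟩ := htr.exists_smul_eq (pt0 H) β
    have h1 : (x : G) = 1 := hNbot x x.2
    apply hβ
    rw [← hx]
    show (x : G) • pt0 H = pt0 H
    rw [h1, one_smul]

/-- **Theorem T1**. -/
theorem main (h : Hyp H E) :
    Nat.card H - 1 ≤ 2 * (Nat.card E - 1) ∨ (IsPGroup 2 H ∧ ∃ u v : H, u * v ≠ v * u) := by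
  classical
  haveI := Fintype.ofFinite (G ⧸ Nm H)
  obtain ⟨β, hβ⟩ := exists_pt h
  have hc := card_Omega h hβ
  have hD := card_D2 h hβ
  have hSE := stronglyEmbedded h
  have hodd : Odd (Nat.card (D2 H β)) := by
    by_contra hne
    have he : 2 ∣ Nat.card (D2 H β) := by
      rw [← even_iff_two_dvd]
      exact Nat.not_odd_iff_even.mp hne
    haveI : Fact (Nat.Prime 2) := ⟨Nat.prime_two⟩
    obtain ⟨⟨t, ht⟩, hto⟩ := exists_prime_orderOf_dvd_card' 2 he
    have hto' : orderOf t = 2 := by rwa [Subgroup.orderOf_mk] at hto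
    have := odd_orderOf_of_fix_two hSE (Ne.symm hβ) (mem_D2.mp ht).1 (mem_D2.mp ht).2
    rw [hto'] at this
    exact absurd this (by decide)
  have hr := Cfsg.Agent.S0885.result (isZass h) (Ne.symm hβ) (Nat.card H) (Nat.card (D2 H β))
    (by rw [← Nat.card_eq_fintype_card]; omega) rfl hodd H
    (fun x hx => fix_pt0.mpr (le_Nm H hx)) (by rw [← Nat.card_eq_fintype_card]; omega)
    (fun u hu hu1 c huc => by
      by_contra hc0
      exact hu1 (semireg h hc0 hu huc))
  rcases hr with h1 | ⟨h1, h2, -⟩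
  · left
    have : Nat.card E - 1 = Nat.card (D2 H β) := by omega
    rw [this]
    exact h1
  · exact Or.inr ⟨h1, h2⟩

end Cfsg.Agent.Lib.IIG.T1
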