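import Cfsg.Agent.Lib.IIG.CaseI
import Cfsg.Agent.S0215
import Cfsg.Agent.Lib.Zass.TwoCyclic

/-!
# Helpers on `2`-elements; non-isolation of involutions
-/

set_option autoImplicit false
set_option linter.unusedSectionVars false
set_option linter.unusedVariables false

namespace Cfsg.Agent.Lib.IIG

open Subgroup Cfsg

universe u

variable {G : Type u} [Group G] [Finite G]

/-- The Odd Order statement, at a universe. -/
def FT : Prop := ∀ (X : Type u) [Group X] [Finite X], Odd (Nat.card X) → Group.IsSolvable X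

/-- The involution `t` has a centralizer with a nontrivial element of odd order. -/
def HasOdd (t : G) : Prop := ∃ o : G, Odd (orderOf o) ∧ o ≠ 1 ∧ o * t = t * o

theorem hasOdd_conj {t : G} (g : G) (h : HasOdd t) : HasOdd (g * t * g⁻¹) := by
  obtain ⟨o, h1, h2, h3⟩ := h
  refine ⟨g * o * g⁻¹, by rw [order_conj]; exact h1, ?_, ?_⟩
  · intro h0
    apply h2
    have : o = g⁻¹ * (g * o * g⁻¹) * g := by group
    rw [this, h0]; group
  · calc g * o * g⁻¹ * (g * t * g⁻¹) = g * (o * t) * g⁻¹ := by group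
      _ = g * (t * o) * g⁻¹ := by rw [h3]
      _ = g * t * g⁻¹ * (g * o * g⁻¹) := by group

theorem hasOdd_conj_iff {t : G} (g : G) : HasOdd (g * t * g⁻¹) ↔ HasOdd t := by
  refine ⟨fun h => ?_, hasOdd_conj g⟩
  have := hasOdd_conj g⁻¹ h
  have e : g⁻¹ * (g * t * g⁻¹) * g⁻¹⁻¹ = t := by group
  rwa [e] at this

/-- Centralizer of an involution without odd elements is a `2`-group. -/
theorem isPGroup_cent_of_not_hasOdd {t : G} (h : ¬ HasOdd t) :
    IsPGroup 2 (centralizer ({t} : Set G)) := by
  intro x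
  obtain ⟨a, m, hm, hnm⟩ := Nat.exists_eq_two_pow_mul_odd (orderOf_pos (x : G)).ne'
  refine ⟨a, ?_⟩
  have h11 : (x : G) ^ 2 ^ a = 1 := by
    by_contra hne
    apply h
    refine ⟨(x : G) ^ 2 ^ a, ?_, hne, (Commute.pow_left (mem_cent.mp x.2) _).eq⟩
    have : orderOf ((x : G) ^ 2 ^ a) = m := by
      rw [orderOf_pow' _ (by positivity), hnm, Nat.gcd_eq_right (Dvd.intro _ rfl)]
      exact Nat.mul_div_cancel_left _ (by positivity)
    rw [this]; exact hm
  apply Subtype.ext
  simpa using h11

/-- An involution in a `2`-element. -/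
theorem exists_invol {w : G} {k : ℕ} (hw : orderOf w = 2 ^ k) (h1 : w ≠ 1) :
    ∃ t ∈ zpowers w, orderOf t = 2 := by
  obtain ⟨p, hp, hd, t, ht, hop⟩ := exists_prime_pow h1
  rw [hw] at hd
  have := (Nat.prime_dvd_prime_iff_eq hp Nat.prime_two).mp (hp.dvd_of_dvd_pow hd)
  exact ⟨t, ht, by rw [hop, this]⟩

/-- A square root of the involution in a `2`-element that is not an involution. -/
theorem exists_root {w : G} {k : ℕ} (hw : orderOf w = 2 ^ k) (h1 : w * w ≠ 1) :
    ∃ r ∈ zpowers w, orderOf (r * r) = 2 := by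
  have hk : 2 ≤ k := by
    by_contra hk
    have : k = 0 ∨ k = 1 := by omega
    rcases this with rfl | rfl
    · rw [pow_zero] at hw
      rw [orderOf_eq_one_iff.mp hw, mul_one] at h1
      exact h1 rfl
    · apply h1
      have := pow_orderOf_eq_one w
      rw [hw, pow_one, pow_two] at this
      exact this
  have h4 : 4 ∣ orderOf w := by
    rw [hw]
    exact (pow_dvd_pow 2 hk)
  refine ⟨w ^ (orderOf w / 4), npow_mem_zpowers _ _, ?_⟩
  have h5 : orderOf (w ^ (orderOf w / 4)) = 4 := orderOf_pow_orderOf_div (orderOf_pos w).ne' h4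
  rw [← pow_two, orderOf_pow' _ (by norm_num), h5]
  rfl

/-- In a cyclic subgroup there is at most one involution. -/
theorem uniq_invol {C : Subgroup G} (hc : IsCyclic C) {t c : G} (htC : t ∈ C) (ht : orderOf t = 2)
    (hcC : c ∈ C) (hco : orderOf c = 2) : c = t := by
  classical
  letI : Fintype C := Fintype.ofFinite _
  by_contra hcon
  have h := IsCyclic.card_pow_eq_one_le (α := C) (n := 2) (by norm_num)
  have htt := sq_eq_one_of_order ht
  have hcc := sq_eq_one_of_order hco
  have hsub : ({1, ⟨t, htC⟩, ⟨c, hcC⟩} : Finset C) ⊆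
      Finset.univ.filter (fun a : C => a ^ 2 = 1) := by
    intro a ha
    simp only [Finset.mem_insert, Finset.mem_singleton] at ha
    simp only [Finset.mem_filter, Finset.mem_univ, true_and]
    rcases ha with rfl | rfl | rfl
    · simp
    · apply Subtype.ext
      simpa [sq] using htt
    · apply Subtype.ext
      simpa [sq] using hcc
  have h2 := Finset.card_le_card hsub
  have hcard : ({1, ⟨t, htC⟩, ⟨c, hcC⟩} : Finset C).card = 3 := by
    rw [Finset.card_insert_of_notMem, Finset.card_insert_of_notMem, Finset.card_singleton]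
    · simp only [Finset.mem_singleton]
      intro h0
      exact hcon (congrArg Subtype.val h0).symm
    · simp only [Finset.mem_insert, Finset.mem_singleton, not_or]
      exact ⟨fun h0 => ne_one_of_order_two ht (congrArg Subtype.val h0).symm,
        fun h0 => ne_one_of_order_two hco (congrArg Subtype.val h0).symm⟩
  rw [hcard] at h2
  omega

theorem uniq_invol_zpowers {w t c : G} (htC : t ∈ zpowers w) (ht : orderOf t = 2)
    (hcC : c ∈ zpowers w) (hco : orderOf c = 2) : c = t :=
  uniq_invol inferInstance htC ht hcC hco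

/-- A `2`-element permuting an even subgroup by conjugation has a nontrivial fixed point. -/
theorem exists_fixed_conj (W : Subgroup G) (hW : 2 ∣ Nat.card W) {y : G}
    (hy : ∀ x ∈ W, y * x * y⁻¹ ∈ W) {k : ℕ} (hk : y ^ (2 ^ k) = 1) :
    ∃ x ∈ W, x ≠ 1 ∧ y * x = x * y := by
  classical
  haveI : Fact (Nat.Prime 2) := ⟨Nat.prime_two⟩
  haveI := Fintype.ofFinite W
  let f : Function.End W := fun x => ⟨y * x * y⁻¹, hy x x.2⟩
  have hpow : ∀ n : ℕ, ∀ x : W, (((f ^ n) x : W) : G) = y ^ n * x * (y ^ n)⁻¹ := by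
    intro n
    induction n with
    | zero => intro x; simp; rfl
    | succ n ih =>
      intro x
      rw [pow_succ', Function.End.mul_def]
      show y * ((f ^ n) x : G) * y⁻¹ = _
      rw [ih, pow_succ']
      group
  have hf : f ^ 2 ^ k = 1 := by
    funext x
    apply Subtype.ext
    rw [hpow, hk]
    simp
    rfl
  have hmod := Equiv.Perm.card_fixedPoints_modEq (f := f) (p := 2) (n := k) hf
  have h2 : 2 ∣ Fintype.card W := by
    rw [Nat.card_eq_fintype_card] at hW
    exact hW
  have h3 : 2 ∣ Fintype.card (Function.fixedPoints f) := (hmod.dvd_iff (dvd_refl 2)).mp h2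
  have h4 : (1 : W) ∈ Function.fixedPoints f := by
    show f 1 = 1
    apply Subtype.ext
    show y * 1 * y⁻¹ = 1
    group
  have h5 : 1 < Fintype.card (Function.fixedPoints f) := by
    have : 0 < Fintype.card (Function.fixedPoints f) := Fintype.card_pos_iff.mpr ⟨⟨1, h4⟩⟩
    omega
  obtain ⟨⟨x, hx⟩, hx1⟩ := Fintype.exists_ne_of_one_lt_card h5 ⟨1, h4⟩
  have hx1' : (x : G) ≠ 1 := by
    intro h0
    apply hx1
    apply Subtype.ext
    exact Subtype.ext h0
  have h6 : y * x * y⁻¹ = x := congrArg Subtype.val hx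
  refine ⟨x, x.2, hx1', ?_⟩
  calc y * x = y * x * y⁻¹ * y := by group
    _ = x * y := by rw [h6]

/-- Non-isolation of involutions, via the `Z*`-theorem and the Odd Order statement. -/
theorem exists_conj_ne (hrad : ∀ N : Subgroup G, N.Normal → Group.IsSolvable N → N = ⊥)
    (ft : FT.{u}) (S : Sylow 2 G) {v : G} (hv : orderOf v = 2) (hvS : v ∈ (S : Subgroup G)) :
    ∃ g : G, g * v * g⁻¹ ∈ (S : Subgroup G) ∧ g * v * g⁻¹ ≠ v := by
  by_contra hcon
  push Not at hcon
  obtain ⟨N, hN, hodd, hc⟩ := Cfsg.Agent.S0215.result S v hv hvS hcon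
  have h1 : N = ⊥ := hrad N hN (ft _ hodd)
  have h2 : ∀ g, v * g = g * v := by
    intro g
    have := hc g
    rw [h1, Subgroup.mem_bot, inv_eq_self_of_order hv] at this
    have h3 : v * g * v * g⁻¹ * (g * v) = g * v := by rw [this, one_mul]
    have e : v * g * v * g⁻¹ * (g * v) = v * g * (v * v) := by group
    rw [e, sq_eq_one_of_order hv, mul_one] at h3
    exact h3
  have hnorm : (zpowers v).Normal := by
    constructor
    intro n hn g
    have h3 : n * g = g * n := (comm_of_mem_zpowers hn (h2 g).symm).symm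
    have : g * n * g⁻¹ = n := by rw [← h3]; group
    rw [this]; exact hn
  have hcomm : ∀ a b : zpowers v, a * b = b * a := by
    rintro ⟨a, i, rfl⟩ ⟨b, j, rfl⟩
    exact Subtype.ext (zpow_mul_comm v i j)
  haveI : Group.IsSolvable (zpowers v) := Group.isSolvable_of_comm hcomm
  have h3 := hrad _ hnorm inferInstance
  exact ne_one_of_order_two hv (zpowers_eq_bot.mp h3)

/-- Any `2`-element can be conjugated into a given Sylow subgroup. -/
theorem exists_conj_mem_sylow (S : Sylow 2 G) {x : G} {k : ℕ} (hx : x ^ 2 ^ k = 1) :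
    ∃ g : G, g * x * g⁻¹ ∈ (S : Subgroup G) := by
  haveI : Fact (Nat.Prime 2) := ⟨Nat.prime_two⟩
  have hP : IsPGroup 2 (zpowers x) := by
    rw [IsPGroup.iff_card, Nat.card_zpowers]
    have := orderOf_dvd_of_pow_eq_one hx
    obtain ⟨j, -, hj⟩ := (Nat.dvd_prime_pow Nat.prime_two).mp this
    exact ⟨j, hj⟩
  obtain ⟨Q, hQ⟩ := hP.exists_le_sylow
  obtain ⟨g, hg⟩ := MulAction.exists_smul_eq G Q S
  refine ⟨g, ?_⟩
  rw [← hg]
  have : x ∈ (Q : Subgroup G) := hQ (mem_zpowers x)
  exact ⟨x, this, rfl⟩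

end Cfsg.Agent.Lib.IIG
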